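import Groth.Agent.Lib.Stk.Glue

/-!
# Stacks in terms of gluing of morphisms and objects
-/

set_option backward.isDefEq.respectTransparency false
set_option backward.isDefEq.respectTransparency.types false

universe v₂ u₂ v u

open CategoryTheory CategoryTheory.Functor

namespace GrothLib.Stk.Descent

open GrothLib.FibCat

variable {C : Type u} [Category.{v} C]

section Defs

variable {A : Type u₂} [Category.{v₂} A] (p : A ⥤ C)

/-- Compatible morphisms out of the arrows into `a` over a sieve, lying over `χ`. -/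
structure Local (a b : A) (R : Sieve (p.obj a)) (χ : p.obj a ⟶ p.obj b) where
  n : ∀ {a' : A} (κ : a' ⟶ a), R (p.map κ) → (a' ⟶ b)
  map_n : ∀ {a' : A} (κ : a' ⟶ a) (h : R (p.map κ)), p.map (n κ h) = p.map κ ≫ χ
  comp : ∀ {a'' a' : A} (l : a'' ⟶ a') (κ : a' ⟶ a) (h : R (p.map κ)) (h' : R (p.map (l ≫ κ))),
    l ≫ n κ h = n (l ≫ κ) h'

theorem Local.congr {a b : A} {R : Sieve (p.obj a)} {χ : p.obj a ⟶ p.obj b} (L : Local p a b R χ) {a' : A}
    {κ κ' : a' ⟶ a} (e : κ = κ') (h : R (p.map κ)) (h' : R (p.map κ')) : L.n κ h = L.n κ' h' := by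
  subst e; rfl

theorem mem_of_isHomLift {a a' : A} (R : Sieve (p.obj a)) {V : C} {f : V ⟶ p.obj a} (κ : a' ⟶ a)
    [p.IsHomLift f κ] (hf : R f) : R (p.map κ) := by
  obtain rfl := IsHomLift.domain_eq p f κ
  rwa [← IsHomLift.eq_of_isHomLift p f κ]

theorem Local.isHomLift_n {a b : A} {R : Sieve (p.obj a)} {χ : p.obj a ⟶ p.obj b} (L : Local p a b R χ)
    {a' : A} {V : C} {f : V ⟶ p.obj a} (κ : a' ⟶ a) [p.IsHomLift f κ] (h : R (p.map κ)) :
    p.IsHomLift (f ≫ χ) (L.n κ h) := by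
  obtain rfl := IsHomLift.domain_eq p f κ
  obtain rfl := IsHomLift.eq_of_isHomLift p f κ
  rw [← L.map_n κ h]
  exact IsHomLift.map p _

theorem mem_pullback_eqToHom {a a' : A} {U : C} (ha : p.obj a = U) (R : Sieve U) {V : C} {f : V ⟶ U}
    (κ : a' ⟶ a) [p.IsHomLift f κ] (hf : R f) : R.pullback (eqToHom ha) (p.map κ) := by
  subst ha
  simp only [eqToHom_refl, Sieve.pullback_id]
  exact mem_of_isHomLift p R κ hf

end Defs

variable {𝒳 : BasedCategory.{v₂, u₂} C}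

/-- Morphisms of a prestack glue. -/
theorem exists_hom (h : _root_.FibCat.IsFibGrpd 𝒳.p) {a b : 𝒳.obj} {R : Sieve (𝒳.p.obj a)}
    (hR : (_root_.Stk.resSieve R 𝒳).Full) {χ : 𝒳.p.obj a ⟶ 𝒳.p.obj b} (L : Local 𝒳.p a b R χ) :
    ∃ α : a ⟶ b, 𝒳.p.map α = χ ∧ ∀ {a' : 𝒳.obj} (κ : a' ⟶ a) (hκ : R (𝒳.p.map κ)), κ ≫ α = L.n κ hκ := by
  obtain ⟨b', β, hβ⟩ := h.exists_lift (x := b) χ
  obtain ⟨G, eG, heG⟩ := Yon.exists_functor h a (rfl : 𝒳.p.obj a = _)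
  obtain ⟨G', eG', heG'⟩ := Yon.exists_functor h b' (IsHomLift.domain_eq 𝒳.p χ β)
  have hg : ∀ z : (_root_.FibCat.overCat (𝒳.p.obj a)).obj, 𝒳.p.IsHomLift z.hom (G.map (Yon.toId z) ≫ eG.hom) :=
    fun z => by
      have := Yon.toId_lift z
      exact IsHomLift.comp_lift_id_right' 𝒳.p _ _ (𝒳.p.obj a) _
  have hg' : ∀ z : (_root_.FibCat.overCat (𝒳.p.obj a)).obj,
      𝒳.p.IsHomLift (z.hom ≫ χ) ((G'.map (Yon.toId z) ≫ eG'.hom) ≫ β) := fun z => by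
    have := Yon.toId_lift z
    have : 𝒳.p.IsHomLift z.hom (G'.map (Yon.toId z) ≫ eG'.hom) :=
      IsHomLift.comp_lift_id_right' 𝒳.p _ _ (𝒳.p.obj a) _
    exact inferInstance
  have hm : ∀ z : (_root_.Stk.sieveCat R).obj, ∃ m : G.obj z.obj ⟶ G'.obj z.obj, 𝒳.p.IsHomLift (𝟙 z.obj.left) m ∧
      m ≫ (G'.map (Yon.toId z.obj) ≫ eG'.hom) ≫ β =
        L.n _ (have := hg z.obj; mem_of_isHomLift 𝒳.p R (G.map (Yon.toId z.obj) ≫ eG.hom) z.property) := fun z => by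
    have := hg z.obj
    have := hg' z.obj
    have : 𝒳.p.IsHomLift (𝟙 z.obj.left ≫ z.obj.hom ≫ χ)
        (L.n _ (mem_of_isHomLift 𝒳.p R (G.map (Yon.toId z.obj) ≫ eG.hom) z.property)) := by
      rw [Category.id_comp]; exact Local.isHomLift_n 𝒳.p L _ _
    exact (IsFibGrpd.existsUnique_lift h (z.obj.hom ≫ χ) (𝟙 _) ((G'.map (Yon.toId z.obj) ≫ eG'.hom) ≫ β) _).exists
  choose m hm₁ hm₂ using hm
  let w : BasedFunctor.comp (_root_.Stk.sieveIncl R) G ⟶ BasedFunctor.comp (_root_.Stk.sieveIncl R) G' :=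
    { toNatTrans :=
        { app := m
          naturality := fun z z' φ => by
            change G.map φ.hom ≫ m z' = m z ≫ G'.map φ.hom
            have := hg' z'.obj
            have := hm₁ z
            have := hm₁ z'
            have : (_root_.FibCat.overCat (𝒳.p.obj a)).p.IsHomLift φ.hom.left φ.hom :=
              IsHomLift.map (_root_.FibCat.overCat (𝒳.p.obj a)).p φ.hom
            have : 𝒳.p.IsHomLift φ.hom.left (G.map φ.hom ≫ m z') :=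
              IsHomLift.comp_lift_id_right' 𝒳.p φ.hom.left _ z'.obj.left _
            have : 𝒳.p.IsHomLift φ.hom.left (m z ≫ G'.map φ.hom) :=
              IsHomLift.comp_lift_id_left' 𝒳.p z.obj.left _ φ.hom.left _
            have e : G.map φ.hom ≫ G.map (Yon.toId z'.obj) ≫ eG.hom = G.map (Yon.toId z.obj) ≫ eG.hom := by
              rw [← G.map_comp_assoc, Yon.map_comp_toId]
            have h' : R (𝒳.p.map (G.map φ.hom ≫ G.map (Yon.toId z'.obj) ≫ eG.hom)) := by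
              rw [e]
              exact (have := hg z.obj; mem_of_isHomLift 𝒳.p R _ z.property)
            apply IsFibGrpd.hom_ext h φ.hom.left (z'.obj.hom ≫ χ) ((G'.map (Yon.toId z'.obj) ≫ eG'.hom) ≫ β)
            rw [Category.assoc, hm₂, L.comp _ _ _ h', L.congr 𝒳.p e _ _, ← hm₂ z, Category.assoc (m z) (G'.map φ.hom),
              ← Category.assoc (G'.map φ.hom), ← Category.assoc (G'.map φ.hom), ← G'.map_comp, Yon.map_comp_toId]
            exact (have := hg z.obj; mem_of_isHomLift 𝒳.p R _ z.property) }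
      isHomLift' := hm₁ }
  obtain ⟨γ, hγ⟩ := (_root_.Stk.resSieve R 𝒳).map_surjective w
  have hγ₀ : 𝒳.p.IsHomLift (𝟙 (𝒳.p.obj a)) (γ.toNatTrans.app (Yon.idObj (𝒳.p.obj a))) :=
    γ.isHomLift' (Yon.idObj (𝒳.p.obj a))
  have := isHomLift_id_inv 𝒳.p (R := 𝒳.p.obj a) eG
  refine ⟨eG.inv ≫ γ.toNatTrans.app (Yon.idObj (𝒳.p.obj a)) ≫ eG'.hom ≫ β, ?_, fun {a'} κ hκ => ?_⟩
  · have : 𝒳.p.IsHomLift χ (eG'.hom ≫ β) := IsHomLift.comp_lift_id_left' 𝒳.p (𝒳.p.obj a) eG'.hom χ β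
    have : 𝒳.p.IsHomLift χ (γ.toNatTrans.app (Yon.idObj (𝒳.p.obj a)) ≫ eG'.hom ≫ β) :=
      IsHomLift.comp_lift_id_left' 𝒳.p (𝒳.p.obj a) (γ.toNatTrans.app (Yon.idObj (𝒳.p.obj a))) χ _
    have : 𝒳.p.IsHomLift χ (eG.inv ≫ γ.toNatTrans.app (Yon.idObj (𝒳.p.obj a)) ≫ eG'.hom ≫ β) :=
      IsHomLift.comp_lift_id_left' 𝒳.p (𝒳.p.obj a) eG.inv χ _
    exact (IsHomLift.eq_of_isHomLift 𝒳.p χ _).symm
  · let z : (_root_.Stk.sieveCat R).obj := arrowObj (𝒳.p.map κ) hκ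
    have h1 := hg z.obj
    have : 𝒳.p.IsHomLift (𝒳.p.map κ) (G.map (Yon.toId z.obj) ≫ eG.hom) := h1
    obtain ⟨θ, -, hθ⟩ := IsFibGrpd.exists_iso_of_lifts h (𝒳.p.map κ) (G.map (Yon.toId z.obj) ≫ eG.hom) κ
    have hn : γ.toNatTrans.app z.obj = m z := natTrans_congr_app hγ z
    have hnat : G.map (Yon.toId z.obj) ≫ γ.toNatTrans.app (Yon.idObj (𝒳.p.obj a)) = m z ≫ G'.map (Yon.toId z.obj) := by
      rw [← hn]; exact γ.toNatTrans.naturality (Yon.toId z.obj)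
    have h' : R (𝒳.p.map (θ.hom ≫ G.map (Yon.toId z.obj) ≫ eG.hom)) := by rw [hθ]; exact hκ
    calc κ ≫ eG.inv ≫ γ.toNatTrans.app (Yon.idObj (𝒳.p.obj a)) ≫ eG'.hom ≫ β
        = θ.hom ≫ (G.map (Yon.toId z.obj) ≫ γ.toNatTrans.app (Yon.idObj (𝒳.p.obj a))) ≫ eG'.hom ≫ β := by
          rw [← hθ]; simp
      _ = θ.hom ≫ m z ≫ (G'.map (Yon.toId z.obj) ≫ eG'.hom) ≫ β := by rw [hnat]; simp only [Category.assoc]
      _ = L.n κ hκ := by rw [hm₂, L.comp _ _ _ h']; exact L.congr 𝒳.p hθ _ _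

/-- Morphisms of a prestack are determined locally. -/
theorem hom_ext (h : _root_.FibCat.IsFibGrpd 𝒳.p) {a b : 𝒳.obj} {R : Sieve (𝒳.p.obj a)}
    (hR : (_root_.Stk.resSieve R 𝒳).Faithful) (φ ψ : a ⟶ b) (hp : 𝒳.p.map φ = 𝒳.p.map ψ)
    (H : ∀ {a' : 𝒳.obj} (κ : a' ⟶ a), R (𝒳.p.map κ) → κ ≫ φ = κ ≫ ψ) : φ = ψ :=
  hom_ext_cover h hR φ ψ hp fun V f hf => by
    obtain ⟨a', κ, hκ⟩ := h.exists_lift (x := a) f
    exact ⟨a', κ, hκ, H κ (mem_of_isHomLift 𝒳.p R κ hf)⟩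

/-- Objects of a stack glue. -/
theorem exists_cocone (h : _root_.FibCat.IsFibGrpd 𝒳.p) {U : C} {R : Sieve U}
    (hR : (_root_.Stk.resSieve R 𝒳).EssSurj) (c : _root_.Stk.sieveCat R ⥤ᵇ 𝒳) :
    ∃ (a : 𝒳.obj) (_ : 𝒳.p.obj a = U) (m : ∀ z, c.obj z ⟶ a),
      (∀ z, 𝒳.p.IsHomLift z.obj.hom (m z)) ∧ ∀ {z z'} (φ : z ⟶ z'), c.map φ ≫ m z' = m z := by
  let G := (_root_.Stk.resSieve R 𝒳).objPreimage c
  let i : BasedFunctor.comp (_root_.Stk.sieveIncl R) G ≅ c := (_root_.Stk.resSieve R 𝒳).objObjPreimageIso c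
  refine ⟨G.obj (Yon.idObj U), G.w_obj (Yon.idObj U),
    fun z => (GrothLib.FibCat.isoApp i z).inv ≫ G.map (Yon.toId z.obj), fun z => ?_, fun {z z'} φ => ?_⟩
  · have : 𝒳.p.IsHomLift (𝟙 z.obj.left) (GrothLib.FibCat.isoApp i z).inv := i.inv.isHomLift' z
    have := Yon.toId_lift z.obj
    exact IsHomLift.comp_lift_id_left' 𝒳.p z.obj.left _ z.obj.hom _
  · have e : c.map φ ≫ (GrothLib.FibCat.isoApp i z').inv = (GrothLib.FibCat.isoApp i z).inv ≫ G.map φ.hom :=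
      i.inv.toNatTrans.naturality φ
    rw [reassoc_of% e, ← G.map_comp, Yon.map_comp_toId]
    rfl

/-- Gluing of morphisms and objects gives the stack condition. -/
theorem isStackFor_of_glue (h : _root_.FibCat.IsFibGrpd 𝒳.p) {U : C} {R : Sieve U}
    (hext : ∀ {a b : 𝒳.obj} (ha : 𝒳.p.obj a = U) (_ : 𝒳.p.obj b = U) (φ ψ : a ⟶ b), 𝒳.p.map φ = 𝒳.p.map ψ →
      (∀ {a' : 𝒳.obj} (κ : a' ⟶ a), R.pullback (eqToHom ha) (𝒳.p.map κ) → κ ≫ φ = κ ≫ ψ) → φ = ψ)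
    (hglue : ∀ {a b : 𝒳.obj} (ha : 𝒳.p.obj a = U) (hb : 𝒳.p.obj b = U)
      (L : Local 𝒳.p a b (R.pullback (eqToHom ha)) (eqToHom (ha.trans hb.symm))),
      ∃ α : a ⟶ b, 𝒳.p.map α = eqToHom (ha.trans hb.symm) ∧
        ∀ {a' : 𝒳.obj} (κ : a' ⟶ a) (hκ : R.pullback (eqToHom ha) (𝒳.p.map κ)), κ ≫ α = L.n κ hκ)
    (hobj : ∀ c : _root_.Stk.sieveCat R ⥤ᵇ 𝒳, ∃ (a : 𝒳.obj) (_ : 𝒳.p.obj a = U) (m : ∀ z, c.obj z ⟶ a),
      (∀ z, 𝒳.p.IsHomLift z.obj.hom (m z)) ∧ ∀ {z z'} (φ : z ⟶ z'), c.map φ ≫ m z' = m z) :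
    _root_.Stk.IsStackFor R 𝒳 := by
  have hκl : ∀ {a' a : 𝒳.obj} (ha : 𝒳.p.obj a = U) (κ : a' ⟶ a),
      𝒳.p.IsHomLift (𝒳.p.map κ ≫ eqToHom ha) κ := fun ha κ =>
    IsHomLift.of_fac 𝒳.p _ _ rfl ha (by simp)
  refine { faithful := ⟨fun {x x' α β} e => Yon.hom_ext (Yon.isCartAtId_of_isFibGrpd h x') ?_⟩,
           full := ⟨fun {x x'} β => ?_⟩, essSurj := ⟨fun c => ?_⟩ }
  · have h1 : 𝒳.p.IsHomLift (𝟙 U) (α.toNatTrans.app (Yon.idObj U)) := α.isHomLift' (Yon.idObj U)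
    have h2 : 𝒳.p.IsHomLift (𝟙 U) (β.toNatTrans.app (Yon.idObj U)) := β.isHomLift' (Yon.idObj U)
    refine hext (x.w_obj (Yon.idObj U)) (x'.w_obj (Yon.idObj U)) _ _
      (by rw [IsHomLift.fac' 𝒳.p (𝟙 U) (α.toNatTrans.app (Yon.idObj U)),
        IsHomLift.fac' 𝒳.p (𝟙 U) (β.toNatTrans.app (Yon.idObj U))]) fun {a'} κ hκ => ?_
    let t : (_root_.Stk.sieveCat R).obj := arrowObj (𝒳.p.map κ ≫ eqToHom (x.w_obj (Yon.idObj U))) hκ
    have := hκl (x.w_obj (Yon.idObj U)) κ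
    have h3 : (_root_.FibCat.overCat U).p.IsHomLift (𝒳.p.map κ ≫ eqToHom (x.w_obj (Yon.idObj U))) (Yon.toId t.obj) :=
      Yon.toId_lift t.obj
    have : 𝒳.p.IsHomLift (𝒳.p.map κ ≫ eqToHom (x.w_obj (Yon.idObj U))) (x.map (Yon.toId t.obj)) :=
      have := h3; BasedFunctor.preserves_isHomLift x _ _
    obtain ⟨θ, -, hθ⟩ := IsFibGrpd.exists_iso_of_lifts h (𝒳.p.map κ ≫ eqToHom (x.w_obj (Yon.idObj U)))
      (x.map (Yon.toId t.obj)) κ
    rw [← hθ, Category.assoc, Category.assoc, α.toNatTrans.naturality, β.toNatTrans.naturality,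
      show α.toNatTrans.app t.obj = β.toNatTrans.app t.obj from natTrans_congr_app e t]
  · let a := x.obj (Yon.idObj U)
    let b := x'.obj (Yon.idObj U)
    have ha : 𝒳.p.obj a = U := x.w_obj (Yon.idObj U)
    have hb : 𝒳.p.obj b = U := x'.w_obj (Yon.idObj U)
    have hx : ∀ t : (_root_.Stk.sieveCat R).obj, 𝒳.p.IsHomLift t.obj.hom (x.map (Yon.toId t.obj)) := fun t =>
      have := Yon.toId_lift t.obj; inferInstance
    have hrep : ∀ {a' : 𝒳.obj} (κ : a' ⟶ a), R.pullback (eqToHom ha) (𝒳.p.map κ) →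
        ∃ n : a' ⟶ b, ∀ (t : (_root_.Stk.sieveCat R).obj) (ν : a' ⟶ x.obj t.obj),
          ν ≫ x.map (Yon.toId t.obj) = κ → ν ≫ β.toNatTrans.app t ≫ x'.map (Yon.toId t.obj) = n := fun {a'} κ hκ => by
      let w : (_root_.Stk.sieveCat R).obj := arrowObj (𝒳.p.map κ ≫ eqToHom ha) hκ
      have := hκl ha κ
      have : 𝒳.p.IsHomLift (𝒳.p.map κ ≫ eqToHom ha) (x.map (Yon.toId w.obj)) := hx w
      have : 𝒳.p.IsHomLift (𝟙 (𝒳.p.obj a') ≫ 𝒳.p.map κ ≫ eqToHom ha) κ := by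
        rw [Category.id_comp]; exact hκl ha κ
      obtain ⟨μ, ⟨hμ, eμ⟩, -⟩ := IsFibGrpd.existsUnique_lift h (𝒳.p.map κ ≫ eqToHom ha) (𝟙 _)
        (x.map (Yon.toId w.obj)) κ
      refine ⟨μ ≫ β.toNatTrans.app w ≫ x'.map (Yon.toId w.obj), fun t ν eν => ?_⟩
      have := hx t
      have ht : 𝒳.p.obj (x.obj t.obj) = t.obj.left := x.w_obj t.obj
      have hν : (𝒳.p.map ν ≫ eqToHom ht) ≫ t.obj.hom = 𝒳.p.map κ ≫ eqToHom ha := by
        rw [← eν, 𝒳.p.map_comp, IsHomLift.fac' 𝒳.p t.obj.hom (x.map (Yon.toId t.obj))]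
        simp
      let φ : w ⟶ t := ObjectProperty.homMk (Over.homMk (𝒳.p.map ν ≫ eqToHom ht) hν)
      have : (_root_.FibCat.overCat U).p.IsHomLift (𝒳.p.map ν ≫ eqToHom ht) φ.hom :=
        IsHomLift.map (_root_.FibCat.overCat U).p φ.hom
      have : 𝒳.p.IsHomLift (𝒳.p.map ν ≫ eqToHom ht) (μ ≫ x.map φ.hom) :=
        IsHomLift.comp_lift_id_left' 𝒳.p (𝒳.p.obj a') μ (𝒳.p.map ν ≫ eqToHom ht) (x.map φ.hom)
      have : 𝒳.p.IsHomLift (𝒳.p.map ν ≫ eqToHom ht) ν := IsHomLift.of_fac 𝒳.p _ _ rfl ht (by simp)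
      have e1 : μ ≫ x.map φ.hom = ν := by
        apply IsFibGrpd.hom_ext h (𝒳.p.map ν ≫ eqToHom ht) t.obj.hom (x.map (Yon.toId t.obj))
        rw [Category.assoc, ← x.map_comp, Yon.map_comp_toId, eμ, eν]
      have e2 : x.map φ.hom ≫ β.toNatTrans.app t = β.toNatTrans.app w ≫ x'.map φ.hom := β.toNatTrans.naturality φ
      rw [← e1, Category.assoc, reassoc_of% e2, ← x'.map_comp, Yon.map_comp_toId]
      rfl
    choose n hn using @hrep
    have hcan : ∀ {a' : 𝒳.obj} (κ : a' ⟶ a) (hκ : R.pullback (eqToHom ha) (𝒳.p.map κ)),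
        ∃ (t : (_root_.Stk.sieveCat R).obj) (ν : a' ⟶ x.obj t.obj),
          𝒳.p.IsHomLift (𝟙 t.obj.left) ν ∧ t.obj.left = 𝒳.p.obj a' ∧ ν ≫ x.map (Yon.toId t.obj) = κ ∧
            𝒳.p.IsHomLift t.obj.hom κ := fun {a'} κ hκ => by
      let w : (_root_.Stk.sieveCat R).obj := arrowObj (𝒳.p.map κ ≫ eqToHom ha) hκ
      have := hκl ha κ
      have : 𝒳.p.IsHomLift (𝒳.p.map κ ≫ eqToHom ha) (x.map (Yon.toId w.obj)) := hx w
      have : 𝒳.p.IsHomLift (𝟙 (𝒳.p.obj a') ≫ 𝒳.p.map κ ≫ eqToHom ha) κ := by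
        rw [Category.id_comp]; exact hκl ha κ
      obtain ⟨μ, ⟨hμ, eμ⟩, -⟩ := IsFibGrpd.existsUnique_lift h (𝒳.p.map κ ≫ eqToHom ha) (𝟙 _)
        (x.map (Yon.toId w.obj)) κ
      exact ⟨w, μ, hμ, rfl, eμ, hκl ha κ⟩
    obtain ⟨α, hα, hα'⟩ := hglue ha hb
      { n := fun κ hκ => n κ hκ
        map_n := fun {a'} κ hκ => by
          obtain ⟨t, ν, hν, -, eν, hκ'⟩ := hcan κ hκ
          rw [← hn κ hκ t ν eν]
          have := Yon.toId_lift t.obj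
          have : 𝒳.p.IsHomLift (𝟙 t.obj.left) (β.toNatTrans.app t) := β.isHomLift' t
          have : 𝒳.p.IsHomLift t.obj.hom (β.toNatTrans.app t ≫ x'.map (Yon.toId t.obj)) :=
            IsHomLift.comp_lift_id_left' 𝒳.p t.obj.left (β.toNatTrans.app t) t.obj.hom (x'.map (Yon.toId t.obj))
          have : 𝒳.p.IsHomLift t.obj.hom (ν ≫ β.toNatTrans.app t ≫ x'.map (Yon.toId t.obj)) :=
            IsHomLift.comp_lift_id_left' 𝒳.p t.obj.left ν t.obj.hom _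
          rw [IsHomLift.fac' 𝒳.p t.obj.hom (ν ≫ β.toNatTrans.app t ≫ x'.map (Yon.toId t.obj)),
            IsHomLift.fac' 𝒳.p t.obj.hom κ]
          simp
        comp := fun {a'' a'} l κ hκ h' => by
          obtain ⟨t, ν, -, -, eν, -⟩ := hcan κ hκ
          rw [← hn κ hκ t ν eν, ← hn (l ≫ κ) h' t (l ≫ ν) (by rw [Category.assoc, eν]), Category.assoc] }
    have hαl : 𝒳.p.IsHomLift (𝟙 U) α := IsHomLift.of_fac' 𝒳.p (𝟙 U) α ha hb (by simp [hα])
    refine ⟨Yon.extend (Yon.isCartAtId_of_isFibGrpd h x') α, natTrans_ext fun t => ?_⟩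
    have := Yon.toId_lift t.obj
    have : 𝒳.p.IsHomLift (𝟙 t.obj.left) (β.toNatTrans.app t) := β.isHomLift' t
    have : 𝒳.p.IsHomLift (𝟙 t.obj.left)
        ((Yon.extend (Yon.isCartAtId_of_isFibGrpd h x') α).toNatTrans.app t.obj) :=
      (Yon.extend (Yon.isCartAtId_of_isFibGrpd h x') α).isHomLift' t.obj
    apply IsFibGrpd.hom_ext h (𝟙 t.obj.left) t.obj.hom (x'.map (Yon.toId t.obj))
      (χ := (Yon.extend (Yon.isCartAtId_of_isFibGrpd h x') α).toNatTrans.app t.obj) (χ' := β.toNatTrans.app t)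
    have ht := hx t
    have hmem : R.pullback (eqToHom ha) (𝒳.p.map (x.map (Yon.toId t.obj))) :=
      mem_pullback_eqToHom 𝒳.p ha R (f := t.obj.hom) (x.map (Yon.toId t.obj)) t.property
    rw [← (Yon.extend (Yon.isCartAtId_of_isFibGrpd h x') α).toNatTrans.naturality, Yon.extend_app_id]
    exact (hα' _ hmem).trans ((hn _ hmem t (𝟙 _) (Category.id_comp _)).symm.trans (Category.id_comp _))
  · obtain ⟨a, ha, m, hm, hm'⟩ := hobj c
    obtain ⟨x, e, he⟩ := Yon.exists_functor h a ha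
    have hk : ∀ z : (_root_.Stk.sieveCat R).obj, ∃ k : c.obj z ⟶ x.obj z.obj,
        𝒳.p.IsHomLift (𝟙 z.obj.left) k ∧ k ≫ x.map (Yon.toId z.obj) ≫ e.hom = m z := fun z => by
      have := Yon.toId_lift z.obj
      have : 𝒳.p.IsHomLift z.obj.hom (x.map (Yon.toId z.obj) ≫ e.hom) :=
        IsHomLift.comp_lift_id_right' 𝒳.p _ _ U _
      have : 𝒳.p.IsHomLift (𝟙 z.obj.left ≫ z.obj.hom) (m z) := by rw [Category.id_comp]; exact hm z
      exact (IsFibGrpd.existsUnique_lift h z.obj.hom (𝟙 _) (x.map (Yon.toId z.obj) ≫ e.hom) (m z)).exists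
    choose k hk₁ hk₂ using hk
    let K : c ⟶ BasedFunctor.comp (_root_.Stk.sieveIncl R) x :=
      { toNatTrans :=
          { app := k
            naturality := fun z z' φ => by
              change c.map φ ≫ k z' = k z ≫ x.map φ.hom
              have := Yon.toId_lift z'.obj
              have : 𝒳.p.IsHomLift z'.obj.hom (x.map (Yon.toId z'.obj) ≫ e.hom) :=
                IsHomLift.comp_lift_id_right' 𝒳.p _ _ U _
              have := hk₁ z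
              have := hk₁ z'
              have : (_root_.Stk.sieveCat R).p.IsHomLift φ.hom.left φ := IsHomLift.map (_root_.Stk.sieveCat R).p φ
              have : (_root_.FibCat.overCat U).p.IsHomLift φ.hom.left φ.hom :=
                IsHomLift.map (_root_.FibCat.overCat U).p φ.hom
              have : 𝒳.p.IsHomLift φ.hom.left (c.map φ ≫ k z') :=
                IsHomLift.comp_lift_id_right' 𝒳.p φ.hom.left _ z'.obj.left _
              have : 𝒳.p.IsHomLift φ.hom.left (k z ≫ x.map φ.hom) :=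
                IsHomLift.comp_lift_id_left' 𝒳.p z.obj.left _ φ.hom.left _
              apply IsFibGrpd.hom_ext h φ.hom.left z'.obj.hom (x.map (Yon.toId z'.obj) ≫ e.hom)
              rw [Category.assoc, hk₂, hm', Category.assoc, ← x.map_comp_assoc, Yon.map_comp_toId, hk₂] }
        isHomLift' := hk₁ }
    exact ⟨x, ⟨(isoOfHom h K).symm⟩⟩

end GrothLib.Stk.Descent
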