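import Groth.Agent.Lib.Stk.Descent
import Mathlib.Algebra.Group.Units.Basic
import Mathlib.CategoryTheory.Endomorphism

/-!
# Twisting a functor on a sieve by automorphisms
-/

set_option backward.isDefEq.respectTransparency false
set_option backward.isDefEq.respectTransparency.types false

universe v₂ u₂ v₁ u₁ v u

open CategoryTheory CategoryTheory.Functor

namespace GrothLib.Stk.Twist

variable {C : Type u} [Category.{v} C] {𝒜 : BasedCategory.{v₁, u₁} C} {𝒳 : BasedCategory.{v₂, u₂} C}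

section

variable (G : 𝒜 ⥤ᵇ 𝒳) (σ : ∀ z, Aut (G.obj z))

theorem zpow_natural {z' z : 𝒜.obj} (f : z' ⟶ z) (h : (σ z').hom ≫ G.map f = G.map f ≫ (σ z).hom) (n : ℤ) :
    (σ z' ^ n).hom ≫ G.map f = G.map f ≫ (σ z ^ n).hom := by
  induction n with
  | zero =>
    simp only [zpow_zero]
    exact (Category.id_comp _).trans (Category.comp_id _).symm
  | succ m ih =>
    simp only [zpow_add, zpow_one]
    change ((σ z').hom ≫ (σ z' ^ (m : ℤ)).hom) ≫ G.map f = G.map f ≫ ((σ z).hom ≫ (σ z ^ (m : ℤ)).hom)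
    rw [Category.assoc, ih, reassoc_of% h]
  | pred m ih =>
    have h' : (σ z').inv ≫ G.map f = G.map f ≫ (σ z).inv := by
      rw [Iso.inv_comp_eq, reassoc_of% h, Iso.hom_inv_id, Category.comp_id]
    simp only [zpow_sub, zpow_one]
    change ((σ z').inv ≫ (σ z' ^ (-(m : ℤ))).hom) ≫ G.map f = G.map f ≫ ((σ z).inv ≫ (σ z ^ (-(m : ℤ))).hom)
    rw [Category.assoc, ih, reassoc_of% h']

theorem isHomLift_zpow (z : 𝒜.obj) (hσ : 𝒳.p.IsHomLift (𝟙 (𝒜.p.obj z)) (σ z).hom) (n : ℤ) :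
    𝒳.p.IsHomLift (𝟙 (𝒜.p.obj z)) (σ z ^ n).hom := by
  induction n with
  | zero =>
    rw [zpow_zero]
    exact IsHomLift.id (G.w_obj z)
  | succ m ih =>
    simp only [zpow_add, zpow_one]
    change 𝒳.p.IsHomLift (𝟙 (𝒜.p.obj z)) ((σ z).hom ≫ (σ z ^ (m : ℤ)).hom)
    exact IsHomLift.comp_lift_id_left' 𝒳.p (𝒜.p.obj z) (σ z).hom _ _
  | pred m ih =>
    simp only [zpow_sub, zpow_one]
    change 𝒳.p.IsHomLift (𝟙 (𝒜.p.obj z)) ((σ z).inv ≫ (σ z ^ (-(m : ℤ))).hom)
    have : 𝒳.p.IsHomLift (𝟙 (𝒜.p.obj z)) (σ z).inv := IsHomLift.lift_id_inv _ _ _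
    exact IsHomLift.comp_lift_id_left' 𝒳.p (𝒜.p.obj z) (σ z).inv _ _

/-- The twist of `G` by the cochain `k` with values in the powers of the automorphisms `σ`. -/
def functor (hσ : ∀ z, 𝒳.p.IsHomLift (𝟙 (𝒜.p.obj z)) (σ z).hom) (k : 𝒜.obj → ℤ)
    (hnat : ∀ {z'' z' : 𝒜.obj} (f : z'' ⟶ z') (z : 𝒜.obj) (_ : z' ⟶ z), k z' ≠ k z →
      (σ z'').hom ≫ G.map f = G.map f ≫ (σ z').hom) : 𝒜 ⥤ᵇ 𝒳 where
  toFunctor :=
    { obj := fun z => G.obj z
      map := fun {z' z} f => (σ z' ^ (k z - k z')).hom ≫ G.map f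
      map_id := fun z => by rw [G.map_id, Category.comp_id, sub_self, zpow_zero]; rfl
      map_comp := fun {z'' z' z} f g => by
        rw [G.map_comp]
        simp only [Category.assoc]
        have e : (σ z'' ^ (k z - k z')).hom ≫ G.map f = G.map f ≫ (σ z' ^ (k z - k z')).hom := by
          by_cases h : k z' = k z
          · rw [h, sub_self, zpow_zero, zpow_zero]
            exact (Category.id_comp _).trans (Category.comp_id _).symm
          · exact zpow_natural G σ f (hnat f z g h) _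
        rw [← reassoc_of% e, ← Category.assoc (σ z'' ^ (k z' - k z'')).hom, show (σ z'' ^ (k z' - k z'')).hom ≫ (σ z'' ^ (k z - k z')).hom =
          (σ z'' ^ (k z - k z') * σ z'' ^ (k z' - k z'')).hom from rfl, ← zpow_add]
        congr 3
        omega }
  w := CategoryTheory.Functor.ext (fun z => G.w_obj z) (fun z' z f => by
    have := isHomLift_zpow G σ z' (hσ z') (k z - k z')
    have : 𝒳.p.IsHomLift (𝒜.p.map f) ((σ z' ^ (k z - k z')).hom ≫ G.map f) :=
      IsHomLift.comp_lift_id_left' 𝒳.p (𝒜.p.obj z') _ _ _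
    exact IsHomLift.fac' 𝒳.p (𝒜.p.map f) ((σ z' ^ (k z - k z')).hom ≫ G.map f))

end

end GrothLib.Stk.Twist
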