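import Groth.Agent.Lib.Stk.Basic
import Groth.Agent.Lib.FibCat.Yoneda
import Groth.Agent.Lib.FibCat.Equiv

/-!
# Morphisms agreeing on a cover, lifting functors through fully faithful ones
-/

set_option backward.isDefEq.respectTransparency false
set_option backward.isDefEq.respectTransparency.types false

universe v₅ u₅ v₃ u₃ v₂ u₂ v u

open CategoryTheory CategoryTheory.Functor

namespace GrothLib.Stk

open GrothLib.FibCat

variable {C : Type u} [Category.{v} C]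
variable {𝒳 : BasedCategory.{v₂, u₂} C} {𝒴 : BasedCategory.{v₃, u₃} C} {𝒜 : BasedCategory.{v₅, u₅} C}

/-- The object of the sieve given by one of its arrows. -/
abbrev arrowObj {U : C} {R : Sieve U} {V : C} (f : V ⟶ U) (hf : R f) : (_root_.Stk.sieveCat R).obj := ⟨Over.mk f, hf⟩

/-- Vertical morphisms agreeing on a cover are equal. -/
theorem hom_ext_cover_id (h : _root_.FibCat.IsFibGrpd 𝒳.p) {U : C} {R : Sieve U}
    (hR : (_root_.Stk.resSieve R 𝒳).Faithful) {a b : 𝒳.obj} (φ ψ : a ⟶ b)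
    [𝒳.p.IsHomLift (𝟙 U) φ] [𝒳.p.IsHomLift (𝟙 U) ψ]
    (H : ∀ ⦃V : C⦄ (f : V ⟶ U), R f → ∃ (a' : 𝒳.obj) (κ : a' ⟶ a), 𝒳.p.IsHomLift f κ ∧ κ ≫ φ = κ ≫ ψ) :
    φ = ψ := by
  obtain ⟨G, eG, heG⟩ := Yon.exists_functor h a (IsHomLift.domain_eq 𝒳.p (𝟙 U) φ)
  obtain ⟨G', eG', heG'⟩ := Yon.exists_functor h b (IsHomLift.codomain_eq 𝒳.p (𝟙 U) φ)
  have := isHomLift_id_inv 𝒳.p (R := U) eG'
  have hcart := Yon.isCartAtId_of_isFibGrpd h G'
  let α := Yon.extend (G := G) hcart (eG.hom ≫ φ ≫ eG'.inv)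
  let β := Yon.extend (G := G) hcart (eG.hom ≫ ψ ≫ eG'.inv)
  have hαβ : α = β := by
    refine hR.map_injective (natTrans_ext fun z => ?_)
    change α.toNatTrans.app z.obj = β.toNatTrans.app z.obj
    obtain ⟨a', κ, hκ, e⟩ := H z.obj.hom z.property
    have := hcart z.obj
    have h1 : 𝒳.p.IsHomLift (𝟙 z.obj.left) (α.toNatTrans.app z.obj) := α.isHomLift' z.obj
    have h2 : 𝒳.p.IsHomLift (𝟙 z.obj.left) (β.toNatTrans.app z.obj) := β.isHomLift' z.obj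
    apply IsStronglyCartesian.ext 𝒳.p z.obj.hom (G'.map (Yon.toId z.obj)) (𝟙 z.obj.left)
    rw [← α.toNatTrans.naturality, ← β.toNatTrans.naturality, Yon.extend_app_id, Yon.extend_app_id]
    have := Yon.toId_lift z.obj
    have : 𝒳.p.IsHomLift z.obj.hom (G.map (Yon.toId z.obj)) := inferInstance
    have : 𝒳.p.IsHomLift z.obj.hom (G.map (Yon.toId z.obj) ≫ eG.hom) :=
      IsHomLift.comp_lift_id_right' 𝒳.p _ _ U _
    obtain ⟨θ, -, hθ⟩ := IsFibGrpd.exists_iso_of_lifts h z.obj.hom κ (G.map (Yon.toId z.obj) ≫ eG.hom)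
    rw [← Category.assoc (G.map (Yon.toId z.obj)) eG.hom, ← Category.assoc (G.map (Yon.toId z.obj)) eG.hom,
      ← hθ, Category.assoc, Category.assoc, reassoc_of% e]
  have e := congrArg (fun t => t.toNatTrans.app (Yon.idObj U)) hαβ
  simp only [α, β, Yon.extend_app_id] at e
  exact (cancel_mono eG'.inv).1 ((cancel_epi eG.hom).1 e)

/-- Morphisms over one base morphism agreeing on a cover of the source are equal. -/
theorem hom_ext_cover (h : _root_.FibCat.IsFibGrpd 𝒳.p) {a b : 𝒳.obj} {R : Sieve (𝒳.p.obj a)}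
    (hR : (_root_.Stk.resSieve R 𝒳).Faithful) (φ ψ : a ⟶ b) (hp : 𝒳.p.map φ = 𝒳.p.map ψ)
    (H : ∀ ⦃V : C⦄ (f : V ⟶ 𝒳.p.obj a), R f →
      ∃ (a' : 𝒳.obj) (κ : a' ⟶ a), 𝒳.p.IsHomLift f κ ∧ κ ≫ φ = κ ≫ ψ) : φ = ψ := by
  have hψ : 𝒳.p.IsHomLift (𝒳.p.map φ) ψ := hp ▸ IsHomLift.map 𝒳.p ψ
  obtain ⟨b', β, hβ⟩ := h.exists_lift (x := b) (𝒳.p.map φ)
  have : 𝒳.p.IsHomLift (𝟙 (𝒳.p.obj a) ≫ 𝒳.p.map φ) φ := by rw [Category.id_comp]; exact IsHomLift.map 𝒳.p φ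
  have : 𝒳.p.IsHomLift (𝟙 (𝒳.p.obj a) ≫ 𝒳.p.map φ) ψ := by rw [Category.id_comp]; exact hψ
  obtain ⟨φ₁, ⟨hφ₁, eφ⟩, -⟩ := IsFibGrpd.existsUnique_lift h (𝒳.p.map φ) (𝟙 (𝒳.p.obj a)) β φ
  obtain ⟨ψ₁, ⟨hψ₁, eψ⟩, -⟩ := IsFibGrpd.existsUnique_lift h (𝒳.p.map φ) (𝟙 (𝒳.p.obj a)) β ψ
  have := hom_ext_cover_id h hR φ₁ ψ₁ fun V f hf => by
    obtain ⟨a', κ, hκ, e⟩ := H f hf
    refine ⟨a', κ, hκ, IsFibGrpd.hom_ext h f (𝒳.p.map φ) β ?_⟩
    rw [Category.assoc, Category.assoc, eφ, eψ, e]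
  rw [← eφ, ← eψ, this]

/-- Composition with a fully faithful functor is fully faithful. -/
theorem full_post (j : 𝒳 ⥤ᵇ 𝒴) [j.toFunctor.Full] [j.toFunctor.Faithful] : (post 𝒜 j).Full := by
  refine ⟨fun {G H} α => ?_⟩
  let β : G ⟶ H :=
    { toNatTrans :=
        { app := fun a => j.toFunctor.preimage (α.toNatTrans.app a)
          naturality := fun a b φ => j.toFunctor.map_injective (by
            rw [Functor.map_comp, Functor.map_comp, Functor.map_preimage, Functor.map_preimage]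
            exact α.toNatTrans.naturality φ) }
      isHomLift' := fun a => (j.isHomLift_iff _ _).1 (by
        change 𝒴.p.IsHomLift _ (j.map (j.toFunctor.preimage (α.toNatTrans.app a)))
        rw [Functor.map_preimage]
        exact α.isHomLift' a) }
  exact ⟨β, natTrans_ext fun a => j.toFunctor.map_preimage _⟩

theorem faithful_post (j : 𝒳 ⥤ᵇ 𝒴) [j.toFunctor.Faithful] : (post 𝒜 j).Faithful :=
  ⟨fun {G H α β} e => natTrans_ext fun a => j.toFunctor.map_injective (natTrans_congr_app e a)⟩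

/-- Functors landing in the essential image of a fully faithful functor lift. -/
theorem exists_lift_of_ff (j : 𝒳 ⥤ᵇ 𝒴) [j.toFunctor.Full] [j.toFunctor.Faithful] (G : 𝒜 ⥤ᵇ 𝒴)
    (h : ∀ a, ∃ (x : 𝒳.obj) (e : j.obj x ≅ G.obj a), 𝒴.p.IsHomLift (𝟙 (𝒜.p.obj a)) e.hom) :
    ∃ G' : 𝒜 ⥤ᵇ 𝒳, Nonempty (BasedFunctor.comp G' j ≅ G) := by
  choose x e he using h
  have hx : ∀ a, 𝒳.p.obj (x a) = 𝒜.p.obj a := fun a =>
    (j.w_obj (x a)).symm.trans (have := he a; IsHomLift.domain_eq 𝒴.p (𝟙 (𝒜.p.obj a)) (e a).hom)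
  let m : ∀ {a b : 𝒜.obj} (φ : a ⟶ b), x a ⟶ x b := fun {a b} φ =>
    j.toFunctor.preimage ((e a).hom ≫ G.map φ ≫ (e b).inv)
  have hm : ∀ {a b : 𝒜.obj} (φ : a ⟶ b), 𝒳.p.IsHomLift (𝒜.p.map φ) (m φ) := fun {a b} φ => by
    have := he a
    have := he b
    have := isHomLift_id_inv 𝒴.p (R := 𝒜.p.obj b) (e b)
    rw [← j.isHomLift_iff]
    simp only [m, Functor.map_preimage]
    infer_instance
  let G' : 𝒜 ⥤ᵇ 𝒳 :=
    { toFunctor :=
        { obj := x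
          map := m
          map_id := fun a => j.toFunctor.map_injective (by simp [m])
          map_comp := fun φ ψ => j.toFunctor.map_injective (by simp [m]) }
      w := CategoryTheory.Functor.ext hx fun a b φ => have := hm φ; IsHomLift.fac' 𝒳.p (𝒜.p.map φ) (m φ) }
  exact ⟨G', ⟨natIsoOfComponents e (fun a => he a) (fun {a b} φ => by
    change j.map (j.toFunctor.preimage _) ≫ _ = _
    rw [Functor.map_preimage]
    simp)⟩⟩

/-- The stack condition for a fully faithful functor with saturated image. -/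
theorem isStackFor_of_ff {U : C} {R : Sieve U} (j : 𝒳 ⥤ᵇ 𝒴) [j.toFunctor.Full] [j.toFunctor.Faithful]
    (hY : _root_.Stk.IsStackFor R 𝒴)
    (h : ∀ G : _root_.FibCat.overCat U ⥤ᵇ 𝒴,
      (∀ z : (_root_.Stk.sieveCat R).obj, ∃ (x : 𝒳.obj) (e : j.obj x ≅ G.obj z.obj), 𝒴.p.IsHomLift (𝟙 z.obj.left) e.hom) →
      ∀ a : (_root_.FibCat.overCat U).obj, ∃ (x : 𝒳.obj) (e : j.obj x ≅ G.obj a), 𝒴.p.IsHomLift (𝟙 a.left) e.hom) :
    _root_.Stk.IsStackFor R 𝒳 := by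
  have : (_root_.Stk.resSieve R 𝒴).IsEquivalence := hY
  have := full_post (𝒜 := _root_.FibCat.overCat U) j
  have := faithful_post (𝒜 := _root_.FibCat.overCat U) j
  have := full_post (𝒜 := _root_.Stk.sieveCat R) j
  have := faithful_post (𝒜 := _root_.Stk.sieveCat R) j
  refine { faithful := Functor.Faithful.of_comp_iso (H := post (_root_.FibCat.overCat U) j ⋙ _root_.Stk.resSieve R 𝒴)
             (resSievePostIso R j),
           full := @Functor.Full.of_comp_faithful_iso _ _ _ _ _ _ _ (post (_root_.Stk.sieveCat R) j)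
             (post (_root_.FibCat.overCat U) j ⋙ _root_.Stk.resSieve R 𝒴) _ _ (resSievePostIso R j),
           essSurj := ⟨fun c => ?_⟩ }
  let G := (_root_.Stk.resSieve R 𝒴).objPreimage (BasedFunctor.comp c j)
  let i : BasedFunctor.comp (_root_.Stk.sieveIncl R) G ≅ BasedFunctor.comp c j :=
    (_root_.Stk.resSieve R 𝒴).objObjPreimageIso _
  obtain ⟨G', ⟨k⟩⟩ := exists_lift_of_ff j G (h G fun z =>
    ⟨c.obj z, (isoApp i z).symm, by
      have := isHomLift_isoApp i (x := z) (U := z.obj.left) rfl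
      exact isHomLift_id_inv 𝒴.p (R := z.obj.left) (isoApp i z)⟩)
  exact ⟨G', ⟨(post (_root_.Stk.sieveCat R) j).preimageIso
    (whiskerLeftIso (_root_.Stk.sieveIncl R) k ≪≫ i)⟩⟩

section LocalEssSurj

universe w₁ u₁

variable {𝒮 : BasedCategory.{w₁, u₁} C}

/-- A local lifting hypothesis, with the base of the object named. -/
theorem exists_local_lift {J : GrothendieckTopology C} (F : 𝒳 ⥤ᵇ 𝒮)
    (hF : ∀ y : 𝒮.obj, ∃ R ∈ J (𝒮.p.obj y), ∀ ⦃V : C⦄ (f : V ⟶ 𝒮.p.obj y), R f →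
      ∃ (x : 𝒳.obj) (φ : F.obj x ⟶ y), 𝒮.p.IsHomLift f φ) (y : 𝒮.obj) {U : C} (hy : 𝒮.p.obj y = U) :
    ∃ R ∈ J U, ∀ ⦃V : C⦄ (f : V ⟶ U), R f → ∃ (x : 𝒳.obj) (φ : F.obj x ⟶ y), 𝒮.p.IsHomLift f φ := by
  subst hy; exact hF y

/-- To compare two morphisms it suffices to compare their vertical parts at objects in the image of a locally
essentially surjective functor. -/
theorem hom_ext_of_local {J : GrothendieckTopology C} (hS : _root_.FibCat.IsFibGrpd 𝒮.p)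
    (hY : _root_.Stk.IsStack J 𝒴) (F : 𝒳 ⥤ᵇ 𝒮) (G : 𝒴 ⥤ᵇ 𝒮)
    (hF : ∀ y : 𝒮.obj, ∃ R ∈ J (𝒮.p.obj y), ∀ ⦃V : C⦄ (f : V ⟶ 𝒮.p.obj y), R f →
      ∃ (x : 𝒳.obj) (φ : F.obj x ⟶ y), 𝒮.p.IsHomLift f φ)
    {a b : 𝒴.obj} (φ ψ : a ⟶ b) (hp : 𝒴.p.map φ = 𝒴.p.map ψ)
    (K : ∀ (x : 𝒳.obj) (a' b' : 𝒴.obj) (θ : F.obj x ≅ G.obj a') (φ' ψ' : a' ⟶ b') (κ : a' ⟶ a) (β : b' ⟶ b),
      𝒮.p.IsHomLift (𝟙 (𝒳.p.obj x)) θ.hom → 𝒴.p.IsHomLift (𝟙 (𝒳.p.obj x)) φ' →
      𝒴.p.IsHomLift (𝟙 (𝒳.p.obj x)) ψ' → φ' ≫ β = κ ≫ φ → ψ' ≫ β = κ ≫ ψ → φ' = ψ') : φ = ψ := by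
  obtain ⟨R, hR, hl⟩ := exists_local_lift F hF (G.obj a) (G.w_obj a)
  have : (_root_.Stk.resSieve R 𝒴).IsEquivalence := hY.2 R hR
  refine hom_ext_cover hY.1 (R := R) inferInstance φ ψ hp fun V f hf => ?_
  obtain ⟨x, χ, hχ⟩ := hl f hf
  obtain ⟨a', κ, hκ⟩ := hY.1.exists_lift (x := a) f
  obtain ⟨b', β, hβ⟩ := hY.1.exists_lift (x := b) (f ≫ 𝒴.p.map φ)
  have hx : 𝒳.p.obj x = V := (F.w_obj x).symm.trans (IsHomLift.domain_eq 𝒮.p f χ)
  subst hx
  have h1 : 𝒴.p.IsHomLift (𝟙 (𝒳.p.obj x) ≫ f ≫ 𝒴.p.map φ) (κ ≫ φ) := by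
    rw [Category.id_comp]; exact inferInstance
  have : 𝒴.p.IsHomLift (𝒴.p.map φ) ψ := hp ▸ IsHomLift.map 𝒴.p ψ
  have h2 : 𝒴.p.IsHomLift (𝟙 (𝒳.p.obj x) ≫ f ≫ 𝒴.p.map φ) (κ ≫ ψ) := by
    rw [Category.id_comp]; exact inferInstance
  obtain ⟨φ', ⟨hφ', eφ⟩, -⟩ := IsFibGrpd.existsUnique_lift hY.1 (f ≫ 𝒴.p.map φ) (𝟙 _) β (κ ≫ φ)
  obtain ⟨ψ', ⟨hψ', eψ⟩, -⟩ := IsFibGrpd.existsUnique_lift hY.1 (f ≫ 𝒴.p.map φ) (𝟙 _) β (κ ≫ ψ)
  obtain ⟨θ, hθ, -⟩ := IsFibGrpd.exists_iso_of_lifts hS f (G.map κ) χ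
  exact ⟨a', κ, hκ, by rw [← eφ, ← eψ, K x a' b' θ φ' ψ' κ β hθ hφ' hψ' eφ eψ]⟩

end LocalEssSurj

section Refine

/-- Lifts of one morphism agreeing on a cover of the source are equal. -/
theorem hom_ext_cover_lift (h : _root_.FibCat.IsFibGrpd 𝒳.p) {U U' : C} {R : Sieve U}
    (hR : (_root_.Stk.resSieve R 𝒳).Faithful) (g : U ⟶ U') {a b : 𝒳.obj} (φ ψ : a ⟶ b)
    [h1 : 𝒳.p.IsHomLift g φ] [h2 : 𝒳.p.IsHomLift g ψ]
    (H : ∀ ⦃V : C⦄ (f : V ⟶ U), R f → ∃ (a' : 𝒳.obj) (κ : a' ⟶ a), 𝒳.p.IsHomLift f κ ∧ κ ≫ φ = κ ≫ ψ) :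
    φ = ψ := by
  obtain rfl := IsHomLift.domain_eq 𝒳.p g φ
  exact hom_ext_cover h hR φ ψ (by rw [IsHomLift.fac' 𝒳.p g φ, IsHomLift.fac' 𝒳.p g ψ]) H

/-- The inclusion of a smaller sieve. -/
def sieveMap {U : C} {S R : Sieve U} (hSR : S ≤ R) : _root_.Stk.sieveCat S ⥤ᵇ _root_.Stk.sieveCat R where
  toFunctor := ObjectProperty.ιOfLE fun z hz => hSR _ hz
  w := rfl

/-- The slice at an arrow of a sieve, mapped into the sieve. -/
def sliceToSieve {U : C} {R : Sieve U} (z : (_root_.Stk.sieveCat R).obj) :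
    _root_.FibCat.overCat z.obj.left ⥤ᵇ _root_.Stk.sieveCat R where
  toFunctor := ObjectProperty.lift _ (Over.map z.obj.hom) fun w => R.downward_closed z.property w.hom
  w := rfl

/-- The restriction to a refinement is faithful. -/
theorem faithful_restr_sieveMap (h : _root_.FibCat.IsFibGrpd 𝒳.p) {U : C} {S R : Sieve U} (hSR : S ≤ R)
    (hR : ∀ ⦃V : C⦄ (f : V ⟶ U), R f → _root_.Stk.IsPrestackFor (S.pullback f) 𝒳) :
    (_root_.Stk.restr (sieveMap hSR) 𝒳).Faithful := by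
  refine ⟨fun {c c' α β} e => natTrans_ext fun z => ?_⟩
  have : 𝒳.p.IsHomLift (𝟙 z.obj.left) (α.toNatTrans.app z) := α.isHomLift' z
  have : 𝒳.p.IsHomLift (𝟙 z.obj.left) (β.toNatTrans.app z) := β.isHomLift' z
  refine hom_ext_cover_id h (hR z.obj.hom z.property).2 (U := z.obj.left) _ _ fun V f hf => ?_
  let t : (_root_.Stk.sieveCat S).obj := ⟨Over.mk (f ≫ z.obj.hom), hf⟩
  let κ : (sieveMap hSR).obj t ⟶ z := ObjectProperty.homMk (Over.homMk f rfl)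
  have : (_root_.Stk.sieveCat R).p.IsHomLift f κ := IsHomLift.map (_root_.Stk.sieveCat R).p κ
  refine ⟨c.obj ((sieveMap hSR).obj t), c.map κ, inferInstance, ?_⟩
  rw [α.toNatTrans.naturality κ, β.toNatTrans.naturality κ]
  exact congrArg (· ≫ c'.map κ) (natTrans_congr_app e t)

/-- The restriction to a refinement is full. -/
theorem full_restr_sieveMap (h : _root_.FibCat.IsFibGrpd 𝒳.p) {U : C} {S R : Sieve U} (hSR : S ≤ R)
    (hR : ∀ ⦃V : C⦄ (f : V ⟶ U), R f → _root_.Stk.IsPrestackFor (S.pullback f) 𝒳) :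
    (_root_.Stk.restr (sieveMap hSR) 𝒳).Full := by
  refine ⟨fun {c c'} β => ?_⟩
  have hex : ∀ z : (_root_.Stk.sieveCat R).obj, ∃ a : c.obj z ⟶ c'.obj z, 𝒳.p.IsHomLift (𝟙 z.obj.left) a ∧
      ∀ (t : (_root_.Stk.sieveCat S).obj) (κ : (sieveMap hSR).obj t ⟶ z),
        c.map κ ≫ a = β.toNatTrans.app t ≫ c'.map κ := fun z => by
    let T : (_root_.Stk.sieveCat (S.pullback z.obj.hom)).obj → (_root_.Stk.sieveCat S).obj := fun w =>
      ⟨Over.mk (w.obj.hom ≫ z.obj.hom), w.property⟩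
    let b : BasedFunctor.comp (_root_.Stk.sieveIncl (S.pullback z.obj.hom)) (BasedFunctor.comp (sliceToSieve z) c) ⟶
        BasedFunctor.comp (_root_.Stk.sieveIncl (S.pullback z.obj.hom)) (BasedFunctor.comp (sliceToSieve z) c') :=
      { toNatTrans :=
          { app := fun w => β.toNatTrans.app (T w)
            naturality := fun w w' φ => β.toNatTrans.naturality
              (ObjectProperty.homMk ((Over.map z.obj.hom).map φ.hom) : T w ⟶ T w') }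
        isHomLift' := fun w => β.isHomLift' (T w) }
    have := (hR z.obj.hom z.property).1
    obtain ⟨γ, hγ⟩ := (_root_.Stk.resSieve (S.pullback z.obj.hom) 𝒳).map_surjective b
    let P := (sliceToSieve z).obj (Yon.idObj z.obj.left)
    let e₁ : z ⟶ P := ObjectProperty.homMk (Over.homMk (𝟙 z.obj.left) (by simp [P, sliceToSieve]))
    let e₂ : P ⟶ z := ObjectProperty.homMk (Over.homMk (𝟙 z.obj.left) (by simp [P, sliceToSieve]))
    have : (_root_.Stk.sieveCat R).p.IsHomLift (𝟙 z.obj.left) e₁ := IsHomLift.map (_root_.Stk.sieveCat R).p e₁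
    have : (_root_.Stk.sieveCat R).p.IsHomLift (𝟙 z.obj.left) e₂ := IsHomLift.map (_root_.Stk.sieveCat R).p e₂
    have : 𝒳.p.IsHomLift (𝟙 z.obj.left) (γ.toNatTrans.app (Yon.idObj z.obj.left)) :=
      γ.isHomLift' (Yon.idObj z.obj.left)
    have h₁ : 𝒳.p.IsHomLift (𝟙 z.obj.left) (c.map e₁) := inferInstance
    have h₂ : 𝒳.p.IsHomLift (𝟙 z.obj.left) (c'.map e₂) := inferInstance
    refine ⟨c.map e₁ ≫ γ.toNatTrans.app (Yon.idObj z.obj.left) ≫ c'.map e₂, ?_, fun t κ => ?_⟩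
    · have : 𝒳.p.IsHomLift (𝟙 z.obj.left) (γ.toNatTrans.app (Yon.idObj z.obj.left) ≫ c'.map e₂) :=
        IsHomLift.comp_lift_id_right' 𝒳.p _ _ z.obj.left _
      exact IsHomLift.comp_lift_id_left' 𝒳.p z.obj.left _ (𝟙 z.obj.left) _
    · have hs : S (κ.hom.left ≫ z.obj.hom) := by rw [Over.w κ.hom]; exact t.property
      let w : (_root_.Stk.sieveCat (S.pullback z.obj.hom)).obj := ⟨Over.mk κ.hom.left, hs⟩
      let μ : t ⟶ T w := ObjectProperty.homMk (Over.homMk (𝟙 t.obj.left) ((Category.id_comp _).trans (Over.w κ.hom)))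
      let ν := (sliceToSieve z).map (Yon.toId w.obj)
      have e0 : κ ≫ e₁ = (sieveMap hSR).map μ ≫ ν :=
        ObjectProperty.hom_ext _ (Over.OverMorphism.ext (by
          change κ.hom.left ≫ 𝟙 z.obj.left = 𝟙 t.obj.left ≫ κ.hom.left
          exact (Category.comp_id _).trans (Category.id_comp _).symm))
      have e1 : (sieveMap hSR).map μ ≫ ν ≫ e₂ = κ :=
        ObjectProperty.hom_ext _ (Over.OverMorphism.ext (by
          change 𝟙 t.obj.left ≫ κ.hom.left ≫ 𝟙 z.obj.left = κ.hom.left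
          exact (Category.id_comp _).trans (Category.comp_id _)))
      have e2 : c.map ν ≫ γ.toNatTrans.app (Yon.idObj z.obj.left) = β.toNatTrans.app (T w) ≫ c'.map ν := by
        have := γ.toNatTrans.naturality (Yon.toId w.obj)
        have hw : γ.toNatTrans.app w.obj = β.toNatTrans.app (T w) := natTrans_congr_app hγ w
        rw [hw] at this
        exact this
      have e3 : c.map ((sieveMap hSR).map μ) ≫ β.toNatTrans.app (T w) =
          β.toNatTrans.app t ≫ c'.map ((sieveMap hSR).map μ) := β.toNatTrans.naturality μ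
      rw [← Category.assoc, ← Category.assoc, ← c.map_comp, e0, c.map_comp, Category.assoc, Category.assoc,
        reassoc_of% e2, reassoc_of% e3, ← c'.map_comp, ← c'.map_comp, e1]
  choose a ha ha' using hex
  refine ⟨{ toNatTrans := { app := a, naturality := fun z' z φ => ?_ }, isHomLift' := ha }, natTrans_ext fun t => ?_⟩
  · have := ha z
    have := ha z'
    have : (_root_.Stk.sieveCat R).p.IsHomLift φ.hom.left φ := IsHomLift.map (_root_.Stk.sieveCat R).p φ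
    have : 𝒳.p.IsHomLift φ.hom.left (c.map φ ≫ a z) :=
      IsHomLift.comp_lift_id_right' 𝒳.p φ.hom.left (c.map φ) z.obj.left _
    have : 𝒳.p.IsHomLift φ.hom.left (a z' ≫ c'.map φ) :=
      IsHomLift.comp_lift_id_left' 𝒳.p z'.obj.left _ φ.hom.left (c'.map φ)
    refine hom_ext_cover_lift h (hR z'.obj.hom z'.property).2 φ.hom.left _ _ fun V f hf => ?_
    let t : (_root_.Stk.sieveCat S).obj := ⟨Over.mk (f ≫ z'.obj.hom), hf⟩
    let κ : (sieveMap hSR).obj t ⟶ z' := ObjectProperty.homMk (Over.homMk f rfl)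
    have : (_root_.Stk.sieveCat R).p.IsHomLift f κ := IsHomLift.map (_root_.Stk.sieveCat R).p κ
    refine ⟨c.obj ((sieveMap hSR).obj t), c.map κ, inferInstance, ?_⟩
    have e4 := ha' z t (κ ≫ φ)
    rw [c.map_comp, c'.map_comp, Category.assoc] at e4
    rw [e4, reassoc_of% (ha' z' t κ)]
  · have := ha' ((sieveMap hSR).obj t) t (𝟙 _)
    rw [c.map_id, c'.map_id, Category.id_comp] at this
    exact this.trans (Category.comp_id _)

/-- The stack condition passes from a refinement. -/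
theorem isStackFor_of_le (h : _root_.FibCat.IsFibGrpd 𝒳.p) {U : C} {S R : Sieve U} (hSR : S ≤ R)
    (hS : _root_.Stk.IsStackFor S 𝒳)
    (hR : ∀ ⦃V : C⦄ (f : V ⟶ U), R f → _root_.Stk.IsPrestackFor (S.pullback f) 𝒳) :
    _root_.Stk.IsStackFor R 𝒳 := by
  have : (_root_.Stk.resSieve S 𝒳).IsEquivalence := hS
  have := full_restr_sieveMap h hSR hR
  have := faithful_restr_sieveMap h hSR hR
  let L := _root_.Stk.restr (sieveMap hSR) 𝒳
  have i : _root_.Stk.resSieve R 𝒳 ⋙ L ≅ _root_.Stk.resSieve S 𝒳 := Iso.refl _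
  have : (_root_.Stk.resSieve R 𝒳 ⋙ L).IsEquivalence := Functor.isEquivalence_of_iso i.symm
  refine { faithful := Functor.Faithful.of_comp _ L, full := Functor.Full.of_comp_faithful _ L,
           essSurj := ⟨fun c => ⟨(_root_.Stk.resSieve R 𝒳 ⋙ L).objPreimage (L.obj c),
             ⟨L.preimageIso ((_root_.Stk.resSieve R 𝒳 ⋙ L).objObjPreimageIso (L.obj c))⟩⟩⟩ }

end Refine

end GrothLib.Stk
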