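import Groth.Prelude.Def_AlgSt
import Groth.Agent.Lib.FibCat.FibGrpd
import Mathlib.CategoryTheory.Sites.InducedTopology
import Mathlib.CategoryTheory.Sites.CoverPreserving
import Mathlib.CategoryTheory.Sites.CoverLifting
import Mathlib.CategoryTheory.Sites.Over

/-!
# The inherited topology on a category fibred in groupoids
-/

set_option backward.isDefEq.respectTransparency false
set_option backward.isDefEq.respectTransparency.types false

universe v₃ u₃ v₂ u₂ v u

open CategoryTheory CategoryTheory.Functor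

namespace GrothLib.Stk.Topology

open GrothLib.FibCat

variable {C : Type u} [Category.{v} C] {A : Type u₂} [Category.{v₂} A] {B : Type u₃} [Category.{v₃} B]
variable (p : A ⥤ C)

section Pushforward

variable {p} (hp : _root_.FibCat.IsFibGrpd p)
include hp

/-- An arrow is in the image of a sieve iff some lift of it is in the sieve. -/
theorem mem_pushforward_iff {x : A} (S : Sieve x) {V : C} (f : V ⟶ p.obj x) :
    S.functorPushforward p f ↔ ∃ (y : A) (φ : y ⟶ x), p.IsHomLift f φ ∧ S φ := by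
  constructor
  · rintro ⟨z, g, h, hg, rfl⟩
    obtain ⟨y, κ, hκ⟩ := hp.exists_lift (x := z) h
    exact ⟨y, κ ≫ g, inferInstance, S.downward_closed hg κ⟩
  · rintro ⟨y, φ, hφ, hS⟩
    exact ⟨y, φ, eqToHom (IsHomLift.domain_eq p f φ).symm, hS, by
      rw [IsHomLift.fac' p f φ]; simp⟩

/-- If an arrow is in the image of a sieve, all its lifts are in the sieve. -/
theorem mem_of_mem_pushforward {x : A} {S : Sieve x} {V : C} {f : V ⟶ p.obj x} (h : S.functorPushforward p f)
    {y : A} (φ : y ⟶ x) [p.IsHomLift f φ] : S φ := by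
  obtain ⟨y', φ', hφ', hS⟩ := (mem_pushforward_iff hp S f).1 h
  obtain ⟨e, -, he⟩ := IsFibGrpd.exists_iso_of_lifts hp f φ' φ
  rw [← he]
  exact S.downward_closed hS _

theorem pushforward_pullback {x y : A} (S : Sieve x) (ψ : y ⟶ x) :
    (S.pullback ψ).functorPushforward p = (S.functorPushforward p).pullback (p.map ψ) := by
  refine Sieve.ext fun V f => ⟨fun h => ?_, fun h => ?_⟩
  · obtain ⟨z, φ, hφ, hS⟩ := (mem_pushforward_iff hp _ f).1 h
    exact (mem_pushforward_iff hp S (f ≫ p.map ψ)).2 ⟨z, φ ≫ ψ, inferInstance, hS⟩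
  · obtain ⟨z, κ, hκ⟩ := hp.exists_lift (x := y) f
    exact (mem_pushforward_iff hp _ f).2 ⟨z, κ, hκ, mem_of_mem_pushforward hp h (κ ≫ ψ)⟩

/-- Membership in the inherited topology. -/
theorem mem_restrictedTopology_iff (J : GrothendieckTopology C) {x : A} (S : Sieve x) :
    S ∈ p.restrictedTopology J x ↔ S.functorPushforward p ∈ J (p.obj x) := by
  refine ⟨fun h => ?_, mem_restrictedTopology_of_functorPushforward_mem⟩
  change Precoverage.Saturate _ x S at h
  induction h with
  | of X R hR =>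
    rw [Precoverage.mem_comap_iff, GrothendieckTopology.mem_toPrecoverage_iff,
      Sieve.generate_map_eq_functorPushforward] at hR
    exact hR
  | top X => rw [Sieve.functorPushforward_top]; exact J.top_mem _
  | pullback X S _ Y f ih => rw [pushforward_pullback hp]; exact J.pullback_stable _ ih
  | transitive X S R _ _ ih1 ih2 =>
    refine J.transitive ih1 _ fun V f hf => ?_
    obtain ⟨y, φ, hφ, hS⟩ := (mem_pushforward_iff hp S f).1 hf
    have := ih2 hS
    rw [pushforward_pullback hp] at this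
    obtain rfl := IsHomLift.domain_eq p f φ
    rwa [IsHomLift.fac' p f φ, eqToHom_refl, eqToHom_refl, Category.id_comp, Category.comp_id] at this

end Pushforward

section Functoriality

variable (F : A ⥤ B) (q : B ⥤ C) (hp : _root_.FibCat.IsFibGrpd (F ⋙ q)) (hq : _root_.FibCat.IsFibGrpd q)
  (J : GrothendieckTopology C)

include hp hq

theorem coverPreserving : CoverPreserving ((F ⋙ q).restrictedTopology J) (q.restrictedTopology J) F := by
  refine ⟨fun {U S} hS => ?_⟩
  rw [mem_restrictedTopology_iff hq, ← Sieve.functorPushforward_comp]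
  exact (mem_restrictedTopology_iff hp J S).1 hS

theorem isCocontinuous : F.IsCocontinuous ((F ⋙ q).restrictedTopology J) (q.restrictedTopology J) := by
  refine ⟨fun {U S} hS => ?_⟩
  rw [mem_restrictedTopology_iff hp]
  refine J.superset_covering (fun V f hf => ?_) ((mem_restrictedTopology_iff hq J S).1 hS)
  obtain ⟨y, κ, hκ⟩ := hp.exists_lift (x := U) f
  refine (mem_pushforward_iff hp _ f).2 ⟨y, κ, hκ, ?_⟩
  have : q.IsHomLift f (F.map κ) := IsHomLift.of_fac q f _ (IsHomLift.domain_eq (F ⋙ q) f κ) rfl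
    (IsHomLift.fac (F ⋙ q) f κ)
  exact mem_of_mem_pushforward hq hf (F.map κ)

theorem compatiblePreserving (K : GrothendieckTopology B) : CompatiblePreserving.{max u₂ v₂ u₃ v₃} K F := by
  refine ⟨fun ℱ Z T x hx Y₁ Y₂ X f₁ f₂ g₁ g₂ hg₁ hg₂ e => ?_⟩
  obtain ⟨W, κ₁, hκ₁⟩ := hp.exists_lift (x := Y₁) (q.map f₁)
  have : q.IsHomLift (q.map f₁) (F.map κ₁) := IsHomLift.of_fac q (q.map f₁) _
    (IsHomLift.domain_eq (F ⋙ q) (q.map f₁) κ₁) rfl (IsHomLift.fac (F ⋙ q) (q.map f₁) κ₁)
  obtain ⟨θ, -, eθ⟩ := IsFibGrpd.exists_iso_of_lifts hq (q.map f₁) (F.map κ₁) f₁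
  obtain ⟨κ₂, ⟨h₀, h₂⟩, -⟩ := IsFibGrpd.existsUnique_fac hp g₂ (κ₁ ≫ g₁) (q.map θ.inv ≫ q.map f₂) (by
    change (q.map θ.inv ≫ q.map f₂) ≫ q.map (F.map g₂) = q.map (F.map (κ₁ ≫ g₁))
    rw [Category.assoc, ← q.map_comp, ← q.map_comp, ← e, ← eθ, F.map_comp, Category.assoc,
      θ.inv_hom_id_assoc])
  have e₂ : θ.hom ≫ F.map κ₂ = f₂ := by
    refine IsFibGrpd.hom_ext' hq (F.map g₂) ?_ ?_
    · have h₀' : q.map (F.map κ₂) = q.map θ.inv ≫ q.map f₂ := h₀
      rw [q.map_comp, h₀', ← q.map_comp, ← q.map_comp, θ.hom_inv_id_assoc]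
    · rw [Category.assoc, ← F.map_comp, h₂, F.map_comp, reassoc_of% eθ]
      exact e
  have := hx κ₁ κ₂ hg₁ hg₂ h₂.symm
  rw [← eθ, ← e₂, op_comp, op_comp]
  simp only [Functor.map_comp_apply]
  exact congrArg _ this

theorem isContinuous : F.IsContinuous ((F ⋙ q).restrictedTopology J) (q.restrictedTopology J) :=
  Functor.isContinuous_of_coverPreserving (compatiblePreserving F q hp hq _) (coverPreserving F q hp hq J)

end Functoriality

/-- The three properties, for a functor over `C`. -/
theorem coverPreserving_cocontinuous_continuous (F : A ⥤ B) (q : B ⥤ C) {p : A ⥤ C} (e : F ⋙ q = p)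
    (hp : _root_.FibCat.IsFibGrpd p) (hq : _root_.FibCat.IsFibGrpd q) (J : GrothendieckTopology C) :
    CoverPreserving (p.restrictedTopology J) (q.restrictedTopology J) F ∧
      F.IsCocontinuous (p.restrictedTopology J) (q.restrictedTopology J) ∧
      F.IsContinuous (p.restrictedTopology J) (q.restrictedTopology J) := by
  subst e
  exact ⟨coverPreserving F q hp hq J, isCocontinuous F q hp hq J, isContinuous F q hp hq J⟩

section Over

variable {p} (hp : _root_.FibCat.IsFibGrpd p)
include hp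

theorem isEquivalence_overPost (x : A) : (Over.post p : Over x ⥤ Over (p.obj x)).IsEquivalence where
  faithful := ⟨fun {a b φ ψ} e => Over.OverMorphism.ext
    (IsFibGrpd.hom_ext' hp b.hom (congrArg Over.Hom.left e) ((Over.w φ).trans (Over.w ψ).symm))⟩
  full := ⟨fun {a b} φ => by
    obtain ⟨χ, ⟨h1, h2⟩, -⟩ := IsFibGrpd.existsUnique_fac hp b.hom a.hom φ.left (Over.w φ)
    exact ⟨Over.homMk χ h2, Over.OverMorphism.ext h1⟩⟩
  essSurj := ⟨fun b => by
    obtain ⟨y, φ, hφ⟩ := hp.exists_lift b.hom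
    refine ⟨Over.mk φ, ⟨Over.isoMk (eqToIso (IsHomLift.domain_eq p b.hom φ)) ?_⟩⟩
    change eqToHom (IsHomLift.domain_eq p b.hom φ) ≫ b.hom = p.map φ
    rw [IsHomLift.fac' p b.hom φ]
    simp⟩

theorem mem_over_iff (J : GrothendieckTopology C) (x : A) (a : Over x) (S : Sieve a) :
    S ∈ (p.restrictedTopology J).over x a ↔
      S.functorPushforward (Over.post p) ∈ (J.over (p.obj x)) ((Over.post p).obj a) := by
  rw [GrothendieckTopology.mem_over_iff, GrothendieckTopology.mem_over_iff, mem_restrictedTopology_iff hp,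
    Sieve.overEquiv_functorPushforward_post]
  rfl

end Over

end GrothLib.Stk.Topology
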