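import Groth.Agent.Lib.Stk.Descent
import Groth.Agent.Lib.Stk.Topology
import Groth.Agent.Lib.FibCat.Tower

/-!
# Stacks over stacks
-/

set_option backward.isDefEq.respectTransparency false
set_option backward.isDefEq.respectTransparency.types false

universe v₃ u₃ v₂ u₂ v u

open CategoryTheory CategoryTheory.Functor

namespace GrothLib.Stk.Relative

open GrothLib.FibCat GrothLib.FibCat.Tower GrothLib.Stk GrothLib.Stk.Descent GrothLib.Stk.Topology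

variable {C : Type u} [Category.{v} C]

theorem pullback_covering {A : Type u₂} [Category.{v₂} A] {p : A ⥤ C} (hp : _root_.FibCat.IsFibGrpd p)
    {J : GrothendieckTopology C} {x : A} {R : Sieve (p.obj x)} (hR : R ∈ J (p.obj x)) :
    R.functorPullback p ∈ p.restrictedTopology J x := by
  rw [mem_restrictedTopology_iff hp]
  refine J.superset_covering (fun V f hf => ?_) hR
  obtain ⟨y, κ, hκ⟩ := hp.exists_lift f
  exact (mem_pushforward_iff hp _ f).2 ⟨y, κ, hκ, mem_of_isHomLift p R κ hf⟩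

section Over

variable {J : GrothendieckTopology C} {𝒳 : BasedCategory.{v₂, u₂} C} {𝒴 : BasedCategory.{v₃, u₃} C}
variable (F : 𝒳 ⥤ᵇ 𝒴)

theorem map_map {a b : 𝒳.obj} (κ : a ⟶ b) :
    𝒴.p.map (F.map κ) = eqToHom (F.w_obj a) ≫ 𝒳.p.map κ ≫ eqToHom (F.w_obj b).symm :=
  IsHomLift.fac' 𝒴.p (𝒳.p.map κ) (F.map κ)

theorem map_eq_of_map_eq {a b : 𝒳.obj} {φ ψ : a ⟶ b} (e : F.map φ = F.map ψ) :
    𝒳.p.map φ = 𝒳.p.map ψ := by
  have h : 𝒴.p.IsHomLift (𝒳.p.map ψ) (F.map φ) := e ▸ inferInstance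
  have h1 := IsHomLift.fac 𝒴.p (𝒳.p.map φ) (F.map φ)
  have h2 := IsHomLift.fac 𝒴.p (𝒳.p.map ψ) (F.map φ)
  rw [h1, h2]

/-- A sieve downstairs, seen on the source. -/
abbrev downSieve (a : 𝒳.obj) (R : Sieve (F.obj a)) : Sieve (𝒳.p.obj a) :=
  (R.functorPushforward 𝒴.p).pullback (eqToHom (F.w_obj a).symm)

theorem mem_downSieve_iff (h𝒴 : _root_.FibCat.IsFibGrpd 𝒴.p) {a a' : 𝒳.obj} (R : Sieve (F.obj a)) (κ : a' ⟶ a) :
    downSieve F a R (𝒳.p.map κ) ↔ R (F.map κ) := by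
  have : 𝒴.p.IsHomLift (𝒳.p.map κ ≫ eqToHom (F.w_obj a).symm) (F.map κ) :=
    IsHomLift.of_fac' 𝒴.p _ _ (F.w_obj a') rfl (by rw [map_map F κ]; simp)
  exact ⟨fun h => mem_of_mem_pushforward h𝒴 h (F.map κ),
    fun h => (mem_pushforward_iff h𝒴 R _).2 ⟨_, F.map κ, this, h⟩⟩

/-- A category fibred in groupoids over a stack by a morphism of stacks is a stack for the inherited topology. -/
theorem isStack_ofFunctor (h𝒳 : _root_.Stk.IsStack J 𝒳) (h𝒴 : _root_.Stk.IsStack J 𝒴)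
    (hF : _root_.FibCat.IsFibGrpd F.toFunctor) :
    _root_.Stk.IsStack (𝒴.p.restrictedTopology J) (BasedCategory.ofFunctor F.toFunctor) := by
  refine ⟨hF, fun y R hR => ?_⟩
  have hS : ∀ {a : 𝒳.obj} (ha : F.obj a = y), downSieve F a (R.pullback (eqToHom ha)) ∈ J (𝒳.p.obj a) :=
    fun {a} ha => J.pullback_stable _
      ((mem_restrictedTopology_iff h𝒴.1 J _).1 ((𝒴.p.restrictedTopology J).pullback_stable _ hR))
  have hS' : ∀ {a : 𝒳.obj} (ha : F.obj a = y), (R.pullback (eqToHom ha)).functorPushforward 𝒴.p ∈ J _ :=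
    fun {a} ha => (mem_restrictedTopology_iff h𝒴.1 J _).1 ((𝒴.p.restrictedTopology J).pullback_stable _ hR)
  refine isStackFor_of_glue hF (fun {a b} ha _ φ ψ e H => ?_) (fun {a b} ha hb L => ?_) (fun c => ?_)
  · change F.map φ = F.map ψ at e
    have : (_root_.Stk.resSieve (downSieve F a (R.pullback (eqToHom ha))) 𝒳).IsEquivalence := h𝒳.2 _ (hS ha)
    exact Descent.hom_ext h𝒳.1 (R := downSieve F a (R.pullback (eqToHom ha))) inferInstance φ ψ
      (map_eq_of_map_eq F e) fun κ hκ => H κ ((mem_downSieve_iff F h𝒴.1 _ κ).1 hκ)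
  · have hab : F.obj a = F.obj b := ha.trans hb.symm
    have hp : 𝒳.p.obj a = 𝒳.p.obj b :=
      (F.w_obj a).symm.trans ((congrArg 𝒴.p.obj hab).trans (F.w_obj b))
    let L' : Local 𝒳.p a b (downSieve F a (R.pullback (eqToHom ha))) (eqToHom hp) :=
      { n := fun κ hκ => L.n κ ((mem_downSieve_iff F h𝒴.1 _ κ).1 hκ)
        map_n := fun {a'} κ hκ => by
          have e : F.map (L.n κ ((mem_downSieve_iff F h𝒴.1 _ κ).1 hκ)) = F.map κ ≫ eqToHom hab := L.map_n κ _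
          have e' := congrArg 𝒴.p.map e
          rw [𝒴.p.map_comp, map_map, map_map, eqToHom_map, Category.assoc, Category.assoc, eqToHom_trans] at e'
          have e'' := (cancel_epi (eqToHom (F.w_obj a'))).1 e'
          rw [← cancel_mono (eqToHom (F.w_obj b).symm), e'', Category.assoc, eqToHom_trans]
        comp := fun l κ h h' => L.comp l κ _ _ }
    have : (_root_.Stk.resSieve (downSieve F a (R.pullback (eqToHom ha))) 𝒳).IsEquivalence := h𝒳.2 _ (hS ha)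
    obtain ⟨α, hα, hα'⟩ := exists_hom h𝒳.1 (R := downSieve F a (R.pullback (eqToHom ha))) inferInstance L'
    refine ⟨α, ?_, fun κ hκ => hα' κ ((mem_downSieve_iff F h𝒴.1 _ κ).2 hκ)⟩
    change F.map α = eqToHom hab
    have : (_root_.Stk.resSieve ((R.pullback (eqToHom ha)).functorPushforward 𝒴.p) 𝒴).IsEquivalence :=
      h𝒴.2 _ (hS' ha)
    refine Descent.hom_ext h𝒴.1 (R := (R.pullback (eqToHom ha)).functorPushforward 𝒴.p) inferInstance _ _
      (by rw [map_map, hα, eqToHom_map]; simp) fun {v} f hf => ?_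
    have hf' : R.pullback (eqToHom ha) f := mem_of_mem_pushforward h𝒴.1 hf f
    obtain ⟨a', κ, hκ⟩ := hF.exists_lift (x := a) f
    have hκ' : R.pullback (eqToHom ha) (F.map κ) := mem_of_isHomLift F.toFunctor _ κ hf'
    have e : F.map (κ ≫ α) = F.map κ ≫ eqToHom hab :=
      (congrArg F.map (hα' κ ((mem_downSieve_iff F h𝒴.1 _ κ).2 hκ'))).trans (L.map_n κ _)
    rw [F.map_comp, IsHomLift.fac' F.toFunctor f κ, eqToHom_refl, Category.comp_id, Category.assoc,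
      Category.assoc] at e
    exact (cancel_epi (eqToHom (IsHomLift.domain_eq F.toFunctor f κ))).1 e
  · let U := 𝒴.p.obj y
    let S : Sieve U := R.functorPushforward 𝒴.p
    have hSU : S ∈ J U := (mem_restrictedTopology_iff h𝒴.1 J R).1 hR
    obtain ⟨Y, e, he⟩ := Yon.exists_functor h𝒴.1 y (rfl : 𝒴.p.obj y = _)
    let g : ∀ w : (_root_.FibCat.overCat U).obj, Y.obj w ⟶ y := fun w => Y.map (Yon.toId w) ≫ e.hom
    have hg : ∀ w, 𝒴.p.IsHomLift w.hom (g w) := fun w => by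
      have := Yon.toId_lift w
      exact IsHomLift.comp_lift_id_right' 𝒴.p _ _ U _
    have hgn : ∀ {w w' : (_root_.FibCat.overCat U).obj} (ψ : w ⟶ w'), Y.map ψ ≫ g w' = g w := fun ψ => by
      simp only [g]; rw [← Y.map_comp_assoc, Yon.map_comp_toId]
    have hgR : ∀ w : (_root_.Stk.sieveCat S).obj, R (g w.obj) := fun w =>
      have := hg w.obj
      mem_of_mem_pushforward h𝒴.1 (f := w.obj.hom) w.property (g w.obj)
    let T : (_root_.FibCat.overCat U).obj ⥤ Over y :=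
      { obj := fun w => Over.mk (g w)
        map := fun ψ => Over.homMk (Y.map ψ) (hgn ψ) }
    let L : (_root_.Stk.sieveCat S).obj ⥤ (_root_.Stk.sieveCat R).obj :=
      ObjectProperty.lift _ (ObjectProperty.ι _ ⋙ T) hgR
    let d : _root_.Stk.sieveCat S ⥤ᵇ 𝒳 :=
      { toFunctor := L ⋙ c.toFunctor
        w := by
          rw [← F.w]
          change L ⋙ (c.toFunctor ⋙ F.toFunctor) ⋙ 𝒴.p = _
          rw [show c.toFunctor ⋙ F.toFunctor = _ from c.w]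
          change (ObjectProperty.ι _ ⋙ Y.toFunctor ⋙ 𝒴.p) = _
          rw [Y.w]
          rfl }
    have : (_root_.Stk.resSieve S 𝒳).IsEquivalence := h𝒳.2 _ hSU
    have : (_root_.Stk.resSieve S 𝒴).IsEquivalence := h𝒴.2 _ hSU
    let A := (_root_.Stk.resSieve S 𝒳).objPreimage d
    let i : BasedFunctor.comp (_root_.Stk.sieveIncl S) A ≅ d := (_root_.Stk.resSieve S 𝒳).objObjPreimageIso d
    have hcw : ∀ w : (_root_.Stk.sieveCat S).obj, F.obj (d.obj w) = Y.obj w.obj := fun w => c.w_obj (L.obj w)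
    let q : BasedFunctor.comp d F ≅ BasedFunctor.comp (_root_.Stk.sieveIncl S) Y :=
      natIsoOfComponents (fun w => eqToIso (hcw w))
        (fun w => IsHomLift.of_fac' 𝒴.p _ _ ((BasedFunctor.comp d F).w_obj w) (Y.w_obj w.obj) (by
          simp [eqToHom_map]))
        (fun {w w'} ψ => by
          change F.map (c.map (L.map ψ)) ≫ eqToHom (hcw w') = eqToHom (hcw w) ≫ Y.map ψ.hom
          have := Functor.congr_hom c.w (L.map ψ)
          change F.map (c.map (L.map ψ)) = eqToHom _ ≫ Y.map ψ.hom ≫ eqToHom _ at this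
          rw [this, Category.assoc, Category.assoc, eqToHom_trans, eqToHom_refl, Category.comp_id])
    let j : BasedFunctor.comp A F ≅ Y :=
      (_root_.Stk.resSieve S 𝒴).preimageIso (GrothLib.FibCat.whiskerRightIso i F ≪≫ q)
    have hj : ∀ w : (_root_.Stk.sieveCat S).obj, j.hom.toNatTrans.app w.obj =
        F.map (GrothLib.FibCat.isoApp i w).hom ≫ eqToHom (hcw w) := fun w =>
      natTrans_congr_app ((_root_.Stk.resSieve S 𝒴).map_preimage
        (show (_root_.Stk.resSieve S 𝒴).obj (BasedFunctor.comp A F) ⟶ (_root_.Stk.resSieve S 𝒴).obj Y from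
          (GrothLib.FibCat.whiskerRightIso i F ≪≫ q).hom)) w
    let δ : F.obj (A.obj (Yon.idObj U)) ≅ y := GrothLib.FibCat.isoApp j (Yon.idObj U) ≪≫ e
    obtain ⟨a, l, hl⟩ := hF.exists_lift (x := A.obj (Yon.idObj U)) δ.inv
    have := IsFibGrpd.isIso_of_base_isIso hF δ.inv l
    have hFa : F.obj a = y := IsHomLift.domain_eq F.toFunctor δ.inv l
    have hFl : F.map (inv l) = δ.hom ≫ eqToHom hFa.symm := by
      have h0 : F.map l = eqToHom hFa ≫ δ.inv := by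
        rw [IsHomLift.fac' F.toFunctor δ.inv l]; simp
      rw [← cancel_epi (F.map l), ← F.map_comp, IsIso.hom_inv_id, F.map_id, h0]
      simp
    let k : ∀ w : (_root_.Stk.sieveCat S).obj, d.obj w ⟶ a := fun w =>
      (GrothLib.FibCat.isoApp i w).inv ≫ A.map (Yon.toId w.obj) ≫ inv l
    have hkF : ∀ w, F.map (k w) = eqToHom (hcw w) ≫ g w.obj ≫ eqToHom hFa.symm := fun w => by
      have n : F.map (A.map (Yon.toId w.obj)) ≫ j.hom.toNatTrans.app (Yon.idObj U) =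
          j.hom.toNatTrans.app w.obj ≫ Y.map (Yon.toId w.obj) := j.hom.toNatTrans.naturality (Yon.toId w.obj)
      have hi : F.map (GrothLib.FibCat.isoApp i w).inv ≫ F.map (GrothLib.FibCat.isoApp i w).hom = 𝟙 _ := by
        rw [← F.map_comp, Iso.inv_hom_id, F.map_id]
      change F.map ((GrothLib.FibCat.isoApp i w).inv ≫ A.map (Yon.toId w.obj) ≫ inv l) = _
      rw [F.map_comp, F.map_comp, hFl]
      change _ ≫ _ ≫ ((j.hom.toNatTrans.app (Yon.idObj U)) ≫ e.hom) ≫ _ = _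
      rw [Category.assoc (j.hom.toNatTrans.app (Yon.idObj U)), reassoc_of% n, hj, Category.assoc,
        reassoc_of% hi, Category.assoc]
    have hkn : ∀ {w w' : (_root_.Stk.sieveCat S).obj} (ψ : w ⟶ w'), d.map ψ ≫ k w' = k w := fun {w w'} ψ => by
      have e1 : d.map ψ ≫ (GrothLib.FibCat.isoApp i w').inv = (GrothLib.FibCat.isoApp i w).inv ≫ A.map ψ.hom :=
        i.inv.toNatTrans.naturality ψ
      simp only [k]
      rw [reassoc_of% e1]
      congr 1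
      change A.map ψ.hom ≫ A.map (Yon.toId w'.obj) ≫ inv l = A.map (Yon.toId w.obj) ≫ inv l
      rw [← A.map_comp_assoc, Yon.map_comp_toId]
    have hfac : ∀ z : (_root_.Stk.sieveCat R).obj, ∃ m : c.obj z ⟶ a,
        ∀ (w : (_root_.Stk.sieveCat S).obj) (θ : z ⟶ L.obj w), c.map θ ≫ k w = m := fun z => by
      let w₁ : (_root_.Stk.sieveCat S).obj := arrowObj (R := S) (𝒴.p.map z.obj.hom)
        (Sieve.image_mem_functorPushforward 𝒴.p R z.property)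
      have := hg w₁.obj
      have : 𝒴.p.IsHomLift (𝒴.p.map z.obj.hom) (g w₁.obj) := hg w₁.obj
      have : 𝒴.p.IsHomLift (𝟙 (𝒴.p.obj z.obj.left) ≫ 𝒴.p.map z.obj.hom) z.obj.hom := by
        rw [Category.id_comp]; exact IsHomLift.map 𝒴.p _
      obtain ⟨θ₁, ⟨hθ₁, eθ₁⟩, -⟩ := IsFibGrpd.existsUnique_lift h𝒴.1 (𝒴.p.map z.obj.hom) (𝟙 _) (g w₁.obj) z.obj.hom
      let Θ : z ⟶ L.obj w₁ := ObjectProperty.homMk (Over.homMk θ₁ eθ₁)
      refine ⟨c.map Θ ≫ k w₁, fun w θ => ?_⟩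
      have := hg w.obj
      have hw : 𝒴.p.obj (Y.obj w.obj) = w.obj.left := Y.w_obj w.obj
      have hθw : θ.hom.left ≫ g w.obj = z.obj.hom := Over.w θ.hom
      have hψ : (𝒴.p.map θ.hom.left ≫ eqToHom hw) ≫ w.obj.hom = 𝒴.p.map z.obj.hom := by
        rw [← hθw, 𝒴.p.map_comp, IsHomLift.fac' 𝒴.p w.obj.hom (g w.obj)]
        simp
      let ψ : w₁ ⟶ w := ObjectProperty.homMk (Over.homMk (𝒴.p.map θ.hom.left ≫ eqToHom hw) hψ)
      have : (_root_.FibCat.overCat U).p.IsHomLift (𝒴.p.map θ.hom.left ≫ eqToHom hw) ψ.hom :=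
        IsHomLift.map (_root_.FibCat.overCat U).p ψ.hom
      have : 𝒴.p.IsHomLift (𝒴.p.map θ.hom.left ≫ eqToHom hw) (θ₁ ≫ Y.map ψ.hom) :=
        IsHomLift.comp_lift_id_left' 𝒴.p (𝒴.p.obj z.obj.left) θ₁ (𝒴.p.map θ.hom.left ≫ eqToHom hw) _
      have : 𝒴.p.IsHomLift (𝒴.p.map θ.hom.left ≫ eqToHom hw) θ.hom.left :=
        IsHomLift.of_fac 𝒴.p _ _ rfl hw (by simp)
      have e1 : θ₁ ≫ Y.map ψ.hom = θ.hom.left := by
        apply IsFibGrpd.hom_ext h𝒴.1 (𝒴.p.map θ.hom.left ≫ eqToHom hw) w.obj.hom (g w.obj)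
        rw [Category.assoc, hgn, eθ₁, hθw]
      have e2 : θ = Θ ≫ L.map ψ := ObjectProperty.hom_ext _ (Over.OverMorphism.ext e1.symm)
      rw [e2, c.map_comp, Category.assoc]
      congr 1
      exact hkn ψ
    choose m hm using hfac
    refine ⟨a, hFa, m, fun z => ?_, fun {z z'} φ => ?_⟩
    · let w₁ : (_root_.Stk.sieveCat S).obj := arrowObj (R := S) (𝒴.p.map z.obj.hom)
        (Sieve.image_mem_functorPushforward 𝒴.p R z.property)
      have : 𝒴.p.IsHomLift (𝒴.p.map z.obj.hom) (g w₁.obj) := hg w₁.obj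
      have : 𝒴.p.IsHomLift (𝟙 (𝒴.p.obj z.obj.left) ≫ 𝒴.p.map z.obj.hom) z.obj.hom := by
        rw [Category.id_comp]; exact IsHomLift.map 𝒴.p _
      obtain ⟨θ₁, ⟨hθ₁, eθ₁⟩, -⟩ := IsFibGrpd.existsUnique_lift h𝒴.1 (𝒴.p.map z.obj.hom) (𝟙 _) (g w₁.obj) z.obj.hom
      let Θ : z ⟶ L.obj w₁ := ObjectProperty.homMk (Over.homMk θ₁ eθ₁)
      refine IsHomLift.of_fac' F.toFunctor _ _ (c.w_obj z) hFa ?_
      rw [← hm z w₁ Θ, F.map_comp, hkF]
      have : F.map (c.map Θ) = eqToHom (c.w_obj z) ≫ θ₁ ≫ eqToHom (c.w_obj (L.obj w₁)).symm :=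
        Functor.congr_hom c.w Θ
      rw [this, ← eθ₁]
      simp [w₁]
    · let w' : (_root_.Stk.sieveCat S).obj := arrowObj (R := S) (𝒴.p.map z'.obj.hom)
        (Sieve.image_mem_functorPushforward 𝒴.p R z'.property)
      have : 𝒴.p.IsHomLift (𝒴.p.map z'.obj.hom) (g w'.obj) := hg w'.obj
      have : 𝒴.p.IsHomLift (𝟙 (𝒴.p.obj z'.obj.left) ≫ 𝒴.p.map z'.obj.hom) z'.obj.hom := by
        rw [Category.id_comp]; exact IsHomLift.map 𝒴.p _
      obtain ⟨θ', ⟨hθ', eθ'⟩, -⟩ := IsFibGrpd.existsUnique_lift h𝒴.1 (𝒴.p.map z'.obj.hom) (𝟙 _) (g w'.obj) z'.obj.hom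
      let Θ : z' ⟶ L.obj w' := ObjectProperty.homMk (Over.homMk θ' eθ')
      rw [← hm z' w' Θ, ← hm z w' (φ ≫ Θ), c.map_comp, Category.assoc]

end Over

section Comp

universe w₁ u₁

variable {J : GrothendieckTopology C} {𝒳 : BasedCategory.{v₂, u₂} C} (𝒴 : BasedCategory.{w₁, u₁} 𝒳.obj)

theorem isHomLift_base {a b : 𝒴.obj} (κ : a ⟶ b) : 𝒳.p.IsHomLift ((𝒴.p ⋙ 𝒳.p).map κ) (𝒴.p.map κ) :=
  IsHomLift.map 𝒳.p _

/-- A stack over a stack is a stack. -/
theorem isStack_comp (h𝒳 : _root_.Stk.IsStack J 𝒳) (h𝒴 : _root_.Stk.IsStack (𝒳.p.restrictedTopology J) 𝒴) :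
    _root_.Stk.IsStack J (BasedCategory.ofFunctor (𝒴.p ⋙ 𝒳.p)) := by
  have hP := h𝒴.1
  have hp := h𝒳.1
  have hZ : _root_.FibCat.IsFibGrpd (𝒴.p ⋙ 𝒳.p) := isFibGrpd_comp hP hp
  refine ⟨hZ, fun U R hR => ?_⟩
  have hS : ∀ {x : 𝒳.obj} (hx : 𝒳.p.obj x = U), R.pullback (eqToHom hx) ∈ J (𝒳.p.obj x) :=
    fun hx => J.pullback_stable _ hR
  have hS' : ∀ {x : 𝒳.obj} (hx : 𝒳.p.obj x = U),
      (R.pullback (eqToHom hx)).functorPullback 𝒳.p ∈ 𝒳.p.restrictedTopology J x :=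
    fun hx => pullback_covering hp (hS hx)
  refine isStackFor_of_glue hZ (fun {a b} ha _ φ ψ e H => ?_) (fun {a b} ha hb L => ?_) (fun c => ?_)
  · let S := R.pullback (eqToHom (ha : 𝒳.p.obj (𝒴.p.obj a) = U))
    have : (_root_.Stk.resSieve S 𝒳).IsEquivalence := h𝒳.2 _ (hS ha)
    have eP : 𝒴.p.map φ = 𝒴.p.map ψ := Descent.hom_ext hp (R := S) inferInstance _ _ e fun {v} f hf => by
      obtain ⟨a', κ, hκ⟩ := hP.exists_lift (x := a) f
      have h1 : S (𝒳.p.map (𝒴.p.map κ)) := mem_of_isHomLift 𝒴.p (S.functorPullback 𝒳.p) κ hf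
      have e' : 𝒴.p.map (κ ≫ φ) = 𝒴.p.map (κ ≫ ψ) := congrArg 𝒴.p.map (H κ h1)
      rw [𝒴.p.map_comp, 𝒴.p.map_comp, IsHomLift.fac' 𝒴.p f κ, eqToHom_refl, Category.comp_id, Category.assoc,
        Category.assoc] at e'
      exact (cancel_epi (eqToHom (IsHomLift.domain_eq 𝒴.p f κ))).1 e'
    have : (_root_.Stk.resSieve (S.functorPullback 𝒳.p) 𝒴).IsEquivalence := h𝒴.2 _ (hS' ha)
    exact Descent.hom_ext hP (R := S.functorPullback 𝒳.p) inferInstance φ ψ eP fun κ hκ => H κ hκ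
  · let S := R.pullback (eqToHom (ha : 𝒳.p.obj (𝒴.p.obj a) = U))
    let χ : 𝒳.p.obj (𝒴.p.obj a) ⟶ 𝒳.p.obj (𝒴.p.obj b) := eqToHom ((ha.trans hb.symm :) : (𝒴.p ⋙ 𝒳.p).obj a = _)
    have hn : ∀ {v : 𝒳.obj} (f : v ⟶ 𝒴.p.obj a), S (𝒳.p.map f) → ∃ n : v ⟶ 𝒴.p.obj b,
        ∀ (a' : 𝒴.obj) (κ : a' ⟶ a) [𝒴.p.IsHomLift f κ] (h : S (𝒳.p.map (𝒴.p.map κ))),
          𝒴.p.IsHomLift n (L.n κ h) := fun {v} f hf => by
      obtain ⟨a₀, κ₀, hκ₀⟩ := hP.exists_lift (x := a) f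
      have h₀ : S (𝒳.p.map (𝒴.p.map κ₀)) := mem_of_isHomLift 𝒴.p (S.functorPullback 𝒳.p) κ₀ hf
      refine ⟨eqToHom (IsHomLift.domain_eq 𝒴.p f κ₀).symm ≫ 𝒴.p.map (L.n κ₀ h₀), fun a' κ hκ h => ?_⟩
      have : 𝒴.p.IsHomLift (eqToHom (IsHomLift.domain_eq 𝒴.p f κ₀).symm ≫ 𝒴.p.map (L.n κ₀ h₀)) (L.n κ₀ h₀) :=
        IsHomLift.of_fac 𝒴.p _ _ (IsHomLift.domain_eq 𝒴.p f κ₀) rfl (by simp)
      obtain ⟨θ, hθ, eθ⟩ := IsFibGrpd.exists_iso_of_lifts hP f κ₀ κ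
      have h1 : S (𝒳.p.map (𝒴.p.map (θ.hom ≫ κ₀))) := by rw [eθ]; exact h
      rw [← L.congr _ eθ h1 h, ← L.comp θ.hom κ₀ h₀ h1]
      exact IsHomLift.comp_lift_id_left' 𝒴.p v θ.hom _ _
    choose n hn using @hn
    let L₁ : Local 𝒳.p (𝒴.p.obj a) (𝒴.p.obj b) S χ :=
      { n := fun f hf => n f hf
        map_n := fun {v} f hf => by
          obtain ⟨a', κ, hκ⟩ := hP.exists_lift (x := a) f
          have h₀ : S (𝒳.p.map (𝒴.p.map κ)) := mem_of_isHomLift 𝒴.p (S.functorPullback 𝒳.p) κ hf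
          have := hn f hf a' κ h₀
          have e : 𝒳.p.map (𝒴.p.map (L.n κ h₀)) = 𝒳.p.map (𝒴.p.map κ) ≫ χ := L.map_n κ h₀
          rw [IsHomLift.fac' 𝒴.p f κ, IsHomLift.fac' 𝒴.p (n f hf) (L.n κ h₀)] at e
          simp only [Functor.map_comp, eqToHom_map, eqToHom_refl, Category.comp_id, Category.assoc] at e
          exact (cancel_epi (eqToHom (congrArg 𝒳.p.obj (IsHomLift.domain_eq 𝒴.p f κ)))).1 e
        comp := fun {w v} l f hf h' => by
          obtain ⟨a', κ, hκ⟩ := hP.exists_lift (x := a) f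
          obtain ⟨a'', lam, hlam⟩ := IsFibGrpd.exists_lift_of_eq hP (IsHomLift.domain_eq 𝒴.p f κ) l
          have h₀ : S (𝒳.p.map (𝒴.p.map κ)) := mem_of_isHomLift 𝒴.p (S.functorPullback 𝒳.p) κ hf
          have h₁ : S (𝒳.p.map (𝒴.p.map (lam ≫ κ))) :=
            mem_of_isHomLift 𝒴.p (S.functorPullback 𝒳.p) (f := l ≫ f) (lam ≫ κ) h'
          have := hn f hf a' κ h₀
          have := hn (l ≫ f) h' a'' (lam ≫ κ) h₁
          have : 𝒴.p.IsHomLift (l ≫ n f hf) (L.n (lam ≫ κ) h₁) := by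
            rw [← L.comp lam κ h₀ h₁]; infer_instance
          have e₁ := IsHomLift.fac 𝒴.p (l ≫ n f hf) (L.n (lam ≫ κ) h₁)
          have e₂ := IsHomLift.fac 𝒴.p (n (l ≫ f) h') (L.n (lam ≫ κ) h₁)
          exact e₁.trans e₂.symm }
    have : (_root_.Stk.resSieve S 𝒳).IsEquivalence := h𝒳.2 _ (hS ha)
    obtain ⟨δ, hδ, hδ'⟩ := exists_hom hp (R := S) inferInstance L₁
    have : (_root_.Stk.resSieve (S.functorPullback 𝒳.p) 𝒴).IsEquivalence := h𝒴.2 _ (hS' ha)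
    let L₂ : Local 𝒴.p a b (S.functorPullback 𝒳.p) δ :=
      { n := fun κ hκ => L.n κ hκ
        map_n := fun {a'} κ hκ => by
          have := IsHomLift.map 𝒴.p κ
          have := hn (𝒴.p.map κ) hκ a' κ hκ
          rw [hδ' (𝒴.p.map κ) hκ]
          exact (IsHomLift.eq_of_isHomLift 𝒴.p (n (𝒴.p.map κ) hκ) (L.n κ hκ)).symm
        comp := fun l κ h h' => L.comp l κ h h' }
    obtain ⟨α, hα, hα'⟩ := exists_hom hP (R := S.functorPullback 𝒳.p) inferInstance L₂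
    exact ⟨α, (congrArg 𝒳.p.map hα).trans hδ, fun κ hκ => hα' κ hκ⟩
  · let cX : _root_.Stk.sieveCat R ⥤ᵇ 𝒳 := { toFunctor := c.toFunctor ⋙ 𝒴.p, w := c.w }
    have : (_root_.Stk.resSieve R 𝒳).IsEquivalence := h𝒳.2 _ hR
    obtain ⟨x, hx, μ, hμ, hμn⟩ := exists_cocone hp (R := R) inferInstance cX
    let S₁ : Sieve x := (R.pullback (eqToHom hx)).functorPullback 𝒳.p
    have : (_root_.Stk.resSieve S₁ 𝒴).IsEquivalence := h𝒴.2 _ (hS' hx)
    let w : (_root_.Stk.sieveCat S₁).obj → (_root_.Stk.sieveCat R).obj := fun z =>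
      arrowObj (𝒳.p.map z.obj.hom ≫ eqToHom hx) z.property
    have hθ : ∀ z, ∃ θ : z.obj.left ⟶ cX.obj (w z),
        𝒳.p.IsHomLift (𝟙 (w z).obj.left) θ ∧ θ ≫ μ (w z) = z.obj.hom := fun z => by
      have := hμ (w z)
      have : 𝒳.p.IsHomLift (𝟙 (w z).obj.left ≫ (w z).obj.hom) z.obj.hom := by
        rw [Category.id_comp]; exact IsHomLift.of_fac 𝒳.p _ _ rfl hx (by simp [w])
      exact (IsFibGrpd.existsUnique_lift hp (w z).obj.hom (𝟙 _) (μ (w z)) z.obj.hom).exists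
    choose θ hθ₁ hθ₂ using hθ
    have ht : ∀ z, ∃ (t : 𝒴.obj) (e : t ⟶ c.obj (w z)), 𝒴.p.IsHomLift (θ z) e := fun z => hP.exists_lift (θ z)
    choose t e he using ht
    let ψ : ∀ {z z' : (_root_.Stk.sieveCat S₁).obj}, (z ⟶ z') → (w z ⟶ w z') := fun {z z'} φ =>
      ObjectProperty.homMk (Over.homMk (𝒳.p.map φ.hom.left) (by
        change 𝒳.p.map φ.hom.left ≫ 𝒳.p.map z'.obj.hom ≫ eqToHom hx = 𝒳.p.map z.obj.hom ≫ eqToHom hx
        rw [← 𝒳.p.map_comp_assoc, Over.w]))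
    have hψθ : ∀ {z z' : (_root_.Stk.sieveCat S₁).obj} (φ : z ⟶ z'),
        θ z ≫ cX.map (ψ φ) = φ.hom.left ≫ θ z' := fun {z z'} φ => by
      have := hμ (w z')
      have := hθ₁ z
      have := hθ₁ z'
      have : (_root_.Stk.sieveCat R).p.IsHomLift (𝒳.p.map φ.hom.left) (ψ φ) :=
        IsHomLift.map (_root_.Stk.sieveCat R).p (ψ φ)
      have : 𝒳.p.IsHomLift (𝒳.p.map φ.hom.left) (cX.map (ψ φ)) := BasedFunctor.preserves_isHomLift cX _ _
      have : 𝒳.p.IsHomLift (𝒳.p.map φ.hom.left) (θ z ≫ cX.map (ψ φ)) :=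
        IsHomLift.comp_lift_id_left' 𝒳.p (w z).obj.left _ _ _
      have : 𝒳.p.IsHomLift (𝒳.p.map φ.hom.left) (φ.hom.left ≫ θ z') :=
        IsHomLift.comp_lift_id_right' 𝒳.p _ _ (w z').obj.left _
      apply IsFibGrpd.hom_ext hp (𝒳.p.map φ.hom.left) (w z').obj.hom (μ (w z'))
      rw [Category.assoc, hμn, hθ₂, Category.assoc, hθ₂, Over.w]
    have hd : ∀ {z z' : (_root_.Stk.sieveCat S₁).obj} (φ : z ⟶ z'),
        ∃! u : t z ⟶ t z', 𝒴.p.IsHomLift φ.hom.left u ∧ u ≫ e z' = e z ≫ c.map (ψ φ) := fun {z z'} φ => by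
      have := he z
      have := he z'
      have : 𝒴.p.IsHomLift (cX.map (ψ φ)) (c.map (ψ φ)) := IsHomLift.map 𝒴.p (c.map (ψ φ))
      have : 𝒴.p.IsHomLift (φ.hom.left ≫ θ z') (e z ≫ c.map (ψ φ)) := by
        rw [← hψθ φ]; infer_instance
      exact IsFibGrpd.existsUnique_lift hP (θ z') φ.hom.left (e z') (e z ≫ c.map (ψ φ))
    let u : ∀ {z z' : (_root_.Stk.sieveCat S₁).obj}, (z ⟶ z') → (t z ⟶ t z') := fun φ => (hd φ).exists.choose
    have hu : ∀ {z z' : (_root_.Stk.sieveCat S₁).obj} (φ : z ⟶ z'),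
        𝒴.p.IsHomLift φ.hom.left (u φ) ∧ u φ ≫ e z' = e z ≫ c.map (ψ φ) := fun φ => (hd φ).exists.choose_spec
    have hψ_id : ∀ z, ψ (𝟙 z) = 𝟙 (w z) := fun z =>
      ObjectProperty.hom_ext _ (Over.OverMorphism.ext (𝒳.p.map_id z.obj.left))
    have hψ_comp : ∀ {z z' z'' : (_root_.Stk.sieveCat S₁).obj} (φ : z ⟶ z') (φ' : z' ⟶ z''),
        ψ (φ ≫ φ') = ψ φ ≫ ψ φ' := fun φ φ' =>
      ObjectProperty.hom_ext _ (Over.OverMorphism.ext (𝒳.p.map_comp φ.hom.left φ'.hom.left))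
    let dF : (_root_.Stk.sieveCat S₁).obj ⥤ 𝒴.obj :=
      { obj := t
        map := u
        map_id := fun z => (hd (𝟙 z)).unique (hu _)
          ⟨IsHomLift.id (have := he z; IsHomLift.domain_eq 𝒴.p (θ z) (e z)), by
            rw [hψ_id, c.map_id, Category.id_comp, Category.comp_id]⟩
        map_comp := fun {z z' z''} φ φ' => (hd (φ ≫ φ')).unique (hu _)
          ⟨by
            have := (hu φ).1
            have := (hu φ').1
            change 𝒴.p.IsHomLift (φ.hom.left ≫ φ'.hom.left) (u φ ≫ u φ')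
            infer_instance, by
            rw [hψ_comp, c.map_comp, Category.assoc, (hu φ').2, reassoc_of% (hu φ).2]⟩ }
    let d : _root_.Stk.sieveCat S₁ ⥤ᵇ 𝒴 :=
      { toFunctor := dF
        w := CategoryTheory.Functor.ext (fun z => have := he z; IsHomLift.domain_eq 𝒴.p (θ z) (e z))
          fun z z' φ => have := (hu φ).1; IsHomLift.fac' 𝒴.p φ.hom.left (u φ) }
    obtain ⟨a, haP, m, hm, hmn⟩ := exists_cocone hP (R := S₁) inferInstance d
    have hzw : ∀ W : (_root_.Stk.sieveCat R).obj, S₁ (μ W) := fun W => by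
      have := hμ W
      exact mem_pullback_eqToHom 𝒳.p hx R (f := W.obj.hom) (μ W) W.property
    let ζ : ∀ _ : (_root_.Stk.sieveCat R).obj, (_root_.Stk.sieveCat S₁).obj := fun W => arrowObj (μ W) (hzw W)
    let φ₀ : ∀ W, w (ζ W) ⟶ W := fun W =>
      ObjectProperty.homMk (Over.homMk (eqToHom (cX.w_obj W)) (by
        have := hμ W
        change eqToHom (cX.w_obj W) ≫ W.obj.hom = 𝒳.p.map (μ W) ≫ eqToHom hx
        rw [IsHomLift.fac' 𝒳.p W.obj.hom (μ W)]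
        simp))
    have hK' : ∀ W, 𝒴.p.IsHomLift (𝟙 (cX.obj W)) (e (ζ W) ≫ c.map (φ₀ W)) := fun W => by
      have := hθ₁ (ζ W)
      have := hμ W
      have hφ₀ : (_root_.Stk.sieveCat R).p.IsHomLift (eqToHom (cX.w_obj W)) (φ₀ W) :=
        IsHomLift.map (_root_.Stk.sieveCat R).p (φ₀ W)
      have : 𝒳.p.IsHomLift (eqToHom (cX.w_obj W)) (cX.map (φ₀ W)) := BasedFunctor.preserves_isHomLift cX _ _
      have : 𝒳.p.IsHomLift (eqToHom (cX.w_obj W)) (θ (ζ W) ≫ cX.map (φ₀ W)) :=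
        IsHomLift.comp_lift_id_left' 𝒳.p (w (ζ W)).obj.left _ _ _
      have : 𝒳.p.IsHomLift (eqToHom (cX.w_obj W)) (𝟙 (cX.obj W)) :=
        IsHomLift.of_fac' 𝒳.p _ _ rfl (cX.w_obj W) (by simp)
      have e₀ : θ (ζ W) ≫ cX.map (φ₀ W) = 𝟙 (cX.obj W) := by
        apply IsFibGrpd.hom_ext hp (eqToHom (cX.w_obj W)) W.obj.hom (μ W)
        rw [Category.assoc, hμn, hθ₂]
        exact (Category.id_comp (μ W)).symm
      have := he (ζ W)
      have : 𝒴.p.IsHomLift (cX.map (φ₀ W)) (c.map (φ₀ W)) := IsHomLift.map 𝒴.p (c.map (φ₀ W))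
      rw [← e₀]; infer_instance
    have hK : ∀ W, IsIso (e (ζ W) ≫ c.map (φ₀ W)) := fun W =>
      have := hK' W
      IsFibGrpd.isIso_of_isHomLift_id hP (R := cX.obj W) _
    refine ⟨a, (congrArg 𝒳.p.obj haP).trans hx, fun W => inv (e (ζ W) ≫ c.map (φ₀ W)) ≫ m (ζ W), fun W => ?_,
      fun {W W'} φ => ?_⟩
    · have := hμ W
      have := hm (ζ W)
      have hD : 𝒴.p.obj (t (ζ W)) = cX.obj W := d.w_obj (ζ W)
      have : 𝒴.p.IsHomLift (μ W) (m (ζ W)) := hm (ζ W)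
      have := hK W
      have : 𝒴.p.IsHomLift (𝟙 (cX.obj W)) (asIso (e (ζ W) ≫ c.map (φ₀ W))).hom := hK' W
      have : 𝒴.p.IsHomLift (𝟙 (cX.obj W)) (inv (e (ζ W) ≫ c.map (φ₀ W))) :=
        isHomLift_id_inv 𝒴.p (R := cX.obj W) (asIso (e (ζ W) ≫ c.map (φ₀ W)))
      have : 𝒴.p.IsHomLift (μ W) (inv (e (ζ W) ≫ c.map (φ₀ W)) ≫ m (ζ W)) :=
        IsHomLift.comp_lift_id_left' 𝒴.p (cX.obj W) _ _ _
      exact isHomLift_comp (F := 𝒴.p) (G := 𝒳.p) (μ W) W.obj.hom _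
    · let φz : ζ W ⟶ ζ W' := ObjectProperty.homMk (Over.homMk (cX.map φ) (hμn φ))
      have hsq : ψ φz ≫ φ₀ W' = φ₀ W ≫ φ := ObjectProperty.hom_ext _ (Over.OverMorphism.ext (by
        change 𝒳.p.map (cX.map φ) ≫ eqToHom (cX.w_obj W') = eqToHom (cX.w_obj W) ≫ φ.hom.left
        have : (_root_.Stk.sieveCat R).p.IsHomLift φ.hom.left φ := IsHomLift.map (_root_.Stk.sieveCat R).p φ
        have : 𝒳.p.IsHomLift φ.hom.left (cX.map φ) := BasedFunctor.preserves_isHomLift cX _ _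
        rw [IsHomLift.fac' 𝒳.p φ.hom.left (cX.map φ)]
        simp))
      have := hK W
      have := hK W'
      have e₁ : u φz ≫ e (ζ W') ≫ c.map (φ₀ W') = (e (ζ W) ≫ c.map (φ₀ W)) ≫ c.map φ := by
        rw [reassoc_of% (hu φz).2, ← c.map_comp, hsq, c.map_comp, Category.assoc]
      have e₂ : u φz ≫ m (ζ W') = m (ζ W) := hmn φz
      rw [← cancel_epi (e (ζ W) ≫ c.map (φ₀ W)), IsIso.hom_inv_id_assoc, ← Category.assoc _ (c.map φ), ← e₁,
        Category.assoc, IsIso.hom_inv_id_assoc, e₂]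

end Comp

end GrothLib.Stk.Relative
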