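import Groth.Prelude.Def_StGerb2
import Groth.Agent.Lib.Stk.Glue
import Groth.Agent.Lib.Stk.Descent
import Groth.Agent.Lib.Stk.Relative
import Groth.Agent.Lib.FibCat.Fp

/-!
# Gerbes: composition, base change, invariance
-/

set_option backward.isDefEq.respectTransparency false
set_option backward.isDefEq.respectTransparency.types false
set_option autoImplicit false

universe v₅ u₅ v₄ u₄ v₃ u₃ v₂ u₂ v u

open CategoryTheory CategoryTheory.Functor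

namespace GrothLib.Stk.Gerbe

open GrothLib.FibCat GrothLib.Stk

variable {C : Type u} [Category.{v} C] {J : GrothendieckTopology C}
variable {𝒳 : BasedCategory.{v₂, u₂} C} {𝒴 : BasedCategory.{v₃, u₃} C} {𝒵 : BasedCategory.{v₄, u₄} C}
  {𝒲 : BasedCategory.{v₅, u₅} C}

theorem base_eq {F : 𝒳 ⥤ᵇ 𝒴} {x x' : 𝒳.obj} {U : C} (b : F.obj x ⟶ F.obj x') [h : 𝒴.p.IsHomLift (𝟙 U) b] :
    𝒳.p.obj x' = U :=
  (F.w_obj x').symm.trans (IsHomLift.codomain_eq 𝒴.p (𝟙 U) b)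

/-- The local lifting of morphisms, with the base named. -/
theorem exists_local_hom {F : 𝒳 ⥤ᵇ 𝒴} (hF : Gerb.LocSurjHom J F) {x x' : 𝒳.obj} {U : C} (hx : 𝒳.p.obj x = U)
    (b : F.obj x ⟶ F.obj x') (hb : 𝒴.p.IsHomLift (𝟙 U) b) :
    ∃ R ∈ J U, ∀ ⦃V : C⦄ (f : V ⟶ U), R f →
      ∃ (x₀ : 𝒳.obj) (φ : x₀ ⟶ x) (ψ : x₀ ⟶ x'),
        𝒳.p.IsHomLift f φ ∧ 𝒳.p.IsHomLift f ψ ∧ F.map φ ≫ b = F.map ψ := by
  subst hx; exact hF x x' b hb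

theorem isGerbeOver_comp (hX : _root_.FibCat.IsFibGrpd 𝒳.p) (hY : _root_.FibCat.IsFibGrpd 𝒴.p)
    (F : 𝒳 ⥤ᵇ 𝒴) (G : 𝒴 ⥤ᵇ 𝒵) (hF : Gerb.IsGerbeOver J F) (hG : Gerb.IsGerbeOver J G) :
    Gerb.IsGerbeOver J (BasedFunctor.comp F G) := by
  constructor
  · intro z
    obtain ⟨R, hR, hl⟩ := hG.1 z
    choose y g hg using hl
    have hy : ∀ {V : C} (f : V ⟶ 𝒵.p.obj z) (hf : R f), 𝒴.p.obj (y f hf) = V := fun f hf =>
      (G.w_obj _).symm.trans (have := hg f hf; IsHomLift.domain_eq 𝒵.p f (g f hf))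
    have h2 := fun {V : C} (f : V ⟶ 𝒵.p.obj z) (hf : R f) => exists_local_lift F hF.1 (y f hf) (hy f hf)
    choose S hS hS' using @h2
    refine ⟨Sieve.bind R fun V f hf => S f hf, J.bind_covering hR fun V f hf => hS f hf, fun W q hq => ?_⟩
    obtain ⟨V, h, f, hf, hh, rfl⟩ := hq
    obtain ⟨x, g', hg'⟩ := hS' f hf h hh
    have := hg f hf
    exact ⟨x, G.map g' ≫ g f hf, inferInstance⟩
  · intro x x' b hb
    change G.obj (F.obj x) ⟶ G.obj (F.obj x') at b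
    obtain ⟨R, hR, hl⟩ := exists_local_hom hG.2 (U := 𝒳.p.obj x) (F.w_obj x) b hb
    have hx' : 𝒳.p.obj x' = 𝒳.p.obj x := base_eq (F := BasedFunctor.comp F G) b (h := hb)
    have key : ∀ {V : C} (f : V ⟶ 𝒳.p.obj x), R f →
        ∃ (x₁ x₁' : 𝒳.obj) (κ : x₁ ⟶ x) (κ' : x₁' ⟶ x') (b₁ : F.obj x₁ ⟶ F.obj x₁'),
          𝒳.p.IsHomLift f κ ∧ 𝒳.p.IsHomLift f κ' ∧ 𝒴.p.IsHomLift (𝟙 V) b₁ ∧
            G.map (F.map κ) ≫ b = G.map b₁ ≫ G.map (F.map κ') := fun {V} f hf => by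
      obtain ⟨y₀, φ, ψ, hφ, hψ, e⟩ := hl f hf
      obtain ⟨x₁, κ, hκ⟩ := hX.exists_lift (x := x) f
      obtain ⟨x₁', κ', hκ'⟩ := IsFibGrpd.exists_lift_of_eq hX hx' f
      obtain ⟨θ, hθ, eθ⟩ := IsFibGrpd.exists_iso_of_lifts hY f (F.map κ) φ
      obtain ⟨θ', hθ', eθ'⟩ := IsFibGrpd.exists_iso_of_lifts hY f (F.map κ') ψ
      have := isHomLift_id_inv 𝒴.p (R := V) θ
      refine ⟨x₁, x₁', κ, κ', θ.inv ≫ θ'.hom, hκ, hκ', IsHomLift.comp_lift_id_left' 𝒴.p V _ (𝟙 V) _, ?_⟩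
      rw [← G.map_comp, Category.assoc, eθ', show F.map κ = θ.inv ≫ φ by rw [← eθ, θ.inv_hom_id_assoc],
        G.map_comp, G.map_comp, Category.assoc, e]
    choose x₁ x₁' κ κ' b₁ hκ hκ' hb₁ hbe using @key
    have h2 := fun {V : C} (f : V ⟶ 𝒳.p.obj x) (hf : R f) => exists_local_hom hF.2
      (have := hκ f hf; IsHomLift.domain_eq 𝒳.p f (κ f hf)) (b₁ f hf) (hb₁ f hf)
    choose S hS hS' using @h2
    refine ⟨Sieve.bind R fun V f hf => S f hf, J.bind_covering hR fun V f hf => hS f hf, fun W q hq => ?_⟩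
    obtain ⟨V, h, f, hf, hh, rfl⟩ := hq
    obtain ⟨x₂, φ₂, ψ₂, hφ₂, hψ₂, e₂⟩ := hS' f hf h hh
    have := hκ f hf
    have := hκ' f hf
    refine ⟨x₂, φ₂ ≫ κ f hf, ψ₂ ≫ κ' f hf, inferInstance, inferInstance, ?_⟩
    change G.map (F.map (φ₂ ≫ κ f hf)) ≫ b = G.map (F.map (ψ₂ ≫ κ' f hf))
    rw [F.map_comp, F.map_comp, G.map_comp, G.map_comp, Category.assoc, hbe f hf, ← G.map_comp_assoc, e₂]

/-- An equivalence is a gerbe. -/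
theorem isGerbeOver_of_isEquivOver (hX : _root_.FibCat.IsFibGrpd 𝒳.p) (hY : _root_.FibCat.IsFibGrpd 𝒴.p)
    (F : 𝒳 ⥤ᵇ 𝒴) (hF : _root_.FibCat.IsEquivOver F) : Gerb.IsGerbeOver J F := by
  constructor
  · refine fun y => ⟨⊤, J.top_mem _, fun V f _ => ?_⟩
    obtain ⟨y', κ, hκ⟩ := hY.exists_lift (x := y) f
    obtain ⟨x, e, he⟩ := IsEquivOver.essSurj hF y'
    have : 𝒴.p.IsHomLift (𝟙 V) e.hom := (IsHomLift.domain_eq 𝒴.p f κ) ▸ he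
    exact ⟨x, e.hom ≫ κ, IsHomLift.comp_lift_id_left' 𝒴.p V e.hom f κ⟩
  · intro x x' b hb
    have := IsEquivOver.full hF
    refine ⟨⊤, J.top_mem _, fun V f _ => ?_⟩
    obtain ⟨x₀, κ, hκ⟩ := hX.exists_lift (x := x) f
    have hb' : 𝒳.p.IsHomLift (𝟙 (𝒳.p.obj x)) (F.toFunctor.preimage b) :=
      (F.isHomLift_iff _ _).1 (by rw [F.toFunctor.map_preimage]; exact hb)
    exact ⟨x₀, κ, κ ≫ F.toFunctor.preimage b, hκ,
      IsHomLift.comp_lift_id_right' 𝒳.p f κ (𝒳.p.obj x) _, by rw [F.map_comp, F.toFunctor.map_preimage]⟩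

/-- The gerbe property passes from a composite with an equivalence. -/
theorem isGerbeOver_of_comp_isEquivOver (K : 𝒳 ⥤ᵇ 𝒴) (hK : _root_.FibCat.IsEquivOver K) (F : 𝒴 ⥤ᵇ 𝒵)
    (h : Gerb.IsGerbeOver J (BasedFunctor.comp K F)) : Gerb.IsGerbeOver J F := by
  constructor
  · intro z
    obtain ⟨R, hR, hl⟩ := h.1 z
    refine ⟨R, hR, fun V f hf => ?_⟩
    obtain ⟨x, g, hg⟩ := hl f hf
    exact ⟨K.obj x, g, hg⟩
  · intro y y' b hb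
    obtain ⟨ξ, e, he⟩ := IsEquivOver.essSurj hK y
    obtain ⟨ξ', e', he'⟩ := IsEquivOver.essSurj hK y'
    have hy' : 𝒴.p.obj y' = 𝒴.p.obj y := base_eq (F := F) b (h := hb)
    have : 𝒴.p.IsHomLift (𝟙 (𝒴.p.obj y)) e'.hom := hy' ▸ he'
    have := isHomLift_id_inv 𝒴.p (R := 𝒴.p.obj y) e'
    have : 𝒵.p.IsHomLift (𝟙 (𝒴.p.obj y)) (b ≫ F.map e'.inv) :=
      IsHomLift.comp_lift_id_left' 𝒵.p (𝒴.p.obj y) b (𝟙 _) _
    have hb₁ : 𝒵.p.IsHomLift (𝟙 (𝒴.p.obj y)) (F.map e.hom ≫ b ≫ F.map e'.inv) :=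
      IsHomLift.comp_lift_id_left' 𝒵.p (𝒴.p.obj y) (F.map e.hom) (𝟙 _) _
    have hξ : 𝒳.p.obj ξ = 𝒴.p.obj y :=
      (K.w_obj ξ).symm.trans (IsHomLift.domain_eq 𝒴.p (𝟙 (𝒴.p.obj y)) e.hom)
    obtain ⟨R, hR, hl⟩ := exists_local_hom (F := BasedFunctor.comp K F) h.2 hξ _ hb₁
    refine ⟨R, hR, fun V f hf => ?_⟩
    obtain ⟨x₀, φ, ψ, hφ, hψ, eq⟩ := hl f hf
    change F.map (K.map φ) ≫ F.map e.hom ≫ b ≫ F.map e'.inv = F.map (K.map ψ) at eq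
    refine ⟨K.obj x₀, K.map φ ≫ e.hom, K.map ψ ≫ e'.hom,
      IsHomLift.comp_lift_id_right' 𝒴.p f _ (𝒴.p.obj y) _, IsHomLift.comp_lift_id_right' 𝒴.p f _ (𝒴.p.obj y) _, ?_⟩
    have h1 : F.map (K.map φ ≫ e.hom) = F.map (K.map φ) ≫ F.map e.hom := F.map_comp _ _
    have h2 : F.map (K.map ψ ≫ e'.hom) = F.map (K.map ψ) ≫ F.map e'.hom := F.map_comp _ _
    refine (congrArg (· ≫ b) h1).trans (((Category.assoc _ _ _).trans ?_).trans h2.symm)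
    rw [← eq]
    simp only [Category.assoc, ← F.map_comp, Iso.inv_hom_id, F.map_id, Category.comp_id]

section BaseChange

variable (F : 𝒳 ⥤ᵇ 𝒴) (G : 𝒲 ⥤ᵇ 𝒴)

theorem isGerbeOver_fpFst (hY : _root_.FibCat.IsFibGrpd 𝒴.p) (hW : _root_.FibCat.IsFibGrpd 𝒲.p)
    (hF : Gerb.IsGerbeOver J F) : Gerb.IsGerbeOver J (_root_.FibCat.fpFst G F) := by
  constructor
  · intro w
    obtain ⟨R, hR, hl⟩ := exists_local_lift F hF.1 (G.obj w) (G.w_obj w)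
    refine ⟨R, hR, fun V f hf => ?_⟩
    obtain ⟨x, g, hg⟩ := hl f hf
    obtain ⟨w₁, κ, hκ⟩ := hW.exists_lift (x := w) f
    obtain ⟨θ, hθ, -⟩ := IsFibGrpd.exists_iso_of_lifts hY f (G.map κ) g
    have hw₁ : 𝒲.p.obj w₁ = V := IsHomLift.domain_eq 𝒲.p f κ
    refine ⟨Fp.mk (F := G) (G := F) w₁ x θ.symm ?_, κ, hκ⟩
    rw [hw₁]
    exact isHomLift_id_inv 𝒴.p (R := V) θ
  · intro o o' b hb
    change o.obj.fst ⟶ o'.obj.fst at b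
    have hb : 𝒲.p.IsHomLift (𝟙 (𝒲.p.obj o.obj.fst)) b := hb
    have := Fp.iso_lift o
    have := Fp.iso_lift o'
    have ho' : 𝒲.p.obj o'.obj.fst = 𝒲.p.obj o.obj.fst := IsHomLift.codomain_eq 𝒲.p (𝟙 _) b
    have : 𝒴.p.IsHomLift (𝟙 (𝒲.p.obj o.obj.fst)) o'.obj.iso.hom := ho' ▸ Fp.iso_lift o'
    have := isHomLift_id_inv 𝒴.p (R := 𝒲.p.obj o.obj.fst) o.obj.iso
    have : 𝒴.p.IsHomLift (𝟙 (𝒲.p.obj o.obj.fst)) (G.map b ≫ o'.obj.iso.hom) :=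
      IsHomLift.comp_lift_id_left' 𝒴.p (𝒲.p.obj o.obj.fst) _ (𝟙 _) _
    have hβ : 𝒴.p.IsHomLift (𝟙 (𝒲.p.obj o.obj.fst)) (o.obj.iso.inv ≫ G.map b ≫ o'.obj.iso.hom) :=
      IsHomLift.comp_lift_id_left' 𝒴.p (𝒲.p.obj o.obj.fst) _ (𝟙 _) _
    obtain ⟨R, hR, hl⟩ := exists_local_hom hF.2 (Fp.snd_proj o) _ hβ
    refine ⟨R, hR, fun V f hf => ?_⟩
    obtain ⟨x₀, φ, ψ, hφ, hψ, e⟩ := hl f hf
    obtain ⟨w₀, κ, hκ⟩ := hW.exists_lift (x := o.obj.fst) f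
    have : 𝒴.p.IsHomLift f (F.map φ ≫ o.obj.iso.inv) :=
      IsHomLift.comp_lift_id_right' 𝒴.p f _ (𝒲.p.obj o.obj.fst) _
    obtain ⟨θ, hθ, eθ⟩ := IsFibGrpd.exists_iso_of_lifts hY f (G.map κ) (F.map φ ≫ o.obj.iso.inv)
    have hw₀ : 𝒲.p.obj w₀ = V := IsHomLift.domain_eq 𝒲.p f κ
    let o₀ : (_root_.FibCat.fp G F).obj := Fp.mk (F := G) (G := F) w₀ x₀ θ.symm (by
      rw [hw₀]; exact isHomLift_id_inv 𝒴.p (R := V) θ)
    have eκ : G.map κ = θ.inv ≫ F.map φ ≫ o.obj.iso.inv := by rw [← eθ, θ.inv_hom_id_assoc]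
    let m : o₀ ⟶ o := Fp.homMk κ φ (by
      change G.map κ ≫ o.obj.iso.hom = θ.inv ≫ F.map φ
      rw [eκ]; simp)
    let m' : o₀ ⟶ o' := Fp.homMk (κ ≫ b) ψ (by
      change G.map (κ ≫ b) ≫ o'.obj.iso.hom = θ.inv ≫ F.map ψ
      rw [← e, G.map_comp, eκ]; simp)
    exact ⟨o₀, m, m', (Fp.isHomLift_iff m f).2 hκ,
      (Fp.isHomLift_iff m' f).2 (IsHomLift.comp_lift_id_right' 𝒲.p f κ (𝒲.p.obj o.obj.fst) b), rfl⟩

end BaseChange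

section Square

universe v₆ u₆

variable {𝒳' : BasedCategory.{v₆, u₆} C} {F : 𝒳 ⥤ᵇ 𝒴} {G : 𝒲 ⥤ᵇ 𝒴} {F' : 𝒳' ⥤ᵇ 𝒲} {G' : 𝒳' ⥤ᵇ 𝒳}
  (e : BasedFunctor.comp F' G ≅ BasedFunctor.comp G' F)

theorem isGerbeOver_of_isTwoCartOver (hX : _root_.FibCat.IsFibGrpd 𝒳.p) (hY : _root_.FibCat.IsFibGrpd 𝒴.p)
    (hW : _root_.FibCat.IsFibGrpd 𝒲.p) (hX' : _root_.FibCat.IsFibGrpd 𝒳'.p)
    (hc : _root_.FibCat.IsTwoCartOver F' G' e) (hF : Gerb.IsGerbeOver J F) : Gerb.IsGerbeOver J F' := by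
  have hfp : _root_.FibCat.IsFibGrpd (_root_.FibCat.fp G F).p := (isFibGrpd_iff_of_isEquivOver _ hc).1 hX'
  exact isGerbeOver_comp hX' hfp (_root_.FibCat.fpLift F' G' e) (_root_.FibCat.fpFst G F)
    (isGerbeOver_of_isEquivOver hX' hfp _ hc) (isGerbeOver_fpFst F G hY hW hF)

theorem isGerbeOver_of_isTwoCartOver_of_locSurjObj (hX : _root_.FibCat.IsFibGrpd 𝒳.p)
    (hY : _root_.FibCat.IsFibGrpd 𝒴.p) (hW : _root_.FibCat.IsFibGrpd 𝒲.p)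
    (hc : _root_.FibCat.IsTwoCartOver F' G' e)
    (hG : Gerb.LocSurjObj J G) (hF' : Gerb.IsGerbeOver J F') : Gerb.IsGerbeOver J F := by
  constructor
  · intro y
    obtain ⟨R, hR, hl⟩ := hG y
    choose w g hg using hl
    have hw : ∀ {V : C} (f : V ⟶ 𝒴.p.obj y) (hf : R f), 𝒲.p.obj (w f hf) = V := fun f hf =>
      (G.w_obj _).symm.trans (have := hg f hf; IsHomLift.domain_eq 𝒴.p f (g f hf))
    have h2 := fun {V : C} (f : V ⟶ 𝒴.p.obj y) (hf : R f) => exists_local_lift F' hF'.1 (w f hf) (hw f hf)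
    choose S hS hS' using @h2
    refine ⟨Sieve.bind R fun V f hf => S f hf, J.bind_covering hR fun V f hf => hS f hf, fun Z q hq => ?_⟩
    obtain ⟨V, h, f, hf, hh, rfl⟩ := hq
    obtain ⟨x', g', hg'⟩ := hS' f hf h hh
    have := hg f hf
    have hx' : 𝒳'.p.obj x' = Z := (F'.w_obj x').symm.trans (IsHomLift.domain_eq 𝒲.p h g')
    have : 𝒴.p.IsHomLift (𝟙 Z) (GrothLib.FibCat.isoApp e x').hom := isHomLift_isoApp e hx'
    have := isHomLift_id_inv 𝒴.p (R := Z) (GrothLib.FibCat.isoApp e x')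
    have : 𝒴.p.IsHomLift (h ≫ f) (G.map g' ≫ g f hf) := inferInstance
    exact ⟨G'.obj x', (GrothLib.FibCat.isoApp e x').inv ≫ G.map g' ≫ g f hf,
      IsHomLift.comp_lift_id_left' 𝒴.p Z _ (h ≫ f) _⟩
  · intro x x' b hb
    have hfst : Gerb.IsGerbeOver J (_root_.FibCat.fpFst G F) :=
      isGerbeOver_of_comp_isEquivOver (_root_.FibCat.fpLift F' G' e) hc (_root_.FibCat.fpFst G F) hF'
    have hx' : 𝒳.p.obj x' = 𝒳.p.obj x := base_eq (F := F) b (h := hb)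
    obtain ⟨R, hR, hl⟩ := exists_local_lift G hG (F.obj x) (F.w_obj x)
    have key : ∀ {V : C} (f : V ⟶ 𝒳.p.obj x), R f →
        ∃ (o o' : (_root_.FibCat.fp G F).obj) (κ : o.obj.snd ⟶ x) (κ' : o'.obj.snd ⟶ x')
          (m : o.obj.fst ⟶ o'.obj.fst),
          𝒳.p.IsHomLift f κ ∧ 𝒳.p.IsHomLift f κ' ∧ 𝒲.p.obj o.obj.fst = V ∧
            𝒲.p.IsHomLift (𝟙 V) m ∧
            o.obj.iso.hom ≫ F.map κ ≫ b = G.map m ≫ o'.obj.iso.hom ≫ F.map κ' := fun {V} f hf => by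
      obtain ⟨w, g, hg⟩ := hl f hf
      obtain ⟨x₁, κ, hκ⟩ := hX.exists_lift (x := x) f
      obtain ⟨x₁', κ', hκ'⟩ := IsFibGrpd.exists_lift_of_eq hX hx' f
      obtain ⟨θ, hθ, eθ⟩ := IsFibGrpd.exists_iso_of_lifts hY f (F.map κ) g
      have : 𝒴.p.IsHomLift f (g ≫ b) := IsHomLift.comp_lift_id_right' 𝒴.p f g (𝒳.p.obj x) b
      obtain ⟨θ', hθ', eθ'⟩ := IsFibGrpd.exists_iso_of_lifts hY f (F.map κ') (g ≫ b)
      have hw : 𝒲.p.obj w = V := (G.w_obj w).symm.trans (IsHomLift.domain_eq 𝒴.p f g)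
      refine ⟨Fp.mk (F := G) (G := F) w x₁ θ (hw ▸ hθ), Fp.mk (F := G) (G := F) w x₁' θ' (hw ▸ hθ'), κ, κ', 𝟙 w,
        hκ, hκ', hw, IsHomLift.id hw, ?_⟩
      change θ.hom ≫ F.map κ ≫ b = G.map (𝟙 w) ≫ θ'.hom ≫ F.map κ'
      rw [reassoc_of% eθ, eθ', G.map_id, Category.id_comp]
    choose o o' κ κ' m hκ hκ' ho hm hmb using @key
    have h2 := fun {V : C} (f : V ⟶ 𝒳.p.obj x) (hf : R f) =>
      exists_local_hom (F := _root_.FibCat.fpFst G F) hfst.2 (ho f hf) (m f hf) (hm f hf)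
    choose S hS hS' using @h2
    refine ⟨Sieve.bind R fun V f hf => S f hf, J.bind_covering hR fun V f hf => hS f hf, fun Z q hq => ?_⟩
    obtain ⟨V, h, f, hf, hh, rfl⟩ := hq
    obtain ⟨o₀, n, n', hn, hn', en⟩ := hS' f hf h hh
    have hn₂ : 𝒳.p.IsHomLift h n.hom.snd := Fp.isHomLift_snd n h hn
    have hn₂' : 𝒳.p.IsHomLift h n'.hom.snd := Fp.isHomLift_snd n' h hn'
    have := hκ f hf
    have := hκ' f hf
    refine ⟨o₀.obj.snd, n.hom.snd ≫ κ f hf, n'.hom.snd ≫ κ' f hf, inferInstance, inferInstance, ?_⟩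
    change n.hom.fst ≫ m f hf = n'.hom.fst at en
    have w₁ : G.map n.hom.fst ≫ (o f hf).obj.iso.hom = o₀.obj.iso.hom ≫ F.map n.hom.snd := Fp.w n
    have w₂ : G.map n'.hom.fst ≫ (o' f hf).obj.iso.hom = o₀.obj.iso.hom ≫ F.map n'.hom.snd := Fp.w n'
    rw [F.map_comp, F.map_comp, Category.assoc, ← cancel_epi o₀.obj.iso.hom, ← reassoc_of% w₁, hmb f hf,
      ← Category.assoc (G.map n.hom.fst), ← G.map_comp, en, reassoc_of% w₂]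

end Square

section Site

theorem isGerbeOver_toSelf_of_isEquivOver (F : 𝒳 ⥤ᵇ 𝒴) (hF : _root_.FibCat.IsEquivOver F)
    (h : Gerb.IsGerbeOver J (_root_.FibCat.toSelf 𝒳)) : Gerb.IsGerbeOver J (_root_.FibCat.toSelf 𝒴) := by
  constructor
  · intro U
    obtain ⟨R, hR, hl⟩ := h.1 U
    refine ⟨R, hR, fun V f hf => ?_⟩
    obtain ⟨x, g, hg⟩ := hl f hf
    have : (_root_.FibCat.selfOver C).p.IsHomLift f g := hg
    have hx : 𝒴.p.obj (F.obj x) = 𝒳.p.obj x := F.w_obj x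
    refine ⟨F.obj x, eqToHom hx ≫ g, IsHomLift.of_fac (𝟭 C) f _
      (hx.trans (IsHomLift.domain_eq (_root_.FibCat.selfOver C).p f g)) rfl ?_⟩
    have e : f = eqToHom (IsHomLift.domain_eq (_root_.FibCat.selfOver C).p f g).symm ≫ g ≫ 𝟙 _ :=
      IsHomLift.fac (_root_.FibCat.selfOver C).p f g
    simpa using e
  · intro y y' b hb
    change 𝒴.p.obj y ⟶ 𝒴.p.obj y' at b
    have hb : (𝟭 C).IsHomLift (𝟙 (𝒴.p.obj y)) b := hb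
    have hy' : 𝒴.p.obj y' = 𝒴.p.obj y := IsHomLift.codomain_eq (𝟭 C) (𝟙 (𝒴.p.obj y)) b
    obtain ⟨ξ, e, he⟩ := IsEquivOver.essSurj hF y
    obtain ⟨ξ', e', he'⟩ := IsEquivOver.essSurj hF y'
    have he'' : 𝒴.p.IsHomLift (𝟙 (𝒴.p.obj y)) e'.hom := hy' ▸ he'
    have hξ : 𝒳.p.obj ξ = 𝒴.p.obj y :=
      (F.w_obj ξ).symm.trans (IsHomLift.domain_eq 𝒴.p (𝟙 (𝒴.p.obj y)) e.hom)
    have hξ' : 𝒳.p.obj ξ' = 𝒴.p.obj y :=
      (F.w_obj ξ').symm.trans (IsHomLift.domain_eq 𝒴.p (𝟙 (𝒴.p.obj y)) e'.hom)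
    obtain ⟨R, hR, hl⟩ := exists_local_hom (F := _root_.FibCat.toSelf 𝒳) h.2 hξ (eqToHom (hξ.trans hξ'.symm))
      (IsHomLift.of_fac (𝟭 C) _ _ hξ hξ' (by simp))
    refine ⟨R, hR, fun V f hf => ?_⟩
    obtain ⟨x₀, φ, ψ, hφ, hψ, -⟩ := hl f hf
    have hl₁ : 𝒴.p.IsHomLift f (F.map φ ≫ e.hom) := IsHomLift.comp_lift_id_right' 𝒴.p f _ (𝒴.p.obj y) _
    have hl₂ : 𝒴.p.IsHomLift f (F.map ψ ≫ e'.hom) := IsHomLift.comp_lift_id_right' 𝒴.p f _ (𝒴.p.obj y) _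
    refine ⟨F.obj x₀, F.map φ ≫ e.hom, F.map ψ ≫ e'.hom, hl₁, hl₂, ?_⟩
    change 𝒴.p.map (F.map φ ≫ e.hom) ≫ b = 𝒴.p.map (F.map ψ ≫ e'.hom)
    have e₀ := IsHomLift.fac' (𝟭 C) (𝟙 (𝒴.p.obj y)) b
    simp only [Functor.id_map] at e₀
    rw [IsHomLift.fac' 𝒴.p f (F.map φ ≫ e.hom), IsHomLift.fac' 𝒴.p f (F.map ψ ≫ e'.hom), e₀]
    simp

theorem isGerbe_iff_of_isEquivOver (F : 𝒳 ⥤ᵇ 𝒴) (hF : _root_.FibCat.IsEquivOver F) :
    Gerb.IsGerbe J 𝒳 ↔ Gerb.IsGerbe J 𝒴 := by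
  obtain ⟨G, hG, -, -⟩ := IsEquivOver.symm hF
  exact ⟨fun h => ⟨(isStack_iff_of_isEquivOver J F hF).1 h.1, isGerbeOver_toSelf_of_isEquivOver F hF h.2⟩,
    fun h => ⟨(isStack_iff_of_isEquivOver J F hF).2 h.1, isGerbeOver_toSelf_of_isEquivOver G hG h.2⟩⟩

/-- A gerbe over a stack is a gerbe for the inherited topology. -/
theorem isGerbe_restrictedTopology (h𝒳 : _root_.Stk.IsStack J 𝒳) (h𝒴 : _root_.Stk.IsStack J 𝒴) (F : 𝒳 ⥤ᵇ 𝒴)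
    (hF : Gerb.IsGerbeOver J F) (hF' : _root_.FibCat.IsFibGrpd F.toFunctor) :
    Gerb.IsGerbe (𝒴.p.restrictedTopology J) (BasedCategory.ofFunctor F.toFunctor) := by
  refine ⟨Relative.isStack_ofFunctor F h𝒳 h𝒴 hF', fun y => ?_, fun x x' b hb => ?_⟩
  · obtain ⟨R, hR, hl⟩ := hF.1 y
    refine ⟨R.functorPullback 𝒴.p, Relative.pullback_covering h𝒴.1 hR, fun y' f hf => ?_⟩
    change 𝒴.obj at y'
    obtain ⟨x, g, hg⟩ := hl (𝒴.p.map f) hf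
    have hf' : 𝒴.p.IsHomLift (𝒴.p.map f) f := IsHomLift.map 𝒴.p f
    obtain ⟨θ, hθ, eθ⟩ := IsFibGrpd.exists_iso_of_lifts h𝒴.1 (𝒴.p.map f) g f
    obtain ⟨x₀, l, hl₀⟩ := hF'.exists_lift (x := x) θ.hom
    have hx₀ : F.obj x₀ = y' := IsHomLift.domain_eq F.toFunctor θ.hom l
    refine ⟨x₀, eqToHom hx₀ ≫ f, IsHomLift.of_fac (𝟭 𝒴.obj) f _ hx₀ rfl (by simp)⟩
  · change F.obj x ⟶ F.obj x' at b
    have hb : (𝟭 𝒴.obj).IsHomLift (𝟙 (F.obj x)) b := hb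
    have hbe : b = eqToHom (IsHomLift.codomain_eq (𝟭 𝒴.obj) (𝟙 (F.obj x)) b).symm := by
      have e : b = eqToHom (IsHomLift.domain_eq (𝟭 𝒴.obj) (𝟙 (F.obj x)) b) ≫ 𝟙 (F.obj x) ≫
          eqToHom (IsHomLift.codomain_eq (𝟭 𝒴.obj) (𝟙 (F.obj x)) b).symm :=
        IsHomLift.fac' (𝟭 𝒴.obj) (𝟙 (F.obj x)) b
      exact e.trans (by simp)
    have hx' : F.obj x' = F.obj x := IsHomLift.codomain_eq (𝟭 𝒴.obj) (𝟙 (F.obj x)) b
    have hb₁ : 𝒴.p.IsHomLift (𝟙 (𝒳.p.obj x)) b :=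
      IsHomLift.of_fac 𝒴.p _ _ (F.w_obj x) ((congrArg 𝒴.p.obj hx').trans (F.w_obj x))
        (by rw [hbe, eqToHom_map]; simp)
    obtain ⟨R, hR, hl⟩ := hF.2 x x' b hb₁
    have hR' : (R.pullback (eqToHom (F.w_obj x))).functorPullback 𝒴.p ∈ 𝒴.p.restrictedTopology J (F.obj x) :=
      Relative.pullback_covering h𝒴.1 (J.pullback_stable _ hR)
    refine ⟨_, hR', fun y' f hf => ?_⟩
    change 𝒴.obj at y'
    change y' ⟶ F.obj x at f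
    obtain ⟨x₀, φ, ψ, hφ, hψ, e⟩ := hl (𝒴.p.map f ≫ eqToHom (F.w_obj x)) hf
    have : 𝒴.p.IsHomLift (𝒴.p.map f ≫ eqToHom (F.w_obj x)) f :=
      IsHomLift.of_fac 𝒴.p _ _ rfl (F.w_obj x) (by simp)
    obtain ⟨θ, hθ, eθ⟩ := IsFibGrpd.exists_iso_of_lifts h𝒴.1 (𝒴.p.map f ≫ eqToHom (F.w_obj x)) (F.map φ) f
    obtain ⟨x₁, l, hl₀⟩ := hF'.exists_lift (x := x₀) θ.hom
    have hx₁ : F.obj x₁ = y' := IsHomLift.domain_eq F.toFunctor θ.hom l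
    have hl' : F.map l = eqToHom hx₁ ≫ θ.hom := by
      rw [IsHomLift.fac' F.toFunctor θ.hom l, eqToHom_refl, Category.comp_id]
    refine ⟨x₁, l ≫ φ, l ≫ ψ, IsHomLift.of_fac F.toFunctor f _ hx₁ rfl ?_,
      IsHomLift.of_fac F.toFunctor f _ hx₁ hx' ?_, ?_⟩
    · simp only [F.map_comp, hl', Category.assoc, eθ]
      simp
    · simp only [F.map_comp, hl', Category.assoc, ← e, reassoc_of% eθ, hbe]
      simp
    · change F.map (l ≫ φ) ≫ b = F.map (l ≫ ψ)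
      rw [F.map_comp, F.map_comp, Category.assoc, e]

end Site

end GrothLib.Stk.Gerbe
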