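import Groth.Agent.Lib.Stk.Basic
import Groth.Agent.Lib.FibCat.Psh
import Mathlib.CategoryTheory.Sites.SheafOfTypes

/-!
# The category of a presheaf is a stack iff the presheaf is a sheaf
-/

set_option backward.isDefEq.respectTransparency false
set_option backward.isDefEq.respectTransparency.types false

universe w v₅ u₅ v u

open CategoryTheory CategoryTheory.Functor Opposite

namespace GrothLib.Stk

open GrothLib.FibCat

variable {C : Type u} [Category.{v} C] {P : Cᵒᵖ ⥤ Type w} {𝒜 : BasedCategory.{v₅, u₅} C}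

/-- The section attached to an object by a functor into the category of a presheaf. -/
def psec (G : 𝒜 ⥤ᵇ _root_.Stk.ofPsh P) (a : 𝒜.obj) : P.obj (op (𝒜.p.obj a)) :=
  P.map (eqToHom (G.w_obj a).symm).op (G.obj a).sec

theorem psec_map (G : 𝒜 ⥤ᵇ _root_.Stk.ofPsh P) {a b : 𝒜.obj} (φ : a ⟶ b) :
    P.map (𝒜.p.map φ).op (psec G b) = psec G a := by
  have h1 : (G.map φ).hom = eqToHom (G.w_obj a) ≫ 𝒜.p.map φ ≫ eqToHom (G.w_obj b).symm := p_map_map G φ
  have h2 := (G.map φ).map_sec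
  rw [psec, psec, ← h2, h1]
  refine (map_map_sec _ _ _ rfl _).trans (map_map_sec _ _ _ ?_ _).symm
  exact (eqToHom_trans_assoc _ _ _).trans (by simp)

theorem psec_eq_of_hom {G H : 𝒜 ⥤ᵇ _root_.Stk.ofPsh P} (α : G ⟶ H) (a : 𝒜.obj) : psec G a = psec H a := by
  have hs := sec_eq_of_isHomLift (T := 𝒜.p.obj a) (α.toNatTrans.app a) (hφ := BasedNatTrans.isHomLift α rfl)
  rw [psec, psec, ← hs]
  exact map_map_sec _ _ _ (eqToHom_trans _ _) _

theorem hom_subsingleton {G H : 𝒜 ⥤ᵇ _root_.Stk.ofPsh P} (α β : G ⟶ H) : α = β :=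
  natTrans_ext fun a =>
    @IsFibSetoid.hom_ext' _ _ _ _ (_root_.Stk.EltObj.forget P) (isFibSetoid_ofPsh P) _ _ (𝟙 (𝒜.p.obj a)) _ _
      (α.toNatTrans.app a) (β.toNatTrans.app a) (BasedNatTrans.isHomLift α rfl) (BasedNatTrans.isHomLift β rfl)

/-- Functors with the same sections are isomorphic. -/
def isoOfPsecEq {G H : 𝒜 ⥤ᵇ _root_.Stk.ofPsh P} (h : ∀ a, psec G a = psec H a) : G ≅ H :=
  natIsoOfComponents
    (fun a => eqToIso (eltObj_eq ((G.w_obj a).trans (H.w_obj a).symm) (by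
      have e := congrArg (fun t => P.map (eqToHom (G.w_obj a)).op t) (h a)
      simp only [psec] at e
      refine Eq.trans ?_ (e.symm.trans ((map_map_sec _ _ (𝟙 _) ((eqToHom_trans _ _).trans (eqToHom_refl _ _)) _).trans ?_))
      · exact (map_map_sec _ _ _ (eqToHom_trans _ _) _).symm
      · simp)))
    (fun a => IsHomLift.of_fac' _ _ _ (G.w_obj a) (H.w_obj a) (by simp [eltObj_eqToHom_hom]))
    (fun {a b} f => ofPsh_hom_ext (by
      have h1 : (G.map f).hom = eqToHom (G.w_obj a) ≫ 𝒜.p.map f ≫ eqToHom (G.w_obj b).symm := p_map_map G f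
      have h2 : (H.map f).hom = eqToHom (H.w_obj a) ≫ 𝒜.p.map f ≫ eqToHom (H.w_obj b).symm := p_map_map H f
      simp only [eqToIso.hom, _root_.Stk.EltObj.comp_hom, eltObj_eqToHom_hom, h1, h2]
      simp))

/-- The functor of a compatible family of sections. -/
def ofSecs (s : ∀ a : 𝒜.obj, P.obj (op (𝒜.p.obj a)))
    (hs : ∀ {a b : 𝒜.obj} (φ : a ⟶ b), P.map (𝒜.p.map φ).op (s b) = s a) : 𝒜 ⥤ᵇ _root_.Stk.ofPsh P where
  toFunctor :=
    { obj := fun a => ⟨𝒜.p.obj a, s a⟩
      map := fun φ => ⟨𝒜.p.map φ, hs φ⟩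
      map_id := fun a => ofPsh_hom_ext (𝒜.p.map_id a)
      map_comp := fun φ ψ => ofPsh_hom_ext (𝒜.p.map_comp φ ψ) }
  w := rfl

theorem psec_ofSecs (s : ∀ a : 𝒜.obj, P.obj (op (𝒜.p.obj a)))
    (hs : ∀ {a b : 𝒜.obj} (φ : a ⟶ b), P.map (𝒜.p.map φ).op (s b) = s a) (a : 𝒜.obj) :
    psec (ofSecs s hs) a = s a := by
  change P.map (𝟙 _).op (s a) = s a
  simp

variable {U : C}

theorem psec_overCat (G : _root_.FibCat.overCat U ⥤ᵇ _root_.Stk.ofPsh P) (a : (_root_.FibCat.overCat U).obj) :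
    psec G a = P.map a.hom.op (psec G (Yon.idObj U)) := (psec_map G (Yon.toId a)).symm

/-- The functor of a section over `U`. -/
def ofSec (x : P.obj (op U)) : _root_.FibCat.overCat U ⥤ᵇ _root_.Stk.ofPsh P :=
  ofSecs (fun a => P.map a.hom.op x) fun {a b} φ => map_map_sec _ _ _ (Over.w φ) _

theorem psec_ofSec (x : P.obj (op U)) (a : (_root_.FibCat.overCat U).obj) :
    psec (ofSec x) a = P.map a.hom.op x := by
  change P.map (𝟙 _).op (P.map a.hom.op x) = _
  simp

variable {R : Sieve U}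

theorem psec_res (G : _root_.FibCat.overCat U ⥤ᵇ _root_.Stk.ofPsh P) (a : (_root_.Stk.sieveCat R).obj) :
    psec ((_root_.Stk.resSieve R _).obj G) a = psec G a.obj := rfl

/-- An object of the category of a sieve. -/
def sieveObj {V : C} (f : V ⟶ U) (hf : R f) : (_root_.Stk.sieveCat R).obj := ⟨Over.mk f, hf⟩

/-- The family of sections of a functor out of a sieve. -/
def famOf (c : _root_.Stk.sieveCat R ⥤ᵇ _root_.Stk.ofPsh P) : Presieve.FamilyOfElements P R.arrows :=
  fun _ f hf => psec c (sieveObj f hf)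

theorem famOf_compatible (c : _root_.Stk.sieveCat R ⥤ᵇ _root_.Stk.ofPsh P) : (famOf c).Compatible := by
  intro V₁ V₂ W g₁ g₂ f₁ f₂ h₁ h₂ e
  let z : (_root_.Stk.sieveCat R).obj := sieveObj (g₁ ≫ f₁) (R.downward_closed h₁ g₁)
  let m₁ : z ⟶ sieveObj f₁ h₁ := ObjectProperty.homMk (Over.homMk g₁ rfl)
  let m₂ : z ⟶ sieveObj f₂ h₂ := ObjectProperty.homMk (Over.homMk g₂ e.symm)
  exact (psec_map c m₁).trans (psec_map c m₂).symm

/-- The functor of a compatible family. -/
def ofFam (x : Presieve.FamilyOfElements P R.arrows) (hx : x.Compatible) :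
    _root_.Stk.sieveCat R ⥤ᵇ _root_.Stk.ofPsh P :=
  ofSecs (fun a => x a.obj.hom a.property) fun {a b} φ => by
    have hw : φ.hom.left ≫ b.obj.hom = a.obj.hom := Over.w φ.hom
    refine (hx φ.hom.left (𝟙 _) b.property a.property (by rw [hw, Category.id_comp])).trans ?_
    simp

theorem psec_ofFam (x : Presieve.FamilyOfElements P R.arrows) (hx : x.Compatible)
    (a : (_root_.Stk.sieveCat R).obj) : psec (ofFam x hx) a = x a.obj.hom a.property := by
  change P.map (𝟙 _).op (x a.obj.hom a.property) = _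
  simp

theorem full_resSieve_ofPsh (h : Presieve.IsSeparatedFor P R.arrows) :
    (_root_.Stk.resSieve R (_root_.Stk.ofPsh P)).Full := by
  refine ⟨fun {G H} β => ?_⟩
  have e0 : psec G (Yon.idObj U) = psec H (Yon.idObj U) := h (famOf ((_root_.Stk.resSieve R _).obj H)) _ _
    (fun V f hf => (psec_overCat G (Over.mk f)).symm.trans (psec_eq_of_hom β (sieveObj f hf)))
    (fun V f hf => (psec_overCat H (Over.mk f)).symm)
  have e : ∀ a, psec G a = psec H a := fun a => by rw [psec_overCat, psec_overCat H, e0]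
  exact ⟨(isoOfPsecEq e).hom, hom_subsingleton _ _⟩

theorem faithful_resSieve_ofPsh : (_root_.Stk.resSieve R (_root_.Stk.ofPsh P)).Faithful :=
  ⟨fun _ => hom_subsingleton _ _⟩

theorem isSeparatedFor_of_full (h : (_root_.Stk.resSieve R (_root_.Stk.ofPsh P)).Full) :
    Presieve.IsSeparatedFor P R.arrows := by
  intro x t₁ t₂ h₁ h₂
  have e : ∀ a, psec ((_root_.Stk.resSieve R _).obj (ofSec t₁)) a = psec ((_root_.Stk.resSieve R _).obj (ofSec t₂)) a :=
    fun a => by
      rw [psec_res, psec_res, psec_ofSec, psec_ofSec, h₁ a.obj.hom a.property, h₂ a.obj.hom a.property]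
  obtain ⟨α, -⟩ := h.map_surjective (isoOfPsecEq e).hom
  have := psec_eq_of_hom α (Yon.idObj U)
  rw [psec_ofSec, psec_ofSec] at this
  simpa [Yon.idObj] using this

theorem isPrestackFor_ofPsh_iff : _root_.Stk.IsPrestackFor R (_root_.Stk.ofPsh P) ↔
    Presieve.IsSeparatedFor P R.arrows :=
  ⟨fun h => isSeparatedFor_of_full h.1, fun h => ⟨full_resSieve_ofPsh h, faithful_resSieve_ofPsh⟩⟩

theorem isStackFor_ofPsh_iff : _root_.Stk.IsStackFor R (_root_.Stk.ofPsh P) ↔
    Presieve.IsSheafFor P R.arrows := by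
  constructor
  · intro h x hx
    have : (_root_.Stk.resSieve R (_root_.Stk.ofPsh P)).IsEquivalence := h
    let G := (_root_.Stk.resSieve R (_root_.Stk.ofPsh P)).objPreimage (ofFam x hx)
    let i := (_root_.Stk.resSieve R (_root_.Stk.ofPsh P)).objObjPreimageIso (ofFam x hx)
    refine ⟨psec G (Yon.idObj U), fun V f hf => ?_, fun t ht => ?_⟩
    · exact (psec_overCat G (Over.mk f)).symm.trans ((psec_eq_of_hom i.hom (sieveObj f hf)).trans (psec_ofFam x hx _))
    · exact isSeparatedFor_of_full inferInstance x _ _ ht fun V f hf =>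
        (psec_overCat G (Over.mk f)).symm.trans ((psec_eq_of_hom i.hom (sieveObj f hf)).trans (psec_ofFam x hx _))
  · intro h
    refine { faithful := faithful_resSieve_ofPsh, full := full_resSieve_ofPsh h.isSeparatedFor,
             essSurj := ⟨fun c => ?_⟩ }
    obtain ⟨t, ht, -⟩ := h (famOf c) (famOf_compatible c)
    refine ⟨ofSec t, ⟨isoOfPsecEq fun a => ?_⟩⟩
    rw [psec_res, psec_ofSec, ht a.obj.hom a.property]
    rfl

theorem isStack_ofPsh_iff (J : GrothendieckTopology C) :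
    _root_.Stk.IsStack J (_root_.Stk.ofPsh P) ↔ Presieve.IsSheaf J P :=
  ⟨fun h _ R hR => isStackFor_ofPsh_iff.1 (h.2 R hR),
    fun h => ⟨_root_.Stk.isFibGrpd_ofPsh P, fun _ R hR => isStackFor_ofPsh_iff.2 (h R hR)⟩⟩

end GrothLib.Stk
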