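import Groth.Agent.Lib.Stk.LocEquiv

/-!
# Stacks with matched families of objects are equivalent

Two stacks, each covered by a family of objects with the same index set, such that the morphisms between
members of the two families correspond bijectively and compatibly with composition, are equivalent.
-/

set_option backward.isDefEq.respectTransparency false
set_option backward.isDefEq.respectTransparency.types false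
set_option autoImplicit false
set_option linter.unusedSectionVars false

universe w v₃ u₃ v₂ u₂ v u

open CategoryTheory CategoryTheory.Functor

namespace GrothLib.Stk.MatchEquiv

open GrothLib.FibCat

variable {C : Type u} [Category.{v} C] {J : GrothendieckTopology C}

/-- Matched families of objects. -/
structure Data (𝒳 : BasedCategory.{v₂, u₂} C) (𝒴 : BasedCategory.{v₃, u₃} C) where
  ι : Type w
  base : ι → C
  X : ι → 𝒳.obj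
  Y : ι → 𝒴.obj
  hX : ∀ i, 𝒳.p.obj (X i) = base i
  hY : ∀ i, 𝒴.p.obj (Y i) = base i
  res : ∀ (i : ι) {W : C} (r : W ⟶ base i), ∃ (j : ι) (μ : X j ⟶ X i), 𝒳.p.IsHomLift r μ
  Θ : ∀ {i j : ι}, (X i ⟶ X j) ≃ (Y i ⟶ Y j)
  Θ_comp : ∀ {i j k : ι} (μ : X i ⟶ X j) (ν : X j ⟶ X k), Θ (μ ≫ ν) = Θ μ ≫ Θ ν
  Θ_lift : ∀ {i j : ι} {V W : C} (r : V ⟶ W) (μ : X i ⟶ X j), 𝒳.p.IsHomLift r μ → 𝒴.p.IsHomLift r (Θ μ)

variable {𝒳 : BasedCategory.{v₂, u₂} C} {𝒴 : BasedCategory.{v₃, u₃} C}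

/-- The sieve over which the object is the value of a member of the family. -/
def Data.locSieve (M : Data.{w} 𝒳 𝒴) (a : 𝒳.obj) : Sieve (𝒳.p.obj a) where
  arrows V g := ∃ (i : M.ι) (κ : M.X i ⟶ a), 𝒳.p.IsHomLift g κ
  downward_closed := by
    rintro V W g ⟨i, κ, hκ⟩ r
    have hV : M.base i = V := (M.hX i).symm.trans (IsHomLift.domain_eq 𝒳.p g κ)
    subst hV
    obtain ⟨j, μ, hμ⟩ := M.res i r
    exact ⟨j, μ ≫ κ, inferInstance⟩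

namespace Data

variable (M : Data.{w} 𝒳 𝒴)

theorem exists_base {i : M.ι} {a : 𝒳.obj} (κ : M.X i ⟶ a) :
    ∃ g : M.base i ⟶ 𝒳.p.obj a, 𝒳.p.IsHomLift g κ :=
  ⟨eqToHom (M.hX i).symm ≫ 𝒳.p.map κ, IsHomLift.of_fac 𝒳.p _ _ (M.hX i) rfl (by simp)⟩

/-- The families interchanged. -/
def symm : Data.{w} 𝒴 𝒳 where
  ι := M.ι
  base := M.base
  X := M.Y
  Y := M.X
  hX := M.hY
  hY := M.hX
  res i _ r := by
    obtain ⟨j, μ, hμ⟩ := M.res i r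
    exact ⟨j, M.Θ μ, M.Θ_lift r μ hμ⟩
  Θ := M.Θ.symm
  Θ_comp μ ν := by rw [Equiv.symm_apply_eq, M.Θ_comp, Equiv.apply_symm_apply, Equiv.apply_symm_apply]
  Θ_lift {i j V W} r ν h := by
    obtain ⟨g, hg⟩ := M.exists_base (M.Θ.symm ν)
    have hν := M.Θ_lift g _ hg
    rw [Equiv.apply_symm_apply] at hν
    obtain rfl := (IsHomLift.domain_eq 𝒴.p r ν).symm.trans (IsHomLift.domain_eq 𝒴.p g ν)
    obtain rfl := (IsHomLift.codomain_eq 𝒴.p r ν).symm.trans (IsHomLift.codomain_eq 𝒴.p g ν)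
    rwa [show r = g by rw [IsHomLift.fac 𝒴.p r ν, IsHomLift.fac 𝒴.p g ν]]

variable (h : _root_.FibCat.IsFibGrpd 𝒴.p)
include h

theorem Θ_id (i : M.ι) : M.Θ (𝟙 (M.X i)) = 𝟙 (M.Y i) := by
  have hl : 𝒴.p.IsHomLift (𝟙 (M.base i)) (M.Θ (𝟙 (M.X i))) := M.Θ_lift _ _ (IsHomLift.id (M.hX i))
  have := IsFibGrpd.isIso_of_isHomLift_id h (R := M.base i) (M.Θ (𝟙 (M.X i)))
  refine (cancel_epi (M.Θ (𝟙 (M.X i)))).1 ?_
  rw [← M.Θ_comp, Category.comp_id, Category.comp_id]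

end Data

/-- Identified local presentations of a pair of objects. -/
structure Link (M : Data.{w} 𝒳 𝒴) (a : 𝒳.obj) where
  b : 𝒴.obj
  hb : 𝒴.p.obj b = 𝒳.p.obj a
  Φ : ∀ {i : M.ι}, (M.X i ⟶ a) → (M.Y i ⟶ b)
  lift : ∀ {i : M.ι} (g : M.base i ⟶ 𝒳.p.obj a) (κ : M.X i ⟶ a), 𝒳.p.IsHomLift g κ → 𝒴.p.IsHomLift g (Φ κ)
  eqv : ∀ {i j : M.ι} (μ : M.X i ⟶ M.X j) (κ : M.X j ⟶ a), Φ (μ ≫ κ) = M.Θ μ ≫ Φ κ

section Ext

variable (h𝒳 : _root_.Stk.IsStack J 𝒳) (h𝒴 : _root_.Stk.IsStack J 𝒴) (M : Data.{w} 𝒳 𝒴)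
  (hloc : ∀ a, M.locSieve a ∈ J (𝒳.p.obj a))

include h𝒳 h𝒴 hloc

/-- Morphisms out of the second object of a pair are given on the presentations. -/
theorem exists_ext {a : 𝒳.obj} (L : Link M a) {b' : 𝒴.obj} {T' : C} (h : 𝒳.p.obj a ⟶ T') (hb' : 𝒴.p.obj b' = T')
    (Ψ : ∀ {i : M.ι}, (M.X i ⟶ a) → (M.Y i ⟶ b'))
    (lift : ∀ {i : M.ι} (g : M.base i ⟶ 𝒳.p.obj a) (κ : M.X i ⟶ a), 𝒳.p.IsHomLift g κ → 𝒴.p.IsHomLift (g ≫ h) (Ψ κ))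
    (eqv : ∀ {i j : M.ι} (μ : M.X i ⟶ M.X j) (κ : M.X j ⟶ a), Ψ (μ ≫ κ) = M.Θ μ ≫ Ψ κ) :
    ∃ β : L.b ⟶ b', 𝒴.p.IsHomLift h β ∧ ∀ {i : M.ι} (κ : M.X i ⟶ a), L.Φ κ ≫ β = Ψ κ := by
  subst hb'
  have hB := h𝒴.1
  have wd : ∀ {c : 𝒴.obj} {i i' : M.ι} (κ : M.X i ⟶ a) (κ' : M.X i' ⟶ a) (l : c ⟶ M.Y i) (l' : c ⟶ M.Y i'),
      l ≫ L.Φ κ = l' ≫ L.Φ κ' → l ≫ Ψ κ = l' ≫ Ψ κ' := by
    intro c i i' κ κ' l l' e
    obtain ⟨g, hg⟩ := M.exists_base κ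
    obtain ⟨g', hg'⟩ := M.exists_base κ'
    let r : 𝒴.p.obj c ⟶ M.base i := 𝒴.p.map l ≫ eqToHom (M.hY i)
    let r' : 𝒴.p.obj c ⟶ M.base i' := 𝒴.p.map l' ≫ eqToHom (M.hY i')
    have hr : 𝒴.p.IsHomLift r l := IsHomLift.of_fac 𝒴.p _ _ rfl (M.hY i) (by simp [r])
    have hr' : 𝒴.p.IsHomLift r' l' := IsHomLift.of_fac 𝒴.p _ _ rfl (M.hY i') (by simp [r'])
    have er : r ≫ g = r' ≫ g' := by
      have := L.lift g κ hg
      have := L.lift g' κ' hg'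
      have h1 : 𝒴.p.IsHomLift (r ≫ g) (l ≫ L.Φ κ) := inferInstance
      have h2 : 𝒴.p.IsHomLift (r' ≫ g') (l' ≫ L.Φ κ') := inferInstance
      rw [← e] at h2
      rw [IsHomLift.fac 𝒴.p (r ≫ g) (l ≫ L.Φ κ), IsHomLift.fac 𝒴.p (r' ≫ g') (l ≫ L.Φ κ)]
    obtain ⟨j, μ, hμ⟩ := M.res i r
    obtain ⟨j', μ', hμ'⟩ := M.res i' r'
    have hj : 𝒳.p.obj (M.X j) = 𝒴.p.obj c := IsHomLift.domain_eq 𝒳.p r μ
    have hbj : M.base j = 𝒴.p.obj c := (M.hX j).symm.trans hj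
    have i1 : 𝒳.p.IsHomLift (r ≫ g) (μ ≫ κ) := inferInstance
    have i2 : 𝒳.p.IsHomLift (r ≫ g) (μ' ≫ κ') := er ▸ (inferInstance : 𝒳.p.IsHomLift (r' ≫ g') (μ' ≫ κ'))
    have i3 : 𝒳.p.IsHomLift (𝟙 (𝒴.p.obj c) ≫ r ≫ g) (μ ≫ κ) := by rw [Category.id_comp]; exact i1
    obtain ⟨ν, ⟨hν, eν⟩, -⟩ := IsFibGrpd.existsUnique_lift h𝒳.1 (r ≫ g) (𝟙 (𝒴.p.obj c)) (μ' ≫ κ') (μ ≫ κ)
    have j1 : 𝒴.p.IsHomLift r (M.Θ μ) := M.Θ_lift r μ hμ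
    have j2 : 𝒴.p.IsHomLift r' (M.Θ μ') := M.Θ_lift r' μ' hμ'
    have j3 : 𝒴.p.IsHomLift (𝟙 (𝒴.p.obj c)) (M.Θ ν) := M.Θ_lift _ ν hν
    have j4 : 𝒴.p.IsHomLift (𝟙 (𝒴.p.obj c) ≫ r) l := by rw [Category.id_comp]; exact hr
    have j5 : 𝒴.p.IsHomLift (𝟙 (𝒴.p.obj c) ≫ r') l' := by rw [Category.id_comp]; exact hr'
    obtain ⟨θ, ⟨hθ, eθ⟩, -⟩ := IsFibGrpd.existsUnique_lift hB r (𝟙 (𝒴.p.obj c)) (M.Θ μ) l
    obtain ⟨θ', ⟨hθ', eθ'⟩, -⟩ := IsFibGrpd.existsUnique_lift hB r' (𝟙 (𝒴.p.obj c)) (M.Θ μ') l'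
    have e2 : θ ≫ M.Θ ν = θ' := by
      have := L.lift g' κ' hg'
      have : 𝒴.p.IsHomLift (𝟙 (𝒴.p.obj c)) (θ ≫ M.Θ ν) :=
        IsHomLift.comp_lift_id_left' 𝒴.p (𝒴.p.obj c) θ _ _
      refine IsFibGrpd.hom_ext hB (𝟙 (𝒴.p.obj c)) (r' ≫ g') (M.Θ μ' ≫ L.Φ κ') ?_
      rw [Category.assoc, ← L.eqv μ' κ', ← L.eqv, eν, L.eqv, ← Category.assoc θ, eθ, L.eqv, ← Category.assoc θ', eθ', e]
    rw [← eθ, ← eθ', Category.assoc, Category.assoc, ← eqv, ← eqv, ← eν, eqv, ← Category.assoc θ, e2]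
  let R : Sieve (𝒴.p.obj L.b) := (M.locSieve a).pullback (eqToHom L.hb)
  have cov : ∀ {c : 𝒴.obj} (ξ : c ⟶ L.b) (_ : R (𝒴.p.map ξ)), ∃ (i : M.ι) (κ : M.X i ⟶ a) (θ : c ⟶ M.Y i),
      θ ≫ L.Φ κ = ξ := by
    intro c ξ hξ
    obtain ⟨i, κ, hκ⟩ := hξ
    obtain ⟨g, hg⟩ := M.exists_base κ
    have hΦ := L.lift g κ hg
    have hbi : 𝒴.p.obj c = M.base i :=
      (IsHomLift.domain_eq 𝒳.p (𝒴.p.map ξ ≫ eqToHom L.hb) κ).symm.trans (M.hX i)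
    have hge : eqToHom hbi ≫ g = 𝒴.p.map ξ ≫ eqToHom L.hb := by
      rw [IsHomLift.fac 𝒳.p g κ, IsHomLift.fac 𝒳.p (𝒴.p.map ξ ≫ eqToHom L.hb) κ]
      simp
    have hξ' : 𝒴.p.IsHomLift (eqToHom hbi ≫ g) ξ := by
      rw [hge]; exact IsHomLift.of_fac 𝒴.p _ _ rfl L.hb (by simp)
    obtain ⟨θ, ⟨-, eθ⟩, -⟩ := IsFibGrpd.existsUnique_lift hB g (eqToHom hbi) (L.Φ κ) ξ
    exact ⟨i, κ, θ, eθ⟩
  choose iξ κξ θξ eξ using @cov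
  let Lc : Descent.Local 𝒴.p L.b b' R (eqToHom L.hb ≫ h) :=
    { n := fun ξ hξ => θξ ξ hξ ≫ Ψ (κξ ξ hξ)
      map_n := fun {c} ξ hξ => by
        obtain ⟨g, hg⟩ := M.exists_base (κξ ξ hξ)
        have := L.lift g _ hg
        have := lift g _ hg
        have e := congrArg 𝒴.p.map (eξ ξ hξ)
        rw [𝒴.p.map_comp, IsHomLift.fac' 𝒴.p g (L.Φ (κξ ξ hξ))] at e
        rw [← e, 𝒴.p.map_comp, IsHomLift.fac' 𝒴.p (g ≫ h) (Ψ (κξ ξ hξ))]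
        simp
      comp := fun l ξ hξ h' => by
        rw [← Category.assoc]
        exact wd _ _ _ _ (by rw [Category.assoc, eξ, eξ]) }
  have hR : R ∈ J (𝒴.p.obj L.b) := J.pullback_stable _ (hloc a)
  have : (_root_.Stk.resSieve R 𝒴).IsEquivalence := h𝒴.2 R hR
  obtain ⟨β, hβ, hβ'⟩ := Descent.exists_hom hB (R := R) inferInstance Lc
  refine ⟨β, IsHomLift.of_fac' 𝒴.p _ _ L.hb rfl (by simp [hβ]), fun {i} κ => ?_⟩
  obtain ⟨g, hg⟩ := M.exists_base κ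
  have hΦ := L.lift g κ hg
  have hmem : R (𝒴.p.map (L.Φ κ)) := by
    change (M.locSieve a) (𝒴.p.map (L.Φ κ) ≫ eqToHom L.hb)
    rw [IsHomLift.fac' 𝒴.p g (L.Φ κ)]
    simp only [Category.assoc, eqToHom_trans, eqToHom_refl, Category.comp_id]
    exact ⟨i, κ, IsHomLift.of_fac 𝒳.p _ _ ((M.hX i).trans (M.hY i).symm) rfl
      (by rw [IsHomLift.fac' 𝒳.p g κ]; simp)⟩
  rw [hβ' _ hmem]
  exact (wd _ _ (θξ _ hmem) (𝟙 _) (by rw [eξ, Category.id_comp])).trans (Category.id_comp _)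

theorem hom_ext_link {a : 𝒳.obj} (L : Link M a) {b' : 𝒴.obj} (β β' : L.b ⟶ b')
    (hp : 𝒴.p.map β = 𝒴.p.map β') (H : ∀ {i : M.ι} (κ : M.X i ⟶ a), L.Φ κ ≫ β = L.Φ κ ≫ β') : β = β' := by
  let R : Sieve (𝒴.p.obj L.b) := (M.locSieve a).pullback (eqToHom L.hb)
  have hR : R ∈ J (𝒴.p.obj L.b) := J.pullback_stable _ (hloc a)
  have : (_root_.Stk.resSieve R 𝒴).IsEquivalence := h𝒴.2 R hR
  refine Descent.hom_ext h𝒴.1 (R := R) inferInstance β β' hp fun {c} ξ hξ => ?_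
  obtain ⟨i, κ, hκ⟩ := hξ
  obtain ⟨g, hg⟩ := M.exists_base κ
  have hΦ := L.lift g κ hg
  have hbi : 𝒴.p.obj c = M.base i :=
    (IsHomLift.domain_eq 𝒳.p (𝒴.p.map ξ ≫ eqToHom L.hb) κ).symm.trans (M.hX i)
  have hge : eqToHom hbi ≫ g = 𝒴.p.map ξ ≫ eqToHom L.hb := by
    rw [IsHomLift.fac 𝒳.p g κ, IsHomLift.fac 𝒳.p (𝒴.p.map ξ ≫ eqToHom L.hb) κ]
    simp
  have hξ' : 𝒴.p.IsHomLift (eqToHom hbi ≫ g) ξ := by
    rw [hge]; exact IsHomLift.of_fac 𝒴.p _ _ rfl L.hb (by simp)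
  obtain ⟨θ, ⟨-, eθ⟩, -⟩ := IsFibGrpd.existsUnique_lift h𝒴.1 g (eqToHom hbi) (L.Φ κ) ξ
  rw [← eθ, Category.assoc, Category.assoc, H κ]

theorem nonempty_link (a : 𝒳.obj) : Nonempty (Link M a) := by
  have hA := h𝒳.1
  have hB := h𝒴.1
  let R := M.locSieve a
  choose iz kz hkz using fun z : (_root_.Stk.sieveCat R).obj => z.property
  have hbz : ∀ z, M.base (iz z) = z.obj.left := fun z =>
    (M.hX _).symm.trans (have := hkz z; IsHomLift.domain_eq 𝒳.p z.obj.hom (kz z))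
  have hex : ∀ {z z' : (_root_.Stk.sieveCat R).obj} (φ : z ⟶ z'), ∃! m : M.X (iz z) ⟶ M.X (iz z'),
      𝒳.p.IsHomLift φ.hom.left m ∧ m ≫ kz z' = kz z := fun {z z'} φ => by
    have := hkz z'
    have : 𝒳.p.IsHomLift (φ.hom.left ≫ z'.obj.hom) (kz z) := (Over.w φ.hom).symm ▸ hkz z
    exact IsFibGrpd.existsUnique_lift hA z'.obj.hom φ.hom.left (kz z') (kz z)
  choose mz hmz huz using @hex
  let c : _root_.Stk.sieveCat R ⥤ᵇ 𝒴 :=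
    { toFunctor :=
        { obj := fun z => M.Y (iz z)
          map := fun φ => M.Θ (mz φ)
          map_id := fun z => by
            rw [← M.Θ_id hB, ← huz (𝟙 z) (𝟙 _) ⟨IsHomLift.id ((M.hX _).trans (hbz z)), Category.id_comp _⟩]
          map_comp := fun {z z' z''} φ ψ => by
            rw [← M.Θ_comp]
            refine congrArg M.Θ (huz (φ ≫ ψ) _ ⟨?_, ?_⟩).symm
            · have := (hmz φ).1
              have := (hmz ψ).1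
              exact (inferInstance : 𝒳.p.IsHomLift (φ.hom.left ≫ ψ.hom.left) (mz φ ≫ mz ψ))
            · rw [Category.assoc, (hmz ψ).2, (hmz φ).2] }
      w := CategoryTheory.Functor.ext (fun z => (M.hY _).trans (hbz z)) fun z z' φ => by
        have := M.Θ_lift _ _ (hmz φ).1
        exact IsHomLift.fac' 𝒴.p φ.hom.left _ }
  have : (_root_.Stk.resSieve R 𝒴).IsEquivalence := h𝒴.2 R (hloc a)
  obtain ⟨b, hb, m, hm, hmc⟩ := Descent.exists_cocone hB (R := R) inferInstance c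
  have hz : ∀ {i : M.ι} (κ : M.X i ⟶ a), ∃ (z : (_root_.Stk.sieveCat R).obj) (ν : M.X i ⟶ M.X (iz z)),
      z.obj.left = M.base i ∧ 𝒳.p.IsHomLift (𝟙 z.obj.left) ν ∧ ν ≫ kz z = κ ∧
        𝒳.p.IsHomLift z.obj.hom κ := fun {i} κ => by
    obtain ⟨g, hg⟩ := M.exists_base κ
    let z : (_root_.Stk.sieveCat R).obj := ⟨Over.mk g, ⟨i, κ, hg⟩⟩
    have := hkz z
    have : 𝒳.p.IsHomLift (𝟙 z.obj.left ≫ z.obj.hom) κ := by rw [Category.id_comp]; exact hg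
    obtain ⟨ν, ⟨hν, eν⟩, -⟩ := IsFibGrpd.existsUnique_lift hA z.obj.hom (𝟙 z.obj.left) (kz z) κ
    exact ⟨z, ν, rfl, hν, eν, hg⟩
  choose zκ νκ hzl hν eν hzκ using @hz
  refine ⟨{ b := b, hb := hb, Φ := fun κ => M.Θ (νκ κ) ≫ (m (zκ κ) : M.Y _ ⟶ b), lift := ?_, eqv := ?_ }⟩
  · intro i g κ hg
    have := M.Θ_lift _ _ (hν κ)
    have : 𝒴.p.IsHomLift (zκ κ).obj.hom (m (zκ κ) : M.Y _ ⟶ b) := hm _
    have h1 : 𝒴.p.IsHomLift (zκ κ).obj.hom (M.Θ (νκ κ) ≫ (m (zκ κ) : M.Y _ ⟶ b)) :=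
      IsHomLift.comp_lift_id_left' 𝒴.p (zκ κ).obj.left _ _ _
    have := hzκ κ
    refine IsHomLift.of_fac' 𝒴.p _ _ (M.hY i) hb ?_
    rw [IsHomLift.fac' 𝒴.p (zκ κ).obj.hom (M.Θ (νκ κ) ≫ (m (zκ κ) : M.Y _ ⟶ b))]
    have e1 := IsHomLift.fac' 𝒳.p (zκ κ).obj.hom κ
    rw [IsHomLift.fac' 𝒳.p g κ] at e1
    have e2 := congrArg (fun t => eqToHom ((M.hY i).trans (M.hX i).symm) ≫ t ≫ eqToHom rfl) e1
    have e3 := congrArg (fun t => t ≫ eqToHom hb.symm) e1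
    simp only [Category.assoc, eqToHom_refl, Category.comp_id] at e3 ⊢
    have e4 := congrArg (fun t => eqToHom ((M.hY i).trans (M.hX i).symm) ≫ t) e3
    simpa using e4.symm
  · intro i j μ κ
    obtain ⟨r, hr⟩ : ∃ r : M.base i ⟶ M.base j, 𝒳.p.IsHomLift r μ :=
      ⟨eqToHom (M.hX i).symm ≫ 𝒳.p.map μ ≫ eqToHom (M.hX j),
        IsHomLift.of_fac 𝒳.p _ _ (M.hX i) (M.hX j) (by simp)⟩
    let rr : (zκ (μ ≫ κ)).obj.left ⟶ (zκ κ).obj.left :=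
      eqToHom (hzl (μ ≫ κ)) ≫ r ≫ eqToHom (hzl κ).symm
    have hw : rr ≫ (zκ κ).obj.hom = (zκ (μ ≫ κ)).obj.hom := by
      have := hzκ κ
      have := hzκ (μ ≫ κ)
      rw [IsHomLift.fac 𝒳.p (zκ (μ ≫ κ)).obj.hom (μ ≫ κ), IsHomLift.fac 𝒳.p (zκ κ).obj.hom κ, 𝒳.p.map_comp]
      simp only [rr, IsHomLift.fac 𝒳.p r μ]
      simp
    let φ : zκ (μ ≫ κ) ⟶ zκ κ := ObjectProperty.homMk (Over.homMk rr hw)
    have hrr : 𝒳.p.IsHomLift rr μ := by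
      refine IsHomLift.of_fac 𝒳.p _ _ ((M.hX i).trans (hzl (μ ≫ κ)).symm) ((M.hX j).trans (hzl κ).symm) ?_
      simp only [rr, IsHomLift.fac 𝒳.p r μ]
      simp
    have key : νκ (μ ≫ κ) ≫ mz φ = μ ≫ νκ κ := by
      have := hν κ
      have := hν (μ ≫ κ)
      have : 𝒳.p.IsHomLift rr (mz φ) := (hmz φ).1
      have := hkz (zκ κ)
      have : 𝒳.p.IsHomLift rr (νκ (μ ≫ κ) ≫ mz φ) :=
        IsHomLift.comp_lift_id_left' 𝒳.p (zκ (μ ≫ κ)).obj.left _ _ _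
      have : 𝒳.p.IsHomLift rr (μ ≫ νκ κ) := IsHomLift.comp_lift_id_right' 𝒳.p _ μ (zκ κ).obj.left _
      refine IsFibGrpd.hom_ext hA rr (zκ κ).obj.hom (kz (zκ κ)) ?_
      rw [Category.assoc, (hmz φ).2, eν, Category.assoc, eν]
    have hc : M.Θ (mz φ) ≫ (m (zκ κ) : M.Y _ ⟶ b) = m (zκ (μ ≫ κ)) := hmc φ
    change M.Θ (νκ (μ ≫ κ)) ≫ (m (zκ (μ ≫ κ)) : M.Y _ ⟶ b) = M.Θ μ ≫ M.Θ (νκ κ) ≫ (m (zκ κ) : M.Y _ ⟶ b)
    rw [← hc, ← Category.assoc, ← M.Θ_comp, key, M.Θ_comp, Category.assoc]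

end Ext

section Func

variable (h𝒳 : _root_.Stk.IsStack J 𝒳) (h𝒴 : _root_.Stk.IsStack J 𝒴) (M : Data.{w} 𝒳 𝒴)
  (hloc : ∀ a, M.locSieve a ∈ J (𝒳.p.obj a))

/-- A chosen pair over every object. -/
noncomputable def link (a : 𝒳.obj) : Link M a := Classical.choice (nonempty_link h𝒳 h𝒴 M hloc a)

theorem exists_mapHom {a a' : 𝒳.obj} (α : a ⟶ a') :
    ∃ β : (link h𝒳 h𝒴 M hloc a).b ⟶ (link h𝒳 h𝒴 M hloc a').b, 𝒴.p.IsHomLift (𝒳.p.map α) β ∧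
      ∀ {i : M.ι} (κ : M.X i ⟶ a), (link h𝒳 h𝒴 M hloc a).Φ κ ≫ β = (link h𝒳 h𝒴 M hloc a').Φ (κ ≫ α) :=
  exists_ext h𝒳 h𝒴 M hloc (link h𝒳 h𝒴 M hloc a) (𝒳.p.map α) (link h𝒳 h𝒴 M hloc a').hb
    (fun κ => (link h𝒳 h𝒴 M hloc a').Φ (κ ≫ α))
    (fun g κ hg => (link h𝒳 h𝒴 M hloc a').lift (g ≫ 𝒳.p.map α) (κ ≫ α)
      (have := hg; have := IsHomLift.map 𝒳.p α; inferInstance))
    (fun μ κ => by rw [Category.assoc, Link.eqv])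

/-- The induced morphism. -/
noncomputable def mapHom {a a' : 𝒳.obj} (α : a ⟶ a') :
    (link h𝒳 h𝒴 M hloc a).b ⟶ (link h𝒳 h𝒴 M hloc a').b :=
  (exists_mapHom h𝒳 h𝒴 M hloc α).choose

theorem mapHom_lift {a a' : 𝒳.obj} (α : a ⟶ a') : 𝒴.p.IsHomLift (𝒳.p.map α) (mapHom h𝒳 h𝒴 M hloc α) :=
  (exists_mapHom h𝒳 h𝒴 M hloc α).choose_spec.1

theorem Φ_mapHom {a a' : 𝒳.obj} (α : a ⟶ a') {i : M.ι} (κ : M.X i ⟶ a) :
    (link h𝒳 h𝒴 M hloc a).Φ κ ≫ mapHom h𝒳 h𝒴 M hloc α = (link h𝒳 h𝒴 M hloc a').Φ (κ ≫ α) :=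
  (exists_mapHom h𝒳 h𝒴 M hloc α).choose_spec.2 κ

theorem p_mapHom {a a' : 𝒳.obj} (α : a ⟶ a') : 𝒴.p.map (mapHom h𝒳 h𝒴 M hloc α) =
    eqToHom (link h𝒳 h𝒴 M hloc a).hb ≫ 𝒳.p.map α ≫ eqToHom (link h𝒳 h𝒴 M hloc a').hb.symm :=
  have := mapHom_lift h𝒳 h𝒴 M hloc α
  IsHomLift.fac' 𝒴.p (𝒳.p.map α) _

/-- The functor determined by the matched families. -/
noncomputable def func : 𝒳 ⥤ᵇ 𝒴 where
  toFunctor :=
    { obj := fun a => (link h𝒳 h𝒴 M hloc a).b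
      map := fun α => mapHom h𝒳 h𝒴 M hloc α
      map_id := fun a => hom_ext_link h𝒳 h𝒴 M hloc _ _ _
        (by rw [p_mapHom, 𝒳.p.map_id, 𝒴.p.map_id]; simp)
        (fun κ => by rw [Φ_mapHom, Category.comp_id, Category.comp_id])
      map_comp := fun {a a' a''} α α' => hom_ext_link h𝒳 h𝒴 M hloc _ _ _
        (by rw [p_mapHom, 𝒴.p.map_comp, p_mapHom, p_mapHom, 𝒳.p.map_comp]; simp)
        (fun κ => by rw [Φ_mapHom, ← Category.assoc, ← Category.assoc, Φ_mapHom, Φ_mapHom]) }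
  w := CategoryTheory.Functor.ext (fun a => (link h𝒳 h𝒴 M hloc a).hb)
    (fun _ _ α => p_mapHom h𝒳 h𝒴 M hloc α)

/-- The identity families. -/
def refl : Data.{w} 𝒳 𝒳 where
  ι := M.ι
  base := M.base
  X := M.X
  Y := M.X
  hX := M.hX
  hY := M.hX
  res := M.res
  Θ := Equiv.refl _
  Θ_comp _ _ := rfl
  Θ_lift _ _ h := h

/-- An object paired with itself. -/
def Link.refl (a : 𝒳.obj) : Link (MatchEquiv.refl M) a where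
  b := a
  hb := rfl
  Φ κ := κ
  lift _ _ h := h
  eqv _ _ := rfl

variable (hloc' : ∀ b, M.symm.locSieve b ∈ J (𝒴.p.obj b))

theorem exists_unit (a : 𝒳.obj) :
    ∃ η : a ⟶ (func h𝒴 h𝒳 M.symm hloc').obj ((func h𝒳 h𝒴 M hloc).obj a), 𝒳.p.IsHomLift (𝟙 (𝒳.p.obj a)) η ∧
      ∀ {i : M.ι} (κ : M.X i ⟶ a), κ ≫ η =
        (link h𝒴 h𝒳 M.symm hloc' (link h𝒳 h𝒴 M hloc a).b).Φ ((link h𝒳 h𝒴 M hloc a).Φ κ) :=
  exists_ext h𝒳 h𝒳 (MatchEquiv.refl M) (fun b => hloc b) (Link.refl M a) (𝟙 (𝒳.p.obj a))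
    ((link h𝒴 h𝒳 M.symm hloc' (link h𝒳 h𝒴 M hloc a).b).hb.trans (link h𝒳 h𝒴 M hloc a).hb)
    (fun κ => (link h𝒴 h𝒳 M.symm hloc' (link h𝒳 h𝒴 M hloc a).b).Φ ((link h𝒳 h𝒴 M hloc a).Φ κ))
    (fun {i} g κ hg => by
      rw [Category.comp_id]
      let L := link h𝒳 h𝒴 M hloc a
      let L' := link h𝒴 h𝒳 M.symm hloc' L.b
      have h1 : 𝒴.p.IsHomLift (g ≫ eqToHom L.hb.symm) (L.Φ κ) := by
        have := L.lift g κ hg
        exact IsHomLift.of_fac' 𝒴.p _ _ (M.hY i) rfl (by rw [IsHomLift.fac' 𝒴.p g (L.Φ κ)]; simp)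
      have h2 : 𝒳.p.IsHomLift (g ≫ eqToHom L.hb.symm) (L'.Φ (L.Φ κ)) := L'.lift _ _ h1
      exact IsHomLift.of_fac' 𝒳.p _ _ (M.hX i) (L'.hb.trans L.hb) (by
        rw [IsHomLift.fac' 𝒳.p (g ≫ eqToHom L.hb.symm) (L'.Φ (L.Φ κ))]; simp))
    (fun μ κ => by
      refine (congrArg _ ((link h𝒳 h𝒴 M hloc a).eqv μ κ)).trans
        (((link h𝒴 h𝒳 M.symm hloc' _).eqv (M.Θ μ) _).trans ?_)
      exact congrArg (fun t => t ≫ _) (M.Θ.symm_apply_apply μ))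

theorem nonempty_unitIso :
    Nonempty (BasedFunctor.comp (func h𝒳 h𝒴 M hloc) (func h𝒴 h𝒳 M.symm hloc') ≅ BasedFunctor.id 𝒳) := by
  choose η hη hκ using exists_unit h𝒳 h𝒴 M hloc hloc'
  let G := func h𝒴 h𝒳 M.symm hloc'
  let F := func h𝒳 h𝒴 M hloc
  let N : BasedFunctor.id 𝒳 ⟶ BasedFunctor.comp F G :=
    { toNatTrans :=
        { app := η
          naturality := fun a a' α => by
            change α ≫ η a' = η a ≫ G.map (F.map α)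
            refine hom_ext_link h𝒳 h𝒳 (MatchEquiv.refl M) (fun b => hloc b) (Link.refl M a) _ _ ?_ (fun {i} κ => ?_)
            · have := hη a
              have := hη a'
              rw [𝒳.p.map_comp, 𝒳.p.map_comp, p_map_map, p_map_map, IsHomLift.fac' 𝒳.p (𝟙 (𝒳.p.obj a)) (η a),
                IsHomLift.fac' 𝒳.p (𝟙 (𝒳.p.obj a')) (η a')]
              simp
            · change κ ≫ α ≫ η a' = κ ≫ η a ≫ G.map (F.map α)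
              rw [← Category.assoc, hκ a' (κ ≫ α), ← Category.assoc, hκ a κ]
              refine Eq.trans ?_ (Φ_mapHom h𝒴 h𝒳 M.symm hloc' (F.map α) _).symm
              exact congrArg _ (Φ_mapHom h𝒳 h𝒴 M hloc α κ).symm }
      isHomLift' := fun a => hη a }
  exact ⟨(isoOfHom h𝒳.1 N).symm⟩

include h𝒳 h𝒴 hloc hloc' in
/-- Stacks with matched families are equivalent. -/
theorem exists_isEquivOver : ∃ e : 𝒳 ⥤ᵇ 𝒴, _root_.FibCat.IsEquivOver e :=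
  ⟨func h𝒳 h𝒴 M hloc, func h𝒴 h𝒳 M.symm hloc', nonempty_unitIso h𝒳 h𝒴 M hloc hloc',
    nonempty_unitIso h𝒴 h𝒳 M.symm hloc' hloc⟩

end Func

end GrothLib.Stk.MatchEquiv
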