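import Groth.Agent.Lib.Stk.GerbeAut
import Mathlib.CategoryTheory.Sites.Sheaf
import Mathlib.Algebra.Category.Grp.Limits

/-!
# The band of a gerbe with abelian automorphism groups
-/

set_option backward.isDefEq.respectTransparency false
set_option backward.isDefEq.respectTransparency.types false
set_option autoImplicit false

universe v₂ u₂ v u

open CategoryTheory CategoryTheory.Functor Opposite

namespace GrothLib.Stk.Band

open GrothLib.FibCat GrothLib.Stk GrothLib.Stk.GerbeAut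

variable {C : Type u} [Category.{v} C] {J : GrothendieckTopology C} {𝒮 : BasedCategory.{v₂, u₂} C}

/-- The morphism underlying an automorphism over the identity. -/
abbrev val {a : 𝒮.obj} (α : Gerb.AutO a) : a ⟶ a := α.hom.1

theorem autO_ext {a : 𝒮.obj} {α β : Gerb.AutO a} (h : val α = val β) : α = β :=
  CategoryTheory.Iso.ext (Subtype.ext h)

theorem map_val {a : 𝒮.obj} (α : Gerb.AutO a) : 𝒮.p.map (val α) = 𝟙 _ := by
  have : 𝒮.p.IsHomLift (𝟙 (𝒮.p.obj a)) (val α) := α.hom.2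
  exact (IsHomLift.eq_of_isHomLift 𝒮.p (𝟙 (𝒮.p.obj a)) (val α)).symm

theorem val_mul {a : 𝒮.obj} (α β : Gerb.AutO a) : val (α * β) = val β ≫ val α := rfl

theorem val_one (a : 𝒮.obj) : val (1 : Gerb.AutO a) = 𝟙 a := rfl

variable (h : _root_.FibCat.IsFibGrpd 𝒮.p)
include h

theorem existsUnique_pull {a' a : 𝒮.obj} (φ : a' ⟶ a) (α : Gerb.AutO a) :
    ∃! β : Gerb.AutO a', val β ≫ φ = φ ≫ val α := by
  have : 𝒮.p.IsHomLift (𝟙 (𝒮.p.obj a)) (val α) := α.hom.2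
  obtain ⟨m, ⟨hm₁, hm₂⟩, hu⟩ := IsFibGrpd.existsUnique_fac h φ (φ ≫ val α) (𝟙 _)
    (by rw [𝒮.p.map_comp, map_val, Category.comp_id, Category.id_comp])
  have hml : 𝒮.p.IsHomLift (𝟙 (𝒮.p.obj a')) m := hm₁ ▸ IsHomLift.map 𝒮.p m
  have := IsFibGrpd.isIso_of_isHomLift_id h (R := 𝒮.p.obj a') m
  exact ⟨autOfIso (asIso m) hml, hm₂, fun β hβ => autO_ext (hu (val β) ⟨map_val β, hβ⟩)⟩

/-- Pull back of automorphisms along a morphism. -/
noncomputable def pull {a' a : 𝒮.obj} (φ : a' ⟶ a) : Gerb.AutO a →* Gerb.AutO a' where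
  toFun α := (existsUnique_pull h φ α).exists.choose
  map_one' := (existsUnique_pull h φ 1).unique (existsUnique_pull h φ 1).exists.choose_spec
    (by rw [val_one, val_one, Category.id_comp, Category.comp_id])
  map_mul' α β := (existsUnique_pull h φ (α * β)).unique (existsUnique_pull h φ (α * β)).exists.choose_spec
    (by rw [val_mul, val_mul, Category.assoc, (existsUnique_pull h φ α).exists.choose_spec,
      ← Category.assoc, (existsUnique_pull h φ β).exists.choose_spec, Category.assoc])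

theorem pull_spec {a' a : 𝒮.obj} (φ : a' ⟶ a) (α : Gerb.AutO a) : val (pull h φ α) ≫ φ = φ ≫ val α :=
  (existsUnique_pull h φ α).exists.choose_spec

theorem pull_eq {a' a : 𝒮.obj} {φ : a' ⟶ a} {α : Gerb.AutO a} {β : Gerb.AutO a'} (e : val β ≫ φ = φ ≫ val α) :
    pull h φ α = β :=
  (existsUnique_pull h φ α).unique (pull_spec h φ α) e

theorem pull_comp {a'' a' a : 𝒮.obj} (l : a'' ⟶ a') (φ : a' ⟶ a) (α : Gerb.AutO a) :
    pull h (l ≫ φ) α = pull h l (pull h φ α) :=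
  pull_eq h (by rw [← Category.assoc, pull_spec, Category.assoc, pull_spec, Category.assoc])

theorem pull_id {a : 𝒮.obj} (α : Gerb.AutO a) : pull h (𝟙 a) α = α :=
  pull_eq h (by rw [Category.id_comp, Category.comp_id])

variable (hcomm : ∀ (x : 𝒮.obj) (α β : Gerb.AutO x), α * β = β * α)
include hcomm

theorem pull_congr {a' a : 𝒮.obj} (φ φ' : a' ⟶ a) (e : 𝒮.p.map φ = 𝒮.p.map φ') (α : Gerb.AutO a) :
    pull h φ α = pull h φ' α := by
  have : 𝒮.p.IsHomLift (𝒮.p.map φ) φ' := e ▸ IsHomLift.map 𝒮.p φ'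
  have : 𝒮.p.IsHomLift (𝒮.p.map φ) φ := IsHomLift.map 𝒮.p φ
  obtain ⟨θ, hθ, eθ⟩ := IsFibGrpd.exists_iso_of_lifts h (𝒮.p.map φ) φ φ'
  refine (pull_eq h ?_).symm
  let T : Gerb.AutO a' := autOfIso θ hθ
  have hc : val (pull h φ α) ≫ θ.hom = θ.hom ≫ val (pull h φ α) :=
    congrArg val (hcomm a' T (pull h φ α))
  rw [← eθ, reassoc_of% hc, pull_spec, Category.assoc]

omit hcomm
variable (hS : _root_.Stk.IsStack J 𝒮)
include hS

theorem eq_of_pull_eq {y : 𝒮.obj} {R : Sieve (𝒮.p.obj y)} (hR : R ∈ J (𝒮.p.obj y)) (γ γ' : Gerb.AutO y)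
    (H : ∀ {a : 𝒮.obj} (κ : a ⟶ y), R (𝒮.p.map κ) → pull h κ γ = pull h κ γ') : γ = γ' := by
  have : (_root_.Stk.resSieve R 𝒮).IsEquivalence := hS.2 R hR
  refine autO_ext (Descent.hom_ext h (R := R) inferInstance _ _ (by rw [map_val, map_val]) fun κ hκ => ?_)
  rw [← pull_spec h κ γ, ← pull_spec h κ γ', H κ hκ]

/-- Automorphisms glue. -/
theorem existsUnique_glue {y : 𝒮.obj} {R : Sieve (𝒮.p.obj y)} (hR : R ∈ J (𝒮.p.obj y))
    (β : ∀ {a : 𝒮.obj} (κ : a ⟶ y), R (𝒮.p.map κ) → Gerb.AutO a)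
    (hβ : ∀ {a' a : 𝒮.obj} (l : a' ⟶ a) (κ : a ⟶ y) (hκ : R (𝒮.p.map κ)) (h' : R (𝒮.p.map (l ≫ κ))),
      pull h l (β κ hκ) = β (l ≫ κ) h') :
    ∃ γ : Gerb.AutO y, ∀ {a : 𝒮.obj} (κ : a ⟶ y) (hκ : R (𝒮.p.map κ)), pull h κ γ = β κ hκ := by
  let L : Descent.Local 𝒮.p y y R (𝟙 _) :=
    { n := fun κ hκ => val (β κ hκ) ≫ κ
      map_n := fun κ hκ => by rw [𝒮.p.map_comp, map_val, Category.id_comp, Category.comp_id]
      comp := fun l κ hκ h' => by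
        rw [← Category.assoc, ← pull_spec h l (β κ hκ), hβ l κ hκ h', Category.assoc] }
  have : (_root_.Stk.resSieve R 𝒮).IsEquivalence := hS.2 R hR
  obtain ⟨g, hg, hg'⟩ := Descent.exists_hom h (R := R) inferInstance L
  have hgl : 𝒮.p.IsHomLift (𝟙 (𝒮.p.obj y)) g := hg ▸ IsHomLift.map 𝒮.p g
  have := IsFibGrpd.isIso_of_isHomLift_id h (R := 𝒮.p.obj y) g
  exact ⟨autOfIso (asIso g) hgl, fun κ hκ => pull_eq h (hg' κ hκ).symm⟩

end GrothLib.Stk.Band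

namespace GrothLib.Stk.Band

open GrothLib.FibCat GrothLib.Stk GrothLib.Stk.GerbeAut

universe w

variable {C : Type u} [Category.{v} C] {J : GrothendieckTopology C} {𝒮 : BasedCategory.{v, max u v} C}

/-- Compatible families of automorphisms of all objects over an object of the base. -/
def sections (U : C) : Subgroup (∀ i : (Σ y : 𝒮.obj, (𝒮.p.obj y ⟶ U)), Gerb.AutO i.1) where
  carrier := {a | ∀ ⦃y' y : 𝒮.obj⦄ (φ : y' ⟶ y) (f : 𝒮.p.obj y ⟶ U),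
    val (a ⟨y', 𝒮.p.map φ ≫ f⟩) ≫ φ = φ ≫ val (a ⟨y, f⟩)}
  one_mem' := fun y' y φ f => by simp only [Pi.one_apply, val_one, Category.id_comp, Category.comp_id]
  mul_mem' := fun {a b} ha hb y' y φ f => by
    simp only [Pi.mul_apply, val_mul]
    rw [Category.assoc, ha φ f, ← Category.assoc, hb φ f, Category.assoc]
  inv_mem' := fun {a} ha y' y φ f => by
    have e1 : val (a ⟨y', 𝒮.p.map φ ≫ f⟩) ≫ val (a ⟨y', 𝒮.p.map φ ≫ f⟩)⁻¹ = 𝟙 _ := by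
      rw [← val_mul, inv_mul_cancel, val_one]
    have e2 : val (a ⟨y', 𝒮.p.map φ ≫ f⟩)⁻¹ ≫ val (a ⟨y', 𝒮.p.map φ ≫ f⟩) = 𝟙 _ := by
      rw [← val_mul, mul_inv_cancel, val_one]
    have e3 : val (a ⟨y, f⟩) ≫ val (a ⟨y, f⟩)⁻¹ = 𝟙 _ := by rw [← val_mul, inv_mul_cancel, val_one]
    simp only [Pi.inv_apply]
    calc val (a ⟨y', 𝒮.p.map φ ≫ f⟩)⁻¹ ≫ φ
        = val (a ⟨y', 𝒮.p.map φ ≫ f⟩)⁻¹ ≫ (φ ≫ val (a ⟨y, f⟩)) ≫ val (a ⟨y, f⟩)⁻¹ := by
          rw [Category.assoc, e3, Category.comp_id]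
      _ = φ ≫ val (a ⟨y, f⟩)⁻¹ := by rw [← ha φ f, Category.assoc, reassoc_of% e2]

/-- The value of a family, with the base morphism up to equality. -/
theorem sections_congr {U : C} (a : sections (𝒮 := 𝒮) U) {y : 𝒮.obj} {f f' : 𝒮.p.obj y ⟶ U} (e : f = f') :
    (a.1 ⟨y, f⟩) = (a.1 ⟨y, f'⟩) := by subst e; rfl

/-- Restriction of families. -/
def restrict {V U : C} (g : V ⟶ U) : sections (𝒮 := 𝒮) U →* sections (𝒮 := 𝒮) V where
  toFun a := ⟨fun i => a.1 ⟨i.1, i.2 ≫ g⟩, fun y' y φ f => by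
    change val (a.1 ⟨y', (𝒮.p.map φ ≫ f) ≫ g⟩) ≫ φ = φ ≫ val (a.1 ⟨y, f ≫ g⟩)
    rw [sections_congr a (Category.assoc (𝒮.p.map φ) f g)]
    exact a.2 φ (f ≫ g)⟩
  map_one' := rfl
  map_mul' _ _ := rfl

variable (𝒮) in
/-- The band, as a presheaf of groups. -/
def band : Cᵒᵖ ⥤ GrpCat.{max u v} where
  obj U := GrpCat.of (sections (𝒮 := 𝒮) U.unop)
  map g := GrpCat.ofHom (restrict g.unop)
  map_id U := GrpCat.hom_ext (MonoidHom.ext fun a => Subtype.ext (funext fun i =>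
    sections_congr a (Category.comp_id i.2)))
  map_comp g g' := GrpCat.hom_ext (MonoidHom.ext fun a => Subtype.ext (funext fun i =>
    sections_congr a (Category.assoc i.2 g'.unop g.unop).symm))

theorem pull_sections (h : _root_.FibCat.IsFibGrpd 𝒮.p) {U : C} (a : sections (𝒮 := 𝒮) U) {y' y : 𝒮.obj}
    (φ : y' ⟶ y) (f : 𝒮.p.obj y ⟶ U) : pull h φ (a.1 ⟨y, f⟩) = a.1 ⟨y', 𝒮.p.map φ ≫ f⟩ :=
  pull_eq h (a.2 φ f)

theorem isSheaf_band (hS : _root_.Stk.IsStack J 𝒮) : Presheaf.IsSheaf J (band 𝒮) := by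
  have h := hS.1
  rw [Presheaf.isSheaf_iff_isSheaf_forget J (band 𝒮) (forget GrpCat.{max u v}), isSheaf_iff_isSheaf_of_type]
  intro U R hR x hx
  rw [Presieve.compatible_iff_sieveCompatible] at hx
  let X : ∀ {V : C} (g : V ⟶ U), R g → sections (𝒮 := 𝒮) V := fun g hg => x g hg
  have hX : ∀ {W V : C} (g : V ⟶ U) (l : W ⟶ V) (hg : R g), X (l ≫ g) (R.downward_closed hg l) = restrict l (X g hg) :=
    fun g l hg => hx g l hg
  have hX' : ∀ {V : C} {g g' : V ⟶ U} (e : g = g') (hg : R g) (hg' : R g'), X g hg = X g' hg' := by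
    intro V g g' e hg hg'; subst e; rfl
  have hex : ∀ i : (Σ y : 𝒮.obj, (𝒮.p.obj y ⟶ U)), ∃ γ : Gerb.AutO i.1, ∀ {a : 𝒮.obj} (κ : a ⟶ i.1)
      (hκ : R (𝒮.p.map κ ≫ i.2)), pull h κ γ = (X _ hκ).1 ⟨a, 𝟙 _⟩ := fun ⟨y, f⟩ => by
    refine existsUnique_glue h hS (R := R.pullback f) (J.pullback_stable f hR)
      (fun {a} κ hκ => (X (𝒮.p.map κ ≫ f) hκ).1 ⟨a, 𝟙 _⟩) fun {a' a} l κ hκ h' => ?_
    rw [pull_sections h, hX' (by rw [𝒮.p.map_comp, Category.assoc]) h' (R.downward_closed hκ (𝒮.p.map l)),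
      hX (𝒮.p.map κ ≫ f) (𝒮.p.map l) hκ]
    exact sections_congr (X (𝒮.p.map κ ≫ f) hκ) ((Category.comp_id _).trans (Category.id_comp _).symm)
  choose γ hγ using hex
  let A : sections (𝒮 := 𝒮) U := ⟨γ, fun y' y φ f => by
    have e : pull h φ (γ ⟨y, f⟩) = γ ⟨y', 𝒮.p.map φ ≫ f⟩ := by
      refine eq_of_pull_eq h hS (J.pullback_stable (𝒮.p.map φ ≫ f) hR) _ _ fun {a} κ hκ => ?_
      have h' : R (𝒮.p.map (κ ≫ φ) ≫ f) := by rw [𝒮.p.map_comp, Category.assoc]; exact hκ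
      rw [← pull_comp h, hγ ⟨y, f⟩ (κ ≫ φ) h', hγ ⟨y', 𝒮.p.map φ ≫ f⟩ κ hκ,
        hX' (by rw [𝒮.p.map_comp, Category.assoc]) h' hκ]
    rw [← e]
    exact pull_spec h φ _⟩
  refine ⟨A, fun V g hg => ?_, fun t ht => ?_⟩
  · change restrict g A = X g hg
    refine Subtype.ext (funext fun ⟨y, f⟩ => ?_)
    refine eq_of_pull_eq h hS (J.pullback_stable (f ≫ g) hR) _ _ fun {a} κ hκ => ?_
    change pull h κ (γ ⟨y, f ≫ g⟩) = pull h κ ((X g hg).1 ⟨y, f⟩)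
    rw [hγ ⟨y, f ≫ g⟩ κ hκ, pull_sections h,
      hX' (Category.assoc (𝒮.p.map κ) f g).symm hκ (R.downward_closed hg _), hX g (𝒮.p.map κ ≫ f) hg]
    exact sections_congr (X g hg) (Category.id_comp _)
  · let T : sections (𝒮 := 𝒮) U := t
    change T = A
    refine Subtype.ext (funext fun ⟨y, f⟩ => ?_)
    refine eq_of_pull_eq h hS (J.pullback_stable f hR) _ _ fun {a} κ hκ => ?_
    change pull h κ (T.1 ⟨y, f⟩) = pull h κ (γ ⟨y, f⟩)
    rw [hγ ⟨y, f⟩ κ hκ, pull_sections h, show X (𝒮.p.map κ ≫ f) hκ = restrict (𝒮.p.map κ ≫ f) T from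
      (ht (𝒮.p.map κ ≫ f) hκ).symm]
    exact (sections_congr T (Category.id_comp _)).symm

variable (hcomm : ∀ (x : 𝒮.obj) (α β : Gerb.AutO x), α * β = β * α)
include hcomm

theorem band_comm (U : C) (a b : sections (𝒮 := 𝒮) U) : a * b = b * a :=
  Subtype.ext (funext fun i => hcomm i.1 _ _)

theorem exists_banding (h𝒮 : _root_.Gerb.IsGerbe J 𝒮) : Nonempty (_root_.Gerb.Banding 𝒮 (band 𝒮)) := by
  have h := h𝒮.1.1
  have hloc : ∀ {y x : 𝒮.obj} (f : 𝒮.p.obj y ⟶ 𝒮.p.obj x), ∃ R ∈ J (𝒮.p.obj y), ∀ {a : 𝒮.obj} (κ : a ⟶ y),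
      R (𝒮.p.map κ) → ∃ c : a ⟶ x, 𝒮.p.map c = 𝒮.p.map κ ≫ f := fun {y x} f => by
    obtain ⟨x₁, l, hl⟩ := h.exists_lift (x := x) f
    obtain ⟨R, hR, hc⟩ := exists_local_connected h𝒮.2.2 (rfl : 𝒮.p.obj y = _) (IsHomLift.domain_eq 𝒮.p f l)
    refine ⟨R, hR, fun {a} κ hκ => ?_⟩
    obtain ⟨x₀, b, c, hb, hc'⟩ := hc _ hκ
    obtain ⟨θ, hθ, -⟩ := IsFibGrpd.exists_iso_of_lifts h (𝒮.p.map κ) b κ
    have : 𝒮.p.IsHomLift (𝒮.p.map κ ≫ f) (c ≫ l) := inferInstance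
    have : 𝒮.p.IsHomLift (𝒮.p.map κ ≫ f) (θ.hom ≫ c ≫ l) :=
      IsHomLift.comp_lift_id_left' 𝒮.p (𝒮.p.obj a) θ.hom _ _
    exact ⟨θ.hom ≫ c ≫ l, (IsHomLift.eq_of_isHomLift 𝒮.p _ _).symm⟩
  let ev : ∀ x : 𝒮.obj, sections (𝒮 := 𝒮) (𝒮.p.obj x) →* Gerb.AutO x := fun x =>
    { toFun := fun a => a.1 ⟨x, 𝟙 _⟩, map_one' := rfl, map_mul' := fun _ _ => rfl }
  have hbij : ∀ x, Function.Bijective (ev x) := fun x => by
    constructor
    · intro a b e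
      refine Subtype.ext (funext fun ⟨y, f⟩ => ?_)
      obtain ⟨R, hR, hc⟩ := hloc (y := y) (x := x) f
      refine eq_of_pull_eq h h𝒮.1 hR _ _ fun {y₀} κ hκ => ?_
      obtain ⟨c, ec⟩ := hc κ hκ
      rw [pull_sections h, pull_sections h, sections_congr a (ec.symm.trans (Category.comp_id _).symm),
        sections_congr b (ec.symm.trans (Category.comp_id _).symm), ← pull_sections h, ← pull_sections h]
      exact congrArg (pull h c) e
    · intro α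
      have hex : ∀ i : (Σ y : 𝒮.obj, (𝒮.p.obj y ⟶ 𝒮.p.obj x)), ∃ γ : Gerb.AutO i.1,
          ∀ {a : 𝒮.obj} (b : a ⟶ i.1) (c : a ⟶ x), 𝒮.p.map c = 𝒮.p.map b ≫ i.2 → pull h b γ = pull h c α :=
        fun ⟨y, f⟩ => by
          obtain ⟨R, hR, hc⟩ := hloc (y := y) (x := x) f
          choose c hc using @hc
          obtain ⟨γ, hγ⟩ := existsUnique_glue h h𝒮.1 hR (fun κ hκ => pull h (c κ hκ) α)
            (fun {a' a} l κ hκ h' => by
              rw [← pull_comp h]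
              exact pull_congr h hcomm _ _ (by rw [𝒮.p.map_comp, hc, hc, 𝒮.p.map_comp, Category.assoc]) α)
          refine ⟨γ, fun {a} b d hd => eq_of_pull_eq h h𝒮.1 (J.pullback_stable (𝒮.p.map b) hR) _ _ fun {a'} κ hκ => ?_⟩
          have h' : R (𝒮.p.map (κ ≫ b)) := by rw [𝒮.p.map_comp]; exact hκ
          rw [← pull_comp h, hγ (κ ≫ b) h', ← pull_comp h]
          exact pull_congr h hcomm _ _ (by rw [hc, 𝒮.p.map_comp, 𝒮.p.map_comp, hd, Category.assoc]) α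
      choose γ hγ using hex
      refine ⟨⟨γ, fun y' y φ f => ?_⟩, ?_⟩
      · have e : pull h φ (γ ⟨y, f⟩) = γ ⟨y', 𝒮.p.map φ ≫ f⟩ := by
          obtain ⟨R, hR, hc⟩ := hloc (y := y') (x := x) (𝒮.p.map φ ≫ f)
          refine eq_of_pull_eq h h𝒮.1 hR _ _ fun {a} κ hκ => ?_
          obtain ⟨c, ec⟩ := hc κ hκ
          rw [← pull_comp h, hγ ⟨y, f⟩ (κ ≫ φ) c (by rw [ec, 𝒮.p.map_comp, Category.assoc]),
            hγ ⟨y', 𝒮.p.map φ ≫ f⟩ κ c ec]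
        rw [← e]
        exact pull_spec h φ _
      · change γ ⟨x, 𝟙 _⟩ = α
        have := hγ ⟨x, 𝟙 _⟩ (𝟙 x) (𝟙 x) (Category.comp_id _).symm
        rwa [pull_id, pull_id] at this
  refine ⟨{ iso := fun x => MulEquiv.ofBijective (ev x) (hbij x), natural := fun {x' x} φ a => ?_ }⟩
  let A : sections (𝒮 := 𝒮) (𝒮.p.obj x) := a
  change val (A.1 ⟨x', 𝟙 _ ≫ 𝒮.p.map φ⟩) ≫ φ = φ ≫ val (A.1 ⟨x, 𝟙 _⟩)
  rw [sections_congr A ((Category.id_comp (𝒮.p.map φ)).trans (Category.comp_id _).symm)]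
  exact A.2 φ (𝟙 _)

end GrothLib.Stk.Band
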