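import Groth.Agent.Lib.Stk.Descent
import Groth.Agent.Lib.FibCat.Basic
import Groth.Prelude.Def_StGerb

/-!
# A fully faithful functor of stacks which is locally surjective on objects is an equivalence
-/

set_option backward.isDefEq.respectTransparency false
set_option backward.isDefEq.respectTransparency.types false
set_option autoImplicit false

universe v₃ u₃ v₂ u₂ v u

open CategoryTheory CategoryTheory.Functor

namespace GrothLib.Stk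

open GrothLib.FibCat

variable {C : Type u} [Category.{v} C] {J : GrothendieckTopology C}
variable {𝒳 : BasedCategory.{v₂, u₂} C} {𝒴 : BasedCategory.{v₃, u₃} C}

theorem isEquivOver_of_locSurjObj (F : 𝒳 ⥤ᵇ 𝒴) (h𝒳 : _root_.Stk.IsStack J 𝒳) (h𝒴 : _root_.Stk.IsStack J 𝒴)
    [F.toFunctor.Full] [F.toFunctor.Faithful] (hloc : Gerb.LocSurjObj J F) : _root_.FibCat.IsEquivOver F := by
  refine FFEssSurjOver.isEquivOver ⟨inferInstance, inferInstance, fun η => ?_⟩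
  obtain ⟨R, hR, hl⟩ := hloc η
  have key : ∀ z : (_root_.Stk.sieveCat R).obj, ∃ (x : 𝒳.obj) (g : F.obj x ⟶ η), 𝒴.p.IsHomLift z.obj.hom g :=
    fun z => hl z.obj.hom z.property
  choose xz gz hgz using key
  have hp : ∀ z, 𝒳.p.obj (xz z) = z.obj.left := fun z =>
    (F.w_obj (xz z)).symm.trans (have := hgz z; IsHomLift.domain_eq 𝒴.p z.obj.hom (gz z))
  have hex : ∀ {z z' : (_root_.Stk.sieveCat R).obj} (φ : z ⟶ z'), ∃ m : xz z ⟶ xz z',
      𝒳.p.IsHomLift φ.hom.left m ∧ F.map m ≫ gz z' = gz z := fun {z z'} φ => by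
    have := hgz z'
    have : 𝒴.p.IsHomLift (φ.hom.left ≫ z'.obj.hom) (gz z) := (Over.w φ.hom).symm ▸ hgz z
    obtain ⟨χ, ⟨hχ, e⟩, -⟩ := IsFibGrpd.existsUnique_lift h𝒴.1 z'.obj.hom φ.hom.left (gz z') (gz z)
    obtain ⟨m, rfl⟩ := F.toFunctor.map_surjective χ
    exact ⟨m, (BasedFunctor.isHomLift_iff F φ.hom.left m).1 hχ, e⟩
  choose mz hmz₁ hmz₂ using @hex
  have huniq : ∀ {z z' : (_root_.Stk.sieveCat R).obj} (φ : z ⟶ z') (m : xz z ⟶ xz z'),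
      𝒳.p.IsHomLift φ.hom.left m → F.map m ≫ gz z' = gz z → m = mz φ := fun {z z'} φ m hm e => by
    have := hgz z'
    have := hm
    have := hmz₁ φ
    exact F.toFunctor.map_injective (IsFibGrpd.hom_ext h𝒴.1 φ.hom.left z'.obj.hom (gz z')
      (e.trans (hmz₂ φ).symm))
  let c : _root_.Stk.sieveCat R ⥤ᵇ 𝒳 :=
    { toFunctor :=
        { obj := xz
          map := fun φ => mz φ
          map_id := fun z => (huniq (𝟙 z) (𝟙 (xz z)) (IsHomLift.id (hp z)) (by rw [F.map_id, Category.id_comp])).symm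
          map_comp := fun {z z' z''} φ ψ => (huniq (φ ≫ ψ) _ (by
              have := hmz₁ φ
              have := hmz₁ ψ
              exact (inferInstance : 𝒳.p.IsHomLift (φ.hom.left ≫ ψ.hom.left) (mz φ ≫ mz ψ)))
            (by rw [F.map_comp, Category.assoc, hmz₂, hmz₂])).symm }
      w := CategoryTheory.Functor.ext hp fun z z' φ => by
        have := hmz₁ φ
        exact IsHomLift.fac' 𝒳.p φ.hom.left (mz φ) }
  have hEq𝒳 : (_root_.Stk.resSieve R 𝒳).IsEquivalence := h𝒳.2 R hR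
  obtain ⟨a, ha, m, hm, hmc⟩ := Descent.exists_cocone h𝒳.1 (R := R) inferInstance c
  have hFa : 𝒴.p.obj (F.obj a) = 𝒴.p.obj η := (F.w_obj a).trans ha
  let R' : Sieve (𝒴.p.obj (F.obj a)) := R.pullback (eqToHom hFa)
  have hR' : R' ∈ J (𝒴.p.obj (F.obj a)) := J.pullback_stable _ hR
  have hFm : ∀ z, 𝒴.p.IsHomLift z.obj.hom (F.map (m z)) := fun z => by
    have := hm z; exact BasedFunctor.preserves_isHomLift F _ _
  have hth : ∀ {b : 𝒴.obj} (κ : b ⟶ F.obj a) (hκ : R' (𝒴.p.map κ)),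
      ∃ (θ : b ⟶ F.obj (xz ⟨Over.mk (𝒴.p.map κ ≫ eqToHom hFa), hκ⟩)),
        θ ≫ F.map (m ⟨Over.mk (𝒴.p.map κ ≫ eqToHom hFa), hκ⟩) = κ ∧ 𝒴.p.IsHomLift (𝟙 (𝒴.p.obj b)) θ := fun {b} κ hκ => by
    let z : (_root_.Stk.sieveCat R).obj := ⟨Over.mk (𝒴.p.map κ ≫ eqToHom hFa), hκ⟩
    have h1 : 𝒴.p.IsHomLift (𝒴.p.map κ ≫ eqToHom hFa) (F.map (m z)) := hFm z
    have h2 : 𝒴.p.IsHomLift (𝒴.p.map κ ≫ eqToHom hFa) κ := inferInstance
    obtain ⟨θ, hθ, e⟩ := IsFibGrpd.exists_iso_of_lifts h𝒴.1 (𝒴.p.map κ ≫ eqToHom hFa) (F.map (m z)) κ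
    exact ⟨θ.hom, e, hθ⟩
  choose θ hθ₁ hθ₂ using @hth
  let L : Descent.Local 𝒴.p (F.obj a) η R' (eqToHom hFa) :=
    { n := fun κ hκ => θ κ hκ ≫ gz _
      map_n := fun {b} κ hκ => by
        have := hθ₂ κ hκ
        have : 𝒴.p.IsHomLift (𝒴.p.map κ ≫ eqToHom hFa) (gz ⟨Over.mk (𝒴.p.map κ ≫ eqToHom hFa), hκ⟩) :=
          hgz ⟨Over.mk (𝒴.p.map κ ≫ eqToHom hFa), hκ⟩
        have : 𝒴.p.IsHomLift (𝒴.p.map κ ≫ eqToHom hFa) (θ κ hκ ≫ gz ⟨Over.mk (𝒴.p.map κ ≫ eqToHom hFa), hκ⟩) :=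
          IsHomLift.comp_lift_id_left' 𝒴.p (𝒴.p.obj b) _ _ _
        exact (IsHomLift.eq_of_isHomLift 𝒴.p _ _).symm
      comp := fun {b' b} l κ hκ h' => by
        let z : (_root_.Stk.sieveCat R).obj := ⟨Over.mk (𝒴.p.map κ ≫ eqToHom hFa), hκ⟩
        let z' : (_root_.Stk.sieveCat R).obj := ⟨Over.mk (𝒴.p.map (l ≫ κ) ≫ eqToHom hFa), h'⟩
        let φ : z' ⟶ z := ObjectProperty.homMk (Over.homMk (𝒴.p.map l) (by
          change 𝒴.p.map l ≫ 𝒴.p.map κ ≫ eqToHom hFa = 𝒴.p.map (l ≫ κ) ≫ eqToHom hFa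
          rw [𝒴.p.map_comp, Category.assoc]))
        have i1 : 𝒳.p.IsHomLift (𝒴.p.map l) (mz φ) := hmz₁ φ
        have i2 : 𝒴.p.IsHomLift (𝒴.p.map l) (F.map (mz φ)) := BasedFunctor.preserves_isHomLift F _ _
        have i3 := hθ₂ κ hκ
        have i4 := hθ₂ (l ≫ κ) h'
        have i5 : 𝒴.p.IsHomLift (𝒴.p.map l) (θ (l ≫ κ) h' ≫ F.map (mz φ)) :=
          IsHomLift.comp_lift_id_left' 𝒴.p (𝒴.p.obj b') _ _ _
        have i6 : 𝒴.p.IsHomLift (𝒴.p.map l) (l ≫ θ κ hκ) := IsHomLift.comp_lift_id_right' 𝒴.p _ l (𝒴.p.obj b) _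
        have i7 : 𝒴.p.IsHomLift z.obj.hom (F.map (m z)) := hFm z
        have key : l ≫ θ κ hκ = θ (l ≫ κ) h' ≫ F.map (mz φ) := by
          refine IsFibGrpd.hom_ext h𝒴.1 (𝒴.p.map l) z.obj.hom (F.map (m z)) ?_
          rw [Category.assoc, hθ₁ κ hκ, Category.assoc, ← F.map_comp]
          have := hmc φ
          rw [show mz φ ≫ m z = m z' from this]
          exact (hθ₁ (l ≫ κ) h').symm
        rw [← Category.assoc, key, Category.assoc, hmz₂ φ] }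
  have hEq𝒴 : (_root_.Stk.resSieve R' 𝒴).IsEquivalence := h𝒴.2 R' hR'
  obtain ⟨g, hg, -⟩ := Descent.exists_hom h𝒴.1 (R := R') inferInstance L
  have hgl : 𝒴.p.IsHomLift (𝟙 (𝒴.p.obj η)) g := IsHomLift.of_fac' 𝒴.p _ _ hFa rfl (by rw [hg]; simp)
  have := IsFibGrpd.isIso_of_isHomLift_id h𝒴.1 (R := 𝒴.p.obj η) g
  exact ⟨a, asIso g, hgl⟩

end GrothLib.Stk
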