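import Groth.Prelude.Def_AlgSt
import Groth.Agent.Lib.FibCat.FpMap

/-!
# Stacks: invariance under equivalence, fibre products, descent along faithful functors
-/

set_option backward.isDefEq.respectTransparency false
set_option backward.isDefEq.respectTransparency.types false

universe v₅ u₅ v₄ u₄ v₃ u₃ v₂ u₂ v u

open CategoryTheory CategoryTheory.Functor

namespace GrothLib.Stk

open GrothLib.FibCat

variable {C : Type u} [Category.{v} C]
variable {𝒳 : BasedCategory.{v₂, u₂} C} {𝒴 : BasedCategory.{v₃, u₃} C} {𝒮 : BasedCategory.{v₄, u₄} C}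
  {𝒜 : BasedCategory.{v₅, u₅} C}

theorem natTrans_congr_app {G H : 𝒜 ⥤ᵇ 𝒳} {α β : G ⟶ H} (h : α = β) (x : 𝒜.obj) :
    α.toNatTrans.app x = β.toNatTrans.app x := by rw [h]

/-- A 2-morphism into a category fibred in groupoids is invertible. -/
noncomputable def isoOfHom (h𝒳 : _root_.FibCat.IsFibGrpd 𝒳.p) {G H : 𝒜 ⥤ᵇ 𝒳} (α : G ⟶ H) : G ≅ H :=
  natIsoOfComponents
    (fun x =>
      have : 𝒳.p.IsHomLift (𝟙 (𝒜.p.obj x)) (α.toNatTrans.app x) := BasedNatTrans.isHomLift α rfl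
      have := IsFibGrpd.isIso_of_isHomLift_id h𝒳 (R := 𝒜.p.obj x) (α.toNatTrans.app x)
      asIso (α.toNatTrans.app x))
    (fun _ => BasedNatTrans.isHomLift α rfl) (fun f => α.toNatTrans.naturality f)

theorem isoOfHom_hom (h𝒳 : _root_.FibCat.IsFibGrpd 𝒳.p) {G H : 𝒜 ⥤ᵇ 𝒳} (α : G ⟶ H) :
    (isoOfHom h𝒳 α).hom = α := natTrans_ext fun _ => rfl

section Post

variable (𝒜)

/-- Composition with a functor over `C`, on categories of functors over `C`. -/
def post (F : 𝒳 ⥤ᵇ 𝒴) : (𝒜 ⥤ᵇ 𝒳) ⥤ (𝒜 ⥤ᵇ 𝒴) where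
  obj G := BasedFunctor.comp G F
  map α := BasedCategory.whiskerRight α F
  map_id G := natTrans_ext fun x => F.map_id _
  map_comp α β := natTrans_ext fun x => F.map_comp _ _

variable {𝒜}

/-- Composition with an equivalence over `C` is an equivalence. -/
theorem isEquivalence_post {F : 𝒳 ⥤ᵇ 𝒴} (hF : _root_.FibCat.IsEquivOver F) : (post 𝒜 F).IsEquivalence := by
  obtain ⟨F', ⟨η⟩, ⟨ε⟩⟩ := hF
  have eu : 𝟭 (𝒜 ⥤ᵇ 𝒳) ≅ post 𝒜 F ⋙ post 𝒜 F' := NatIso.ofComponents (fun G => whiskerLeftIso G η.symm)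
    (fun {G H} α => natTrans_ext fun x => η.inv.toNatTrans.naturality (α.toNatTrans.app x))
  have ec : post 𝒜 F' ⋙ post 𝒜 F ≅ 𝟭 (𝒜 ⥤ᵇ 𝒴) := NatIso.ofComponents (fun G => whiskerLeftIso G ε)
    (fun {G H} α => natTrans_ext fun x => ε.hom.toNatTrans.naturality (α.toNatTrans.app x))
  exact (CategoryTheory.Equivalence.mk (post 𝒜 F) (post 𝒜 F') eu ec).isEquivalence_functor

end Post

section Invariance

variable {U : C} {R : Sieve U}

/-- Restriction to a sieve commutes with composition. -/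
def resSievePostIso (R : Sieve U) (F : 𝒳 ⥤ᵇ 𝒴) :
    _root_.Stk.resSieve R 𝒳 ⋙ post _ F ≅ post _ F ⋙ _root_.Stk.resSieve R 𝒴 :=
  NatIso.ofComponents (fun G => Iso.refl _) (fun {G H} α => natTrans_ext fun x =>
    (Category.comp_id _).trans (Category.id_comp _).symm)

theorem isPrestackFor_of_isEquivOver (F : 𝒳 ⥤ᵇ 𝒴) (hF : _root_.FibCat.IsEquivOver F)
    (h : _root_.Stk.IsPrestackFor R 𝒳) : _root_.Stk.IsPrestackFor R 𝒴 := by
  obtain ⟨G, hG, -, -⟩ := IsEquivOver.symm hF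
  have := isEquivalence_post (𝒜 := _root_.FibCat.overCat U) hG
  have := isEquivalence_post (𝒜 := _root_.Stk.sieveCat R) hG
  have := h.1
  have := h.2
  exact ⟨@Functor.Full.of_comp_faithful_iso _ _ _ _ _ _ _ (post (_root_.Stk.sieveCat R) G)
      (post (_root_.FibCat.overCat U) G ⋙ _root_.Stk.resSieve R 𝒳) _ _ (resSievePostIso R G),
    Functor.Faithful.of_comp_iso (H := post (_root_.FibCat.overCat U) G ⋙ _root_.Stk.resSieve R 𝒳)
      (resSievePostIso R G)⟩

theorem isStackFor_of_isEquivOver (F : 𝒳 ⥤ᵇ 𝒴) (hF : _root_.FibCat.IsEquivOver F)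
    (h : _root_.Stk.IsStackFor R 𝒳) : _root_.Stk.IsStackFor R 𝒴 := by
  obtain ⟨G, hG, -, -⟩ := IsEquivOver.symm hF
  have := isEquivalence_post (𝒜 := _root_.FibCat.overCat U) hG
  have := isEquivalence_post (𝒜 := _root_.Stk.sieveCat R) hG
  have : (_root_.Stk.resSieve R 𝒳).IsEquivalence := h
  have : (_root_.Stk.resSieve R 𝒴 ⋙ post _ G).IsEquivalence :=
    Functor.isEquivalence_of_iso (resSievePostIso R G).symm
  exact Functor.isEquivalence_of_comp_right _ (post (_root_.Stk.sieveCat R) G)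

theorem isPrestack_iff_of_isEquivOver (J : GrothendieckTopology C) (F : 𝒳 ⥤ᵇ 𝒴)
    (hF : _root_.FibCat.IsEquivOver F) : _root_.Stk.IsPrestack J 𝒳 ↔ _root_.Stk.IsPrestack J 𝒴 := by
  obtain ⟨G, hG, -, -⟩ := IsEquivOver.symm hF
  exact ⟨fun h => ⟨(isFibGrpd_iff_of_isEquivOver F hF).1 h.1, fun U R hR => isPrestackFor_of_isEquivOver F hF (h.2 R hR)⟩,
    fun h => ⟨(isFibGrpd_iff_of_isEquivOver F hF).2 h.1, fun U R hR => isPrestackFor_of_isEquivOver G hG (h.2 R hR)⟩⟩

theorem isStack_iff_of_isEquivOver (J : GrothendieckTopology C) (F : 𝒳 ⥤ᵇ 𝒴)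
    (hF : _root_.FibCat.IsEquivOver F) : _root_.Stk.IsStack J 𝒳 ↔ _root_.Stk.IsStack J 𝒴 := by
  obtain ⟨G, hG, -, -⟩ := IsEquivOver.symm hF
  exact ⟨fun h => ⟨(isFibGrpd_iff_of_isEquivOver F hF).1 h.1, fun U R hR => isStackFor_of_isEquivOver F hF (h.2 R hR)⟩,
    fun h => ⟨(isFibGrpd_iff_of_isEquivOver F hF).2 h.1, fun U R hR => isStackFor_of_isEquivOver G hG (h.2 R hR)⟩⟩

theorem IsStack.isPrestack {J : GrothendieckTopology C} (h : _root_.Stk.IsStack J 𝒳) :
    _root_.Stk.IsPrestack J 𝒳 := ⟨h.1, fun U R hR => have : (_root_.Stk.resSieve R 𝒳).IsEquivalence := h.2 R hR; ⟨inferInstance, inferInstance⟩⟩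

end Invariance

section Fp

variable {U : C} {R : Sieve U} (F : 𝒳 ⥤ᵇ 𝒮) (G : 𝒴 ⥤ᵇ 𝒮)

/-- A 2-morphism of functors into a fibre product from its components. -/
def fpHom {a b : 𝒜 ⥤ᵇ _root_.FibCat.fp F G}
    (α : BasedFunctor.comp a (_root_.FibCat.fpFst F G) ⟶ BasedFunctor.comp b (_root_.FibCat.fpFst F G))
    (β : BasedFunctor.comp a (_root_.FibCat.fpSnd F G) ⟶ BasedFunctor.comp b (_root_.FibCat.fpSnd F G))
    (w : ∀ x, F.map (α.toNatTrans.app x) ≫ (b.obj x).obj.iso.hom =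
      (a.obj x).obj.iso.hom ≫ G.map (β.toNatTrans.app x)) : a ⟶ b where
  toNatTrans :=
    { app := fun x => Fp.homMk (α.toNatTrans.app x) (β.toNatTrans.app x) (w x)
      naturality := fun x y f => Fp.hom_ext (α.toNatTrans.naturality f) (β.toNatTrans.naturality f) }
  isHomLift' x := (Fp.isHomLift_iff _ _).2 (BasedNatTrans.isHomLift α rfl)

theorem isPrestackFor_fp (h𝒳 : _root_.Stk.IsPrestackFor R 𝒳) (h𝒴 : _root_.Stk.IsPrestackFor R 𝒴)
    (h𝒮 : (_root_.Stk.resSieve R 𝒮).Faithful) : _root_.Stk.IsPrestackFor R (_root_.FibCat.fp F G) := by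
  have := h𝒳.1; have := h𝒳.2; have := h𝒴.1; have := h𝒴.2
  constructor
  · refine ⟨fun {a b} γ => ?_⟩
    obtain ⟨α, hα⟩ := (_root_.Stk.resSieve R 𝒳).map_surjective
      (X := BasedFunctor.comp a (_root_.FibCat.fpFst F G)) (Y := BasedFunctor.comp b (_root_.FibCat.fpFst F G))
      (BasedCategory.whiskerRight γ (_root_.FibCat.fpFst F G))
    obtain ⟨β, hβ⟩ := (_root_.Stk.resSieve R 𝒴).map_surjective
      (X := BasedFunctor.comp a (_root_.FibCat.fpSnd F G)) (Y := BasedFunctor.comp b (_root_.FibCat.fpSnd F G))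
      (BasedCategory.whiskerRight γ (_root_.FibCat.fpSnd F G))
    have hw : BasedCategory.whiskerRight α F ≫ (whiskerLeftIso b (_root_.FibCat.fpIso F G)).hom =
        (whiskerLeftIso a (_root_.FibCat.fpIso F G)).hom ≫ BasedCategory.whiskerRight β G := by
      apply (_root_.Stk.resSieve R 𝒮).map_injective
      refine natTrans_ext fun x => ?_
      have e1 : α.toNatTrans.app x.obj = (γ.toNatTrans.app x).hom.fst := natTrans_congr_app hα x
      have e2 : β.toNatTrans.app x.obj = (γ.toNatTrans.app x).hom.snd := natTrans_congr_app hβ x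
      change F.map (α.toNatTrans.app x.obj) ≫ (b.obj x.obj).obj.iso.hom =
        (a.obj x.obj).obj.iso.hom ≫ G.map (β.toNatTrans.app x.obj)
      rw [e1, e2]
      exact Fp.w (γ.toNatTrans.app x)
    exact ⟨fpHom F G α β (natTrans_congr_app hw),
      natTrans_ext fun x => Fp.hom_ext (natTrans_congr_app hα x) (natTrans_congr_app hβ x)⟩
  · refine ⟨fun {a b φ ψ} e => natTrans_ext fun x => Fp.hom_ext ?_ ?_⟩
    · exact natTrans_congr_app ((_root_.Stk.resSieve R 𝒳).map_injective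
        (a₁ := BasedCategory.whiskerRight φ (_root_.FibCat.fpFst F G))
        (a₂ := BasedCategory.whiskerRight ψ (_root_.FibCat.fpFst F G))
        (natTrans_ext fun y => congrArg (fun t => t.hom.fst) (natTrans_congr_app e y))) x
    · exact natTrans_congr_app ((_root_.Stk.resSieve R 𝒴).map_injective
        (a₁ := BasedCategory.whiskerRight φ (_root_.FibCat.fpSnd F G))
        (a₂ := BasedCategory.whiskerRight ψ (_root_.FibCat.fpSnd F G))
        (natTrans_ext fun y => congrArg (fun t => t.hom.snd) (natTrans_congr_app e y))) x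

theorem isStackFor_fp (h𝒳 : _root_.Stk.IsStackFor R 𝒳) (h𝒴 : _root_.Stk.IsStackFor R 𝒴)
    (h𝒮 : _root_.Stk.IsPrestackFor R 𝒮) : _root_.Stk.IsStackFor R (_root_.FibCat.fp F G) := by
  have : (_root_.Stk.resSieve R 𝒳).IsEquivalence := h𝒳
  have : (_root_.Stk.resSieve R 𝒴).IsEquivalence := h𝒴
  have := h𝒮.1; have := h𝒮.2
  obtain ⟨hf, hfa⟩ := isPrestackFor_fp F G (R := R) ⟨inferInstance, inferInstance⟩ ⟨inferInstance, inferInstance⟩ h𝒮.2
  refine { faithful := hfa, full := hf, essSurj := ⟨fun c => ?_⟩ }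
  let c₁ := BasedFunctor.comp c (_root_.FibCat.fpFst F G)
  let c₂ := BasedFunctor.comp c (_root_.FibCat.fpSnd F G)
  let a₁ := (_root_.Stk.resSieve R 𝒳).objPreimage c₁
  let a₂ := (_root_.Stk.resSieve R 𝒴).objPreimage c₂
  let i₁ : BasedFunctor.comp (_root_.Stk.sieveIncl R) a₁ ≅ c₁ := (_root_.Stk.resSieve R 𝒳).objObjPreimageIso c₁
  let i₂ : BasedFunctor.comp (_root_.Stk.sieveIncl R) a₂ ≅ c₂ := (_root_.Stk.resSieve R 𝒴).objObjPreimageIso c₂
  let e₀ : (_root_.Stk.resSieve R 𝒮).obj (BasedFunctor.comp a₁ F) ≅ (_root_.Stk.resSieve R 𝒮).obj (BasedFunctor.comp a₂ G) :=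
    whiskerRightIso i₁ F ≪≫ whiskerLeftIso c (_root_.FibCat.fpIso F G) ≪≫ (whiskerRightIso i₂ G).symm
  let e := (_root_.Stk.resSieve R 𝒮).preimageIso e₀
  have he : ∀ x, e.hom.toNatTrans.app x.obj = e₀.hom.toNatTrans.app x := fun x =>
    natTrans_congr_app ((_root_.Stk.resSieve R 𝒮).map_preimage e₀.hom) x
  refine ⟨_root_.FibCat.fpLift a₁ a₂ e,
    ⟨natIsoOfComponents (fun x => Fp.isoMk (isoApp i₁ x) (isoApp i₂ x) ?_)
      (fun x => (Fp.isHomLift_iff _ _).2 (isHomLift_isoApp i₁ rfl))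
      (fun f => Fp.hom_ext (i₁.hom.toNatTrans.naturality f) (i₂.hom.toNatTrans.naturality f))⟩⟩
  change F.map (isoApp i₁ x).hom ≫ (c.obj x).obj.iso.hom = e.hom.toNatTrans.app x.obj ≫ G.map (isoApp i₂ x).hom
  rw [he]
  change _ = (F.map (isoApp i₁ x).hom ≫ (c.obj x).obj.iso.hom ≫ G.map (isoApp i₂ x).inv) ≫ G.map (isoApp i₂ x).hom
  have : G.map (isoApp i₂ x).inv ≫ G.map (isoApp i₂ x).hom = 𝟙 _ := by
    rw [← G.map_comp, Iso.inv_hom_id, G.map_id]
  simp only [Category.assoc]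
  erw [this, Category.comp_id]

end Fp

section Descend

variable {U : C} {R : Sieve U} (j : 𝒳 ⥤ᵇ 𝒴)

/-- Stack conditions descend along a faithful functor with stack fibres. -/
theorem isStackFor_of_fibres [j.toFunctor.Faithful] (h𝒳 : _root_.FibCat.IsFibGrpd 𝒳.p)
    (h𝒴 : _root_.FibCat.IsFibGrpd 𝒴.p) (hY : _root_.Stk.IsStackFor R 𝒴)
    (hfib : ∀ y : _root_.FibCat.overCat U ⥤ᵇ 𝒴, _root_.Stk.IsStackFor R (_root_.FibCat.fp y j)) :
    _root_.Stk.IsStackFor R 𝒳 := by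
  have : (_root_.Stk.resSieve R 𝒴).IsEquivalence := hY
  refine { faithful := ⟨fun {x x' α α'} e => natTrans_ext fun z => j.toFunctor.map_injective ?_⟩,
           full := ⟨fun {x x'} β => ?_⟩, essSurj := ⟨fun c => ?_⟩ }
  · exact natTrans_congr_app ((_root_.Stk.resSieve R 𝒴).map_injective
      (a₁ := BasedCategory.whiskerRight α j) (a₂ := BasedCategory.whiskerRight α' j)
      (natTrans_ext fun w => congrArg j.map (natTrans_congr_app e w))) z
  · obtain ⟨γ, hγ⟩ := (_root_.Stk.resSieve R 𝒴).map_surjective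
      (X := BasedFunctor.comp x j) (Y := BasedFunctor.comp x' j) (BasedCategory.whiskerRight β j)
    let z := _root_.FibCat.fpLift (F := BasedFunctor.comp x j) (G := j) (BasedFunctor.id _) x (Iso.refl _)
    let z' := _root_.FibCat.fpLift (F := BasedFunctor.comp x j) (G := j) (BasedFunctor.id _) x' (isoOfHom h𝒴 γ)
    let w : (_root_.Stk.resSieve R _).obj z ⟶ (_root_.Stk.resSieve R _).obj z' :=
      fpHom _ _ (𝟙 (_root_.Stk.sieveIncl R)) β fun t => by
        have e : γ.toNatTrans.app t.obj = j.map (β.toNatTrans.app t) := natTrans_congr_app hγ t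
        change j.map (x.map (𝟙 t.obj)) ≫ γ.toNatTrans.app t.obj = 𝟙 _ ≫ j.map (β.toNatTrans.app t)
        rw [e, x.map_id, j.map_id]
        exact (Category.id_comp _).trans (Category.id_comp _).symm
    have : (_root_.Stk.resSieve R (_root_.FibCat.fp (BasedFunctor.comp x j) j)).IsEquivalence := hfib _
    obtain ⟨δ, hδ⟩ := (_root_.Stk.resSieve R _).map_surjective w
    exact ⟨BasedCategory.whiskerRight δ (_root_.FibCat.fpSnd _ j),
      natTrans_ext fun t => congrArg (fun s => s.hom.snd) (natTrans_congr_app hδ t)⟩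
  · let y := (_root_.Stk.resSieve R 𝒴).objPreimage (BasedFunctor.comp c j)
    let i : BasedFunctor.comp (_root_.Stk.sieveIncl R) y ≅ BasedFunctor.comp c j :=
      (_root_.Stk.resSieve R 𝒴).objObjPreimageIso _
    let c' := _root_.FibCat.fpLift (F := y) (G := j) (_root_.Stk.sieveIncl R) c i
    have : (_root_.Stk.resSieve R (_root_.FibCat.fp y j)).IsEquivalence := hfib y
    exact ⟨BasedFunctor.comp ((_root_.Stk.resSieve R _).objPreimage c') (_root_.FibCat.fpSnd y j),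
      ⟨whiskerRightIso ((_root_.Stk.resSieve R _).objObjPreimageIso c') (_root_.FibCat.fpSnd y j)⟩⟩

end Descend

end GrothLib.Stk
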