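import Groth.Agent.Lib.Stk.Descent
import Groth.Agent.Lib.FibCat.Basic
import Groth.Agent.Lib.FibCat.FibGrpd

/-!
# Stacks locally isomorphic to a single object, compared through its automorphism groups
-/

set_option backward.isDefEq.respectTransparency false
set_option backward.isDefEq.respectTransparency.types false
set_option autoImplicit false

universe v₂ u₂ v u

open CategoryTheory CategoryTheory.Functor

namespace GrothLib.Stk.Neutral

open GrothLib.FibCat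

variable {C : Type u} [Category.{v} C] {J : GrothendieckTopology C}

/-- A compatible choice of one object over every object of the base. -/
structure Base (𝒳 : BasedCategory.{v₂, u₂} C) where
  obj : C → 𝒳.obj
  map : ∀ {W V : C}, (W ⟶ V) → (obj W ⟶ obj V)
  lift : ∀ {W V : C} (r : W ⟶ V), 𝒳.p.IsHomLift r (map r)
  map_id : ∀ V, map (𝟙 V) = 𝟙 (obj V)
  map_comp : ∀ {U W V : C} (s : U ⟶ W) (r : W ⟶ V), map (s ≫ r) = map s ≫ map r

variable {𝒳 𝒴 : BasedCategory.{v₂, u₂} C}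

theorem Base.lies (A : Base 𝒳) (V : C) : 𝒳.p.obj (A.obj V) = V :=
  have := A.lift (𝟙 V); IsHomLift.domain_eq 𝒳.p (𝟙 V) (A.map (𝟙 V))

/-- Vertical endomorphisms of the chosen object over `V`. -/
abbrev Vert (A : Base 𝒳) (V : C) := {s : A.obj V ⟶ A.obj V // 𝒳.p.IsHomLift (𝟙 V) s}

/-- Morphisms from the chosen objects over a morphism. -/
abbrev Loc (A : Base 𝒳) (a : 𝒳.obj) {V T : C} (g : V ⟶ T) := {κ : A.obj V ⟶ a // 𝒳.p.IsHomLift g κ}

namespace Base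

variable (A : Base 𝒳) {a : 𝒳.obj} {W V T : C}

/-- Composition of vertical endomorphisms. -/
def comp (s t : Vert A V) : Vert A V :=
  ⟨s.1 ≫ t.1, have := s.2; have := t.2; IsHomLift.comp_lift_id_left' 𝒳.p V s.1 (𝟙 V) t.1⟩

/-- A vertical endomorphism acts on local trivialisations. -/
def act {g : V ⟶ T} (s : Vert A V) (κ : Loc A a g) : Loc A a g :=
  ⟨s.1 ≫ κ.1, have := s.2; have := κ.2; IsHomLift.comp_lift_id_left' 𝒳.p V s.1 g κ.1⟩

/-- Restriction of local trivialisations. -/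
def res (r : W ⟶ V) {g : V ⟶ T} (κ : Loc A a g) : Loc A a (r ≫ g) :=
  ⟨A.map r ≫ κ.1, have := A.lift r; have := κ.2; inferInstance⟩

/-- Composition with a morphism. -/
def push {g : V ⟶ T} (κ : Loc A a g) {a' : 𝒳.obj} {T' : C} {h : T ⟶ T'} (α : a ⟶ a')
    (hα : 𝒳.p.IsHomLift h α) : Loc A a' (g ≫ h) :=
  ⟨κ.1 ≫ α, have := κ.2; have := hα; inferInstance⟩

theorem loc_ext {g g' : V ⟶ T} (e : g = g') (κ : Loc A a g) : ∃ κ' : Loc A a g', κ'.1 = κ.1 :=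
  ⟨⟨κ.1, e ▸ κ.2⟩, rfl⟩

variable (hG : _root_.FibCat.IsFibGrpd 𝒳.p)
include hG

theorem torsor {g : V ⟶ T} (κ κ' : Loc A a g) : ∃! s : Vert A V, s.1 ≫ κ'.1 = κ.1 := by
  have := κ'.2
  have : 𝒳.p.IsHomLift (𝟙 V ≫ g) κ.1 := by rw [Category.id_comp]; exact κ.2
  obtain ⟨s, ⟨h1, h2⟩, h3⟩ := IsFibGrpd.existsUnique_lift hG g (𝟙 V) κ'.1 κ.1
  exact ⟨⟨s, h1⟩, h2, fun t ht => Subtype.ext (h3 t.1 ⟨t.2, ht⟩)⟩

theorem exists_res (r : W ⟶ V) (s : Vert A V) : ∃ s' : Vert A W, s'.1 ≫ A.map r = A.map r ≫ s.1 := by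
  have := A.lift r
  have := s.2
  have h : 𝒳.p.IsHomLift (r ≫ 𝟙 V) (A.map r ≫ s.1) := inferInstance
  rw [Category.comp_id] at h
  have : 𝒳.p.IsHomLift (𝟙 W ≫ r) (A.map r ≫ s.1) := by rw [Category.id_comp]; exact h
  obtain ⟨t, ⟨h1, h2⟩, -⟩ := IsFibGrpd.existsUnique_lift hG r (𝟙 W) (A.map r) (A.map r ≫ s.1)
  exact ⟨⟨t, h1⟩, h2⟩

/-- Every morphism into a local trivialisation factors vertically. -/
theorem factor {a' : 𝒳.obj} {g : V ⟶ T} (κ : Loc A a g) (_ha' : 𝒳.p.obj a' = W) {f : W ⟶ T} (μ : a' ⟶ a)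
    (hμ : 𝒳.p.IsHomLift f μ) (r : W ⟶ V) (hr : r ≫ g = f) :
    ∃! i : a' ⟶ A.obj V, 𝒳.p.IsHomLift r i ∧ i ≫ κ.1 = μ := by
  have := κ.2
  have : 𝒳.p.IsHomLift (r ≫ g) μ := hr ▸ hμ
  exact IsFibGrpd.existsUnique_lift hG g r κ.1 μ

end Base

/-- Morphisms are glued from their restrictions to local trivialisations. -/
theorem exists_hom_of_local (hst : _root_.Stk.IsStack J 𝒳) (A : Base 𝒳) {b b' : 𝒳.obj} {T T' : C}
    (hb : 𝒳.p.obj b = T) (h : T ⟶ T') (hb' : 𝒳.p.obj b' = T') (R : Sieve T) (hR : R ∈ J T)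
    (hloc : ∀ {V : C} (g : V ⟶ T), R g → Nonempty (Loc A b g))
    (F : ∀ {V : C} (g : V ⟶ T), R g → Loc A b g → Loc A b' (g ≫ h))
    (nat : ∀ {W V : C} (r : W ⟶ V) (g : V ⟶ T) (hg : R g) (hrg : R (r ≫ g)) (μ : Loc A b g),
      (F (r ≫ g) hrg (A.res r μ)).1 = A.map r ≫ (F g hg μ).1)
    (eqv : ∀ {V : C} (g : V ⟶ T) (hg : R g) (s : Vert A V) (μ : Loc A b g),
      (F g hg (A.act s μ)).1 = s.1 ≫ (F g hg μ).1) :
    ∃ β : b ⟶ b', 𝒳.p.IsHomLift h β ∧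
      ∀ {V : C} (g : V ⟶ T) (hg : R g) (μ : Loc A b g), μ.1 ≫ β = (F g hg μ).1 := by
  subst hb hb'
  have hG := hst.1
  have wd : ∀ {b'' : 𝒳.obj} {V₁ V₂ : C} (g₁ : V₁ ⟶ 𝒳.p.obj b) (h₁ : R g₁) (μ₁ : Loc A b g₁)
      (g₂ : V₂ ⟶ 𝒳.p.obj b) (h₂ : R g₂) (μ₂ : Loc A b g₂) (i₁ : b'' ⟶ A.obj V₁) (i₂ : b'' ⟶ A.obj V₂),
      i₁ ≫ μ₁.1 = i₂ ≫ μ₂.1 → i₁ ≫ (F g₁ h₁ μ₁).1 = i₂ ≫ (F g₂ h₂ μ₂).1 := by
    intro b'' V₁ V₂ g₁ h₁ μ₁ g₂ h₂ μ₂ i₁ i₂ e
    have decomp : ∀ {V : C} (g : V ⟶ 𝒳.p.obj b) (μ : Loc A b g) (i : b'' ⟶ A.obj V),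
        ∃ (r : 𝒳.p.obj b'' ⟶ V) (k : b'' ⟶ A.obj (𝒳.p.obj b'')),
          𝒳.p.IsHomLift (𝟙 (𝒳.p.obj b'')) k ∧ k ≫ A.map r = i ∧ r ≫ g = 𝒳.p.map (i ≫ μ.1) := by
      intro V g μ i
      have hi : 𝒳.p.IsHomLift (𝒳.p.map i ≫ eqToHom (A.lies V)) i :=
        IsHomLift.of_fac 𝒳.p _ _ rfl (A.lies V) (by simp)
      have := A.lift (𝒳.p.map i ≫ eqToHom (A.lies V))
      have : 𝒳.p.IsHomLift (𝟙 (𝒳.p.obj b'') ≫ (𝒳.p.map i ≫ eqToHom (A.lies V))) i := by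
        rw [Category.id_comp]; exact hi
      obtain ⟨k, ⟨hk, ek⟩, -⟩ := IsFibGrpd.existsUnique_lift hG (𝒳.p.map i ≫ eqToHom (A.lies V)) (𝟙 _)
        (A.map (𝒳.p.map i ≫ eqToHom (A.lies V))) i
      refine ⟨_, k, hk, ek, ?_⟩
      have := μ.2
      have : 𝒳.p.IsHomLift ((𝒳.p.map i ≫ eqToHom (A.lies V)) ≫ g) (i ≫ μ.1) := inferInstance
      exact IsHomLift.eq_of_isHomLift 𝒳.p _ (i ≫ μ.1)
    obtain ⟨r₁, k₁, hk₁, rfl, e₁⟩ := decomp g₁ μ₁ i₁
    obtain ⟨r₂, k₂, hk₂, rfl, e₂⟩ := decomp g₂ μ₂ i₂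
    have er : r₁ ≫ g₁ = r₂ ≫ g₂ := e₁.trans ((congrArg 𝒳.p.map e).trans e₂.symm)
    have hR₁ : R (r₁ ≫ g₁) := R.downward_closed h₁ r₁
    have key : ∀ {f : 𝒳.p.obj b'' ⟶ 𝒳.p.obj b} (hf : R f) (ν₁ ν₂ : Loc A b f),
        k₁ ≫ ν₁.1 = k₂ ≫ ν₂.1 → k₁ ≫ (F f hf ν₁).1 = k₂ ≫ (F f hf ν₂).1 := by
      intro f hf ν₁ ν₂ ek
      obtain ⟨s, hs, -⟩ := A.torsor hG ν₁ ν₂
      have := s.2
      have := ν₂.2
      have : 𝒳.p.IsHomLift (𝟙 (𝒳.p.obj b'')) (k₁ ≫ s.1) :=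
        IsHomLift.comp_lift_id_left' 𝒳.p (𝒳.p.obj b'') k₁ (𝟙 (𝒳.p.obj b'')) s.1
      have hk : k₁ ≫ s.1 = k₂ := IsFibGrpd.hom_ext hG (𝟙 (𝒳.p.obj b'')) f ν₂.1 (by rw [Category.assoc, hs, ek])
      rw [show ν₁ = A.act s ν₂ from Subtype.ext hs.symm, eqv, ← Category.assoc, hk]
    have gen : ∀ {f : 𝒳.p.obj b'' ⟶ 𝒳.p.obj b} (hf : R f) {V : C} (g : V ⟶ 𝒳.p.obj b) (hg : R g)
        (μ : Loc A b g) (r : 𝒳.p.obj b'' ⟶ V) (e : r ≫ g = f),
        ∃ ν : Loc A b f, ν.1 = A.map r ≫ μ.1 ∧ (F f hf ν).1 = A.map r ≫ (F g hg μ).1 := by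
      intro f hf V g hg μ r e
      subst e
      exact ⟨A.res r μ, rfl, nat r g hg hf μ⟩
    obtain ⟨ν₁, n₁, m₁⟩ := gen hR₁ g₁ h₁ μ₁ r₁ rfl
    obtain ⟨ν₂, n₂, m₂⟩ := gen hR₁ g₂ h₂ μ₂ r₂ er.symm
    have := key hR₁ ν₁ ν₂ (by rw [n₁, n₂, ← Category.assoc, e, Category.assoc])
    rw [m₁, m₂] at this
    rw [Category.assoc, this, Category.assoc]
  have cov : ∀ {b'' : 𝒳.obj} (μ : b'' ⟶ b) (hμ : R (𝒳.p.map μ)),
      ∃ (κ : Loc A b (𝒳.p.map μ)) (i : b'' ⟶ A.obj (𝒳.p.obj b'')),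
        𝒳.p.IsHomLift (𝟙 (𝒳.p.obj b'')) i ∧ i ≫ κ.1 = μ := fun {b''} μ hμ => by
    obtain ⟨κ⟩ := hloc _ hμ
    obtain ⟨i, ⟨hi, ei⟩, -⟩ := A.factor hG κ rfl μ (IsHomLift.map 𝒳.p μ) (𝟙 _) (Category.id_comp _)
    exact ⟨κ, i, hi, ei⟩
  choose κ i hi ei using @cov
  let L : Descent.Local 𝒳.p b b' R h :=
    { n := fun μ hμ => i μ hμ ≫ (F _ hμ (κ μ hμ)).1
      map_n := fun {b''} μ hμ => by
        have := hi μ hμ
        have := (F _ hμ (κ μ hμ)).2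
        have : 𝒳.p.IsHomLift (𝒳.p.map μ ≫ h) (i μ hμ ≫ (F _ hμ (κ μ hμ)).1) :=
          IsHomLift.comp_lift_id_left' 𝒳.p (𝒳.p.obj b'') (i μ hμ) (𝒳.p.map μ ≫ h) _
        exact (IsHomLift.eq_of_isHomLift 𝒳.p (𝒳.p.map μ ≫ h) _).symm
      comp := fun l μ hμ h' => by
        rw [← Category.assoc]
        exact wd _ _ _ _ _ _ _ _ (by rw [Category.assoc, ei, ei]) }
  obtain ⟨β, hβ, hβ'⟩ := Descent.exists_hom hG (show (_root_.Stk.resSieve R 𝒳).Full from (hst.2 R hR : (_root_.Stk.resSieve R 𝒳).IsEquivalence).full) L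
  refine ⟨β, hβ ▸ IsHomLift.map 𝒳.p β, fun {V} g hg μ => ?_⟩
  have := μ.2
  have hmem : R (𝒳.p.map μ.1) := Descent.mem_of_isHomLift 𝒳.p R μ.1 hg
  rw [hβ' μ.1 hmem]
  exact (wd _ _ _ g hg μ (i μ.1 hmem) (𝟙 _) (by rw [ei, Category.id_comp])).trans (Category.id_comp _)

theorem hom_eq_of_local (hst : _root_.Stk.IsStack J 𝒳) (A : Base 𝒳) {b b' : 𝒳.obj} {T T' : C}
    (hb : 𝒳.p.obj b = T) (h : T ⟶ T') (R : Sieve T) (hR : R ∈ J T)
    (hloc : ∀ {V : C} (g : V ⟶ T), R g → Nonempty (Loc A b g)) (β β' : b ⟶ b') (hβ : 𝒳.p.IsHomLift h β)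
    (hβ' : 𝒳.p.IsHomLift h β') (H : ∀ {V : C} (g : V ⟶ T), R g → ∀ μ : Loc A b g, μ.1 ≫ β = μ.1 ≫ β') :
    β = β' := by
  subst hb
  obtain rfl := IsHomLift.codomain_eq 𝒳.p h β
  refine Descent.hom_ext hst.1 (show (_root_.Stk.resSieve R 𝒳).Faithful from (hst.2 R hR : (_root_.Stk.resSieve R 𝒳).IsEquivalence).faithful) β β'
    ((IsHomLift.eq_of_isHomLift 𝒳.p h β).symm.trans (IsHomLift.eq_of_isHomLift 𝒳.p h β')) fun {b''} μ hμ => ?_
  obtain ⟨κ⟩ := hloc _ hμ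
  obtain ⟨i, ⟨-, ei⟩, -⟩ := A.factor hst.1 κ rfl μ (IsHomLift.map 𝒳.p μ) (𝟙 _) (Category.id_comp _)
  rw [← ei, Category.assoc, Category.assoc, H _ hμ κ]

/-- The sieve of morphisms over which `a` is isomorphic to a chosen object. -/
def trivSieve (A : Base 𝒳) (a : 𝒳.obj) (T : C) : Sieve T where
  arrows _ g := Nonempty (Loc A a g)
  downward_closed h r := h.elim fun κ => ⟨A.res r κ⟩

/-- A natural identification of the automorphism groups of the chosen objects. -/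
structure AutMatch (A : Base 𝒳) (B : Base 𝒴) where
  θ : ∀ V, Vert A V ≃ Vert B V
  map_comp : ∀ V (s t : Vert A V), θ V (A.comp s t) = B.comp (θ V s) (θ V t)
  natural : ∀ {W V : C} (r : W ⟶ V) (s' : Vert A W) (s : Vert A V), s'.1 ≫ A.map r = A.map r ≫ s.1 →
    (θ W s').1 ≫ B.map r = B.map r ≫ (θ V s).1

variable {A : Base 𝒳} {B : Base 𝒴}

/-- The identification in the other direction. -/
def AutMatch.symm (hA : _root_.FibCat.IsFibGrpd 𝒳.p) (hB : _root_.FibCat.IsFibGrpd 𝒴.p) (M : AutMatch A B) :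
    AutMatch B A where
  θ V := (M.θ V).symm
  map_comp V s t := by apply (M.θ V).injective; simp [M.map_comp]
  natural {W V} r t' t e := by
    obtain ⟨s', hs'⟩ := A.exists_res hA r ((M.θ V).symm t)
    have e' := M.natural r s' _ hs'
    rw [Equiv.apply_symm_apply, ← e] at e'
    have := B.lift r
    have := (M.θ W s').2
    have := t'.2
    obtain rfl : M.θ W s' = t' := Subtype.ext (IsFibGrpd.hom_ext hB (𝟙 W) r (B.map r) e')
    simpa using hs'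

/-- A pair of objects with identified local trivialisations. -/
structure Lk (M : AutMatch A B) : Type max u v u₂ v₂ where
  T : C
  a : 𝒳.obj
  b : 𝒴.obj
  ha : 𝒳.p.obj a = T
  hb : 𝒴.p.obj b = T
  Φ : ∀ {V : C} (g : V ⟶ T), Loc A a g → Loc B b g
  nat : ∀ {W V : C} (r : W ⟶ V) (g : V ⟶ T) (κ : Loc A a g), (Φ (r ≫ g) (A.res r κ)).1 = B.map r ≫ (Φ g κ).1
  eqv : ∀ {V : C} (g : V ⟶ T) (s : Vert A V) (κ : Loc A a g),
    (Φ g (A.act s κ)).1 = (M.θ V s).1 ≫ (Φ g κ).1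

variable {M : AutMatch A B}

theorem Lk.Φ_congr (X : Lk M) {V : C} {g g' : V ⟶ X.T} (e : g = g') (κ : Loc A X.a g) (κ' : Loc A X.a g')
    (h : κ'.1 = κ.1) : (X.Φ g κ).1 = (X.Φ g' κ').1 := by
  subst e; rw [Subtype.ext h]

theorem Lk.Φ_injective (hA : _root_.FibCat.IsFibGrpd 𝒳.p) (hB : _root_.FibCat.IsFibGrpd 𝒴.p) (X : Lk M)
    {V : C} (g : V ⟶ X.T) : Function.Injective (X.Φ g) := by
  intro κ κ' e
  obtain ⟨s, hs, hu⟩ := A.torsor hA κ κ'
  obtain ⟨o, ho, -⟩ := A.torsor hA κ' κ'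
  obtain ⟨w, -, hu'⟩ := B.torsor hB (X.Φ g κ) (X.Φ g κ')
  have h1 : (M.θ V s).1 ≫ (X.Φ g κ').1 = (X.Φ g κ).1 := by
    rw [← X.eqv, show A.act s κ' = κ from Subtype.ext hs]
  have h2 : (M.θ V o).1 ≫ (X.Φ g κ').1 = (X.Φ g κ).1 := by
    rw [← X.eqv, show A.act o κ' = κ' from Subtype.ext ho, e]
  obtain rfl := (M.θ V).injective ((hu' _ h1).trans (hu' _ h2).symm)
  exact Subtype.ext (hs.symm.trans ho)

theorem Lk.exists_pre (hB : _root_.FibCat.IsFibGrpd 𝒴.p) (X : Lk M)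
    {V : C} (g : V ⟶ X.T) (κ₀ : Loc A X.a g) (μ : Loc B X.b g) : ∃ κ, X.Φ g κ = μ := by
  obtain ⟨t, ht, -⟩ := B.torsor hB μ (X.Φ g κ₀)
  exact ⟨A.act ((M.θ V).symm t) κ₀, Subtype.ext (by rw [X.eqv, Equiv.apply_symm_apply]; exact ht)⟩

theorem Lk.Φ_bijective (hst : _root_.Stk.IsStack J 𝒳) (hst' : _root_.Stk.IsStack J 𝒴)
    (hloc : ∀ (a : 𝒳.obj) (T : C), 𝒳.p.obj a = T → trivSieve A a T ∈ J T) (X : Lk M)
    {V : C} (g : V ⟶ X.T) : Function.Bijective (X.Φ g) := by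
  refine ⟨X.Φ_injective hst.1 hst'.1 g, fun μ => ?_⟩
  have hA := hst.1
  have hB := hst'.1
  let R : Sieve V := (trivSieve A X.a X.T).pullback g
  have hpre : ∀ {W : C} (r : W ⟶ V), R r → ∀ ν : Loc A (A.obj V) r, ∃ κ : Loc A X.a (r ≫ g),
      ∀ s : Vert A W, s.1 ≫ A.map r = ν.1 → (X.Φ (r ≫ g) κ).1 = (M.θ W s).1 ≫ B.map r ≫ μ.1 := by
    intro W r hr ν
    obtain ⟨κ₀⟩ := hr
    obtain ⟨s, hs, hu⟩ := A.torsor hA ν ⟨A.map r, A.lift r⟩
    obtain ⟨κ, hκ⟩ := X.exists_pre hB (r ≫ g) κ₀ (B.act (M.θ W s) (B.res r μ))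
    refine ⟨κ, fun s' hs' => ?_⟩
    rw [hκ, hu s' hs']
    rfl
  choose F hF using @hpre
  have tor : ∀ {W : C} (r : W ⟶ V) (ν : Loc A (A.obj V) r), ∃ s : Vert A W, s.1 ≫ A.map r = ν.1 :=
    fun r ν => (A.torsor hA ν ⟨A.map r, A.lift r⟩).exists
  obtain ⟨β, hβ, hβ'⟩ := exists_hom_of_local hst A (A.lies V) g X.ha R
    (J.pullback_stable g (hloc _ _ X.ha)) (fun r _ => ⟨⟨A.map r, A.lift r⟩⟩) (fun {W} r hr ν => F r hr ν)
    (fun {W' W} l r hr hlr ν => by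
      obtain ⟨s, hs⟩ := tor r ν
      obtain ⟨s', hs'⟩ := A.exists_res hA l s
      obtain ⟨κ', hκ'⟩ := A.loc_ext (Category.assoc l r g).symm (A.res l (F r hr ν))
      suffices F (l ≫ r) hlr (A.res l ν) = κ' by rw [this, hκ']; rfl
      refine X.Φ_injective hA hB _ (Subtype.ext ?_)
      rw [hF (l ≫ r) hlr (A.res l ν) s' (by
          rw [A.map_comp, ← Category.assoc, hs', Category.assoc, hs]; rfl),
        ← X.Φ_congr (Category.assoc l r g).symm (A.res l (F r hr ν)) κ' hκ', X.nat, hF r hr ν s hs, B.map_comp]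
      simp only [← Category.assoc, M.natural l s' s hs'])
    (fun {W} r hr t ν => by
      obtain ⟨s, hs⟩ := tor r ν
      suffices F r hr (A.act t ν) = A.act t (F r hr ν) from congrArg Subtype.val this
      refine X.Φ_injective hA hB _ (Subtype.ext ?_)
      rw [hF r hr (A.act t ν) (A.comp t s) (by simp [Base.comp, Base.act, hs]), X.eqv, hF r hr ν s hs,
        M.map_comp]
      simp [Base.comp])
  refine ⟨⟨β, hβ⟩, Subtype.ext (hom_eq_of_local hst' B (B.lies V) g R (J.pullback_stable g (hloc _ _ X.ha))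
    (fun r _ => ⟨⟨B.map r, B.lift r⟩⟩) _ μ.1 (X.Φ g _).2 μ.2 fun {W} r hr ν => ?_)⟩
  obtain ⟨t, ht, -⟩ := B.torsor hB ν ⟨B.map r, B.lift r⟩
  suffices e : B.map r ≫ (X.Φ g ⟨β, hβ⟩).1 = B.map r ≫ μ.1 by rw [← ht, Category.assoc, Category.assoc, e]
  obtain ⟨o, ho, -⟩ := A.torsor hA ⟨A.map r, A.lift r⟩ ⟨A.map r, A.lift r⟩
  have hκ : A.act o (A.res r ⟨β, hβ⟩) = F r hr ⟨A.map r, A.lift r⟩ :=
    Subtype.ext ((Category.assoc _ _ _).symm.trans ((congrArg (· ≫ β) ho).trans (hβ' r hr _)))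
  have := congrArg Subtype.val (congrArg (X.Φ (r ≫ g)) hκ)
  rw [X.eqv, X.nat, hF r hr ⟨A.map r, A.lift r⟩ o ho] at this
  have := (M.θ W o).2
  have := IsFibGrpd.isIso_of_isHomLift_id hB (R := W) (M.θ W o).1
  exact (cancel_epi (M.θ W o).1).1 ‹(M.θ W o).1 ≫ _ = (M.θ W o).1 ≫ _›

/-- Morphisms of linked pairs. -/
structure LkHom (X Y : Lk M) : Type max v v₂ where
  base : X.T ⟶ Y.T
  α : X.a ⟶ Y.a
  β : X.b ⟶ Y.b
  hα : 𝒳.p.IsHomLift base α
  hβ : 𝒴.p.IsHomLift base β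
  compat : ∀ {V : C} (g : V ⟶ X.T) (κ : Loc A X.a g),
    (Y.Φ (g ≫ base) (A.push κ α hα)).1 = (X.Φ g κ).1 ≫ β

namespace LkHom

theorem ext' {X Y : Lk M} {f g : LkHom X Y} (h₁ : f.base = g.base) (h₂ : f.α = g.α) (h₃ : f.β = g.β) : f = g := by
  cases f; cases g; congr

/-- The identity. -/
def id (X : Lk M) : LkHom X X where
  base := 𝟙 _
  α := 𝟙 _
  β := 𝟙 _
  hα := IsHomLift.id X.ha
  hβ := IsHomLift.id X.hb
  compat g κ := (X.Φ_congr (Category.comp_id g) _ κ (Category.comp_id _).symm).trans (Category.comp_id _).symm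

/-- Composition. -/
def comp {X Y Z : Lk M} (f : LkHom X Y) (g : LkHom Y Z) : LkHom X Z where
  base := f.base ≫ g.base
  α := f.α ≫ g.α
  β := f.β ≫ g.β
  hα := have := f.hα; have := g.hα; inferInstance
  hβ := have := f.hβ; have := g.hβ; inferInstance
  compat q κ := by
    have h := g.compat (q ≫ f.base) (A.push κ f.α f.hα)
    exact (Z.Φ_congr (Category.assoc _ _ _).symm _ _ (Category.assoc _ _ _)).trans
      (h.trans ((congrArg (· ≫ g.β) (f.compat q κ)).trans (Category.assoc _ _ _)))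

end LkHom

instance : Category.{max v v₂} (Lk M) where
  Hom := LkHom
  id := LkHom.id
  comp := LkHom.comp
  id_comp _ := LkHom.ext' (Category.id_comp _) (Category.id_comp _) (Category.id_comp _)
  comp_id _ := LkHom.ext' (Category.comp_id _) (Category.comp_id _) (Category.comp_id _)
  assoc _ _ _ := LkHom.ext' (Category.assoc _ _ _) (Category.assoc _ _ _) (Category.assoc _ _ _)

variable (M) in
/-- Linked pairs as a category over the base. -/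
abbrev lkCat : BasedCategory.{max v v₂, max u v u₂ v₂} C where
  obj := Lk M
  p := { obj := fun X => X.T, map := fun {X Y} (f : LkHom X Y) => f.base }

/-- The first projection. -/
def fst : lkCat M ⥤ᵇ 𝒳 where
  obj := fun (X : Lk M) => X.a
  map := fun {X Y : Lk M} (f : LkHom X Y) => f.α
  map_id _ := rfl
  map_comp _ _ := rfl
  w := CategoryTheory.Functor.ext (fun X : Lk M => X.ha) fun (X Y : Lk M) (f : LkHom X Y) => by
    have := f.hα
    exact IsHomLift.fac' 𝒳.p f.base f.α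

/-- The second projection. -/
def snd : lkCat M ⥤ᵇ 𝒴 where
  obj := fun (X : Lk M) => X.b
  map := fun {X Y : Lk M} (f : LkHom X Y) => f.β
  map_id _ := rfl
  map_comp _ _ := rfl
  w := CategoryTheory.Functor.ext (fun X : Lk M => X.hb) fun (X Y : Lk M) (f : LkHom X Y) => by
    have := f.hβ
    exact IsHomLift.fac' 𝒴.p f.base f.β

variable (hst : _root_.Stk.IsStack J 𝒳) (hst' : _root_.Stk.IsStack J 𝒴)
  (hloc : ∀ (a : 𝒳.obj) (T : C), 𝒳.p.obj a = T → trivSieve A a T ∈ J T)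

include hst hst' hloc

theorem hom_α_eq {X Y : Lk M} (f g : X ⟶ Y) (h : f.base = g.base) (e : f.α = g.α) : f = g := by
  refine LkHom.ext' h e ?_
  refine hom_eq_of_local hst' B X.hb f.base _ (hloc _ _ X.ha) (fun q hq => hq.elim fun κ => ⟨X.Φ q κ⟩) _ _ f.hβ
    (h ▸ g.hβ) fun {V} q hq μ => ?_
  obtain ⟨κ₀⟩ := hq
  obtain ⟨κ, rfl⟩ := X.exists_pre hst'.1 q κ₀ μ
  rw [← f.compat, ← g.compat]
  exact Y.Φ_congr (by rw [h]) _ _ (by simp [Base.push, e])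

theorem exists_hom {X Y : Lk M} (h : X.T ⟶ Y.T) (α : X.a ⟶ Y.a) (hα : 𝒳.p.IsHomLift h α) :
    ∃ f : X ⟶ Y, f.base = h ∧ f.α = α := by
  have hpre : ∀ {V : C} (g : V ⟶ X.T), trivSieve A X.a X.T g → ∀ μ : Loc B X.b g, ∃ κ, X.Φ g κ = μ :=
    fun g hg μ => hg.elim fun κ₀ => X.exists_pre hst'.1 g κ₀ μ
  choose P hP using @hpre
  obtain ⟨β, hβ, hβ'⟩ := exists_hom_of_local hst' B X.hb h Y.hb _ (hloc _ _ X.ha)
    (fun q hq => hq.elim fun κ => ⟨X.Φ q κ⟩) (fun g hg μ => Y.Φ (g ≫ h) (A.push (P g hg μ) α hα))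
    (fun r g hg hrg μ => by
      have : P (r ≫ g) hrg (B.res r μ) = A.res r (P g hg μ) := X.Φ_injective hst.1 hst'.1 _ (Subtype.ext (by
        rw [hP, X.nat, hP]; rfl))
      rw [← Y.nat]
      refine Y.Φ_congr (Category.assoc _ _ _) _ _ ?_
      change A.map r ≫ (P g hg μ).1 ≫ α = (P (r ≫ g) hrg (B.res r μ)).1 ≫ α
      rw [this]
      exact (Category.assoc _ _ _).symm)
    (fun g hg t μ => by
      have : P g hg (B.act t μ) = A.act ((M.θ _).symm t) (P g hg μ) :=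
        X.Φ_injective hst.1 hst'.1 _ (Subtype.ext (by rw [hP, X.eqv, Equiv.apply_symm_apply, hP]; rfl))
      rw [this]
      refine (Y.Φ_congr rfl (A.act ((M.θ _).symm t) (A.push (P g hg μ) α hα)) _ ?_).symm.trans
        (by rw [Y.eqv, Equiv.apply_symm_apply])
      simp [Base.act, Base.push])
  refine ⟨⟨h, α, β, hα, hβ, fun {V} g κ => ?_⟩, rfl, rfl⟩
  rw [hβ' g ⟨κ⟩ (X.Φ g κ)]
  have : P g ⟨κ⟩ (X.Φ g κ) = κ := X.Φ_injective hst.1 hst'.1 _ (hP _ _ _)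
  rw [this]

theorem full_fst : (fst (M := M)).toFunctor.Full where
  map_surjective {X Y} α := by
    let h : X.T ⟶ Y.T := eqToHom X.ha.symm ≫ 𝒳.p.map α ≫ eqToHom Y.ha
    have hα : 𝒳.p.IsHomLift h α := IsHomLift.of_fac 𝒳.p _ _ X.ha Y.ha rfl
    obtain ⟨f, -, hf⟩ := exists_hom hst hst' hloc h α hα
    exact ⟨f, hf⟩

theorem faithful_fst : (fst (M := M)).toFunctor.Faithful where
  map_injective {X Y} f g (e : f.α = g.α) := by
    refine hom_α_eq hst hst' hloc f g ?_ e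
    have hf := f.hα
    have hg := g.hα
    rw [IsHomLift.fac 𝒳.p f.base f.α, IsHomLift.fac 𝒳.p g.base g.α]
    exact congrArg (fun t => eqToHom X.ha.symm ≫ 𝒳.p.map t ≫ eqToHom Y.ha) e

theorem exists_obj {T : C} (a : 𝒳.obj) (ha : 𝒳.p.obj a = T) : ∃ X : Lk M, X.a = a := by
  classical
  have hA := hst.1
  have hB := hst'.1
  let R := trivSieve A a T
  let k : ∀ z : (_root_.Stk.sieveCat R).obj, Loc A a z.obj.hom := fun z => z.property.some
  have hφ : ∀ {z z' : (_root_.Stk.sieveCat R).obj} (φ : z ⟶ z'),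
      ∃! s : Vert A z.obj.left, s.1 ≫ A.map φ.hom.left ≫ (k z').1 = (k z).1 := fun {z z'} φ => by
    obtain ⟨κ', hκ'⟩ := A.loc_ext (Over.w φ.hom) (A.res φ.hom.left (k z'))
    obtain ⟨s, hs, hu⟩ := A.torsor hA (k z) κ'
    exact ⟨s, by rw [hκ'] at hs; exact hs, fun t ht => hu t (by rw [hκ']; exact ht)⟩
  choose s hs hu using @hφ
  let c : _root_.Stk.sieveCat R ⥤ᵇ 𝒴 :=
    { obj := fun z => B.obj z.obj.left
      map := fun {z z'} φ => (M.θ _ (s φ)).1 ≫ B.map φ.hom.left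
      map_id := fun z => by
        have hm1 : A.map (Over.Hom.left (𝟙 z : z ⟶ z).hom) = 𝟙 _ := A.map_id _
        have h1 := hs (𝟙 z)
        rw [hm1, Category.id_comp] at h1
        have e : A.comp (s (𝟙 z)) (s (𝟙 z)) = s (𝟙 z) := hu (𝟙 z) _ (by
          rw [hm1, Category.id_comp]
          exact (Category.assoc _ _ _).trans ((congrArg ((s (𝟙 z)).1 ≫ ·) h1).trans h1))
        have := congrArg Subtype.val (congrArg (M.θ _) e)
        rw [M.map_comp] at this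
        have := (M.θ _ (s (𝟙 z))).2
        have := IsFibGrpd.isIso_of_isHomLift_id hB (R := z.obj.left) (M.θ _ (s (𝟙 z))).1
        have e2 : (M.θ _ (s (𝟙 z))).1 = 𝟙 _ := (cancel_epi (M.θ _ (s (𝟙 z))).1).1
          (by rw [Category.comp_id]; assumption)
        change (M.θ _ (s (𝟙 z))).1 ≫ B.map (𝟙 z.obj.left) = 𝟙 _
        rw [e2, B.map_id, Category.id_comp]
      map_comp := fun {z z' z''} φ ψ => by
        obtain ⟨t, ht⟩ := A.exists_res hA φ.hom.left (s ψ)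
        have e : A.comp (s φ) t = s (φ ≫ ψ) := hu (φ ≫ ψ) _ (by
          change ((s φ).1 ≫ t.1) ≫ A.map (φ.hom.left ≫ ψ.hom.left) ≫ (k z'').1 = _
          rw [A.map_comp, Category.assoc, Category.assoc, ← Category.assoc t.1, ht, Category.assoc]
          exact (congrArg (fun q => (s φ).1 ≫ A.map φ.hom.left ≫ q) (hs ψ)).trans (hs φ))
        rw [← e, M.map_comp]
        change ((M.θ _ (s φ)).1 ≫ (M.θ _ t).1) ≫ B.map (φ.hom.left ≫ ψ.hom.left) = _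
        rw [B.map_comp]
        simp only [Category.assoc]
        rw [← Category.assoc (M.θ _ t).1, M.natural _ _ _ ht]
        simp only [Category.assoc]
      w := CategoryTheory.Functor.ext (fun z => B.lies _) fun z z' φ => by
        have := (M.θ _ (s φ)).2
        have := B.lift φ.hom.left
        have : 𝒴.p.IsHomLift φ.hom.left ((M.θ _ (s φ)).1 ≫ B.map φ.hom.left) :=
          IsHomLift.comp_lift_id_left' 𝒴.p z.obj.left (M.θ _ (s φ)).1 φ.hom.left _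
        exact IsHomLift.fac' 𝒴.p φ.hom.left _ }
  obtain ⟨b, hb, m, hm, hm'⟩ := Descent.exists_cocone hB
    (show (_root_.Stk.resSieve R 𝒴).EssSurj from
      (hst'.2 R (hloc a T ha) : (_root_.Stk.resSieve R 𝒴).IsEquivalence).essSurj) c
  let z : ∀ {V : C} (g : V ⟶ T), Loc A a g → (_root_.Stk.sieveCat R).obj := fun g κ => ⟨Over.mk g, ⟨κ⟩⟩
  let u : ∀ {V : C} (g : V ⟶ T) (κ : Loc A a g), Vert A V := fun g κ =>
    (A.torsor hA κ (k (z g κ))).exists.choose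
  have hu' : ∀ {V : C} (g : V ⟶ T) (κ : Loc A a g), (u g κ).1 ≫ (k (z g κ)).1 = κ.1 := fun g κ =>
    (A.torsor hA κ (k (z g κ))).exists.choose_spec
  refine ⟨⟨T, a, b, ha, hb, fun {V} g κ => ⟨(M.θ V (u g κ)).1 ≫ m (z g κ), ?_⟩, fun {W V} r g κ => ?_,
    fun {V} g t κ => ?_⟩, rfl⟩
  · have := (M.θ V (u g κ)).2
    have : 𝒴.p.IsHomLift g (m (z g κ)) := hm (z g κ)
    exact IsHomLift.comp_lift_id_left' 𝒴.p V _ g _
  · let φ : z (r ≫ g) (A.res r κ) ⟶ z g κ := ObjectProperty.homMk (Over.homMk r rfl)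
    change (M.θ W _).1 ≫ m (z (r ≫ g) (A.res r κ)) = B.map r ≫ (M.θ V _).1 ≫ m (z g κ)
    obtain ⟨v, hv⟩ := A.exists_res hA r (u g κ)
    have e : A.comp (u (r ≫ g) (A.res r κ)) (s φ) = v := by
      refine (A.torsor hA (A.res r κ) (A.res r (k (z g κ)))).unique ?_ ?_
      · exact (Category.assoc _ _ _).trans
          ((congrArg ((u (r ≫ g) (A.res r κ)).1 ≫ ·) (hs φ)).trans (hu' _ _))
      · exact ((Category.assoc _ _ _).symm.trans (congrArg (· ≫ (k (z g κ)).1) hv)).trans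
          ((Category.assoc _ _ _).trans (congrArg (A.map r ≫ ·) (hu' g κ)))
    rw [← hm' φ, ← reassoc_of% M.natural r v (u g κ) hv, ← e, M.map_comp]
    exact (congrArg ((M.θ W _).1 ≫ ·) (Category.assoc _ _ _)).trans (Category.assoc _ _ _).symm
  · have e : A.comp t (u g κ) = u g (A.act t κ) := (A.torsor hA (A.act t κ) (k (z g κ))).unique
      ((Category.assoc _ _ _).trans (congrArg (t.1 ≫ ·) (hu' g κ))) (hu' g (A.act t κ))
    change (M.θ V _).1 ≫ m (z g κ) = _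
    rw [← e, M.map_comp]
    exact Category.assoc _ _ _

theorem isEquivOver_fst : _root_.FibCat.IsEquivOver (fst (M := M)) :=
  (isEquivOver_iff _).2 ⟨full_fst hst hst' hloc, faithful_fst hst hst' hloc, fun a => by
    obtain ⟨X, hX⟩ := exists_obj hst hst' hloc (M := M) a rfl
    subst hX
    exact ⟨X, Iso.refl _, IsHomLift.id rfl⟩⟩

theorem faithful_snd : (snd (M := M)).toFunctor.Faithful where
  map_injective {X Y} := fun (f g : LkHom X Y) (e : f.β = g.β) => by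
    have h : f.base = g.base := by
      have hf := f.hβ
      have hg := g.hβ
      rw [IsHomLift.fac 𝒴.p f.base f.β, IsHomLift.fac 𝒴.p g.base g.β]
      exact congrArg (fun t => eqToHom X.hb.symm ≫ 𝒴.p.map t ≫ eqToHom Y.hb) e
    refine LkHom.ext' h (hom_eq_of_local hst A X.ha f.base _ (hloc _ _ X.ha) (fun _ hq => hq) _ _ f.hα
      (h ▸ g.hα) fun {V} q _ μ => ?_) e
    obtain ⟨ν, hν⟩ := A.loc_ext (congrArg (q ≫ ·) h.symm) (A.push μ g.α g.hα)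
    have : A.push μ f.α f.hα = ν := Y.Φ_injective hst.1 hst'.1 _ (Subtype.ext (by
      rw [f.compat, ← Y.Φ_congr (congrArg (q ≫ ·) h.symm) (A.push μ g.α g.hα) ν hν, g.compat, e]))
    exact (congrArg Subtype.val this).trans hν

variable {M' : AutMatch B A} (hM : ∀ V, M'.θ V = (M.θ V).symm)
include hM

/-- A linked pair with the two objects interchanged. -/
noncomputable def Lk.swap (X : Lk M) : Lk M' where
  T := X.T
  a := X.b
  b := X.a
  ha := X.hb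
  hb := X.ha
  Φ g := (Equiv.ofBijective (X.Φ g) (X.Φ_bijective hst hst' hloc g)).symm
  nat r g μ := by
    suffices e : (Equiv.ofBijective (X.Φ (r ≫ g)) (X.Φ_bijective hst hst' hloc _)).symm (B.res r μ) =
        A.res r ((Equiv.ofBijective (X.Φ g) (X.Φ_bijective hst hst' hloc g)).symm μ) from congrArg Subtype.val e
    rw [Equiv.symm_apply_eq]
    refine Subtype.ext ?_
    simp only [Equiv.ofBijective_apply]
    rw [X.nat, Equiv.ofBijective_apply_symm_apply (X.Φ g)]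
    rfl
  eqv g t μ := by
    suffices e : (Equiv.ofBijective (X.Φ g) (X.Φ_bijective hst hst' hloc _)).symm (B.act t μ) =
        A.act (M'.θ _ t) ((Equiv.ofBijective (X.Φ g) (X.Φ_bijective hst hst' hloc g)).symm μ) from
      congrArg Subtype.val e
    rw [Equiv.symm_apply_eq]
    refine Subtype.ext ?_
    simp only [Equiv.ofBijective_apply]
    rw [X.eqv, Equiv.ofBijective_apply_symm_apply (X.Φ g), hM, Equiv.apply_symm_apply]
    rfl

variable (hloc' : ∀ (b : 𝒴.obj) (T : C), 𝒴.p.obj b = T → trivSieve B b T ∈ J T)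
include hloc'

theorem isEquivOver_snd : _root_.FibCat.IsEquivOver (snd (M := M)) := by
  have hM' : ∀ V, M.θ V = (M'.θ V).symm := fun V => by rw [hM, Equiv.symm_symm]
  refine (isEquivOver_iff _).2 ⟨⟨fun {X Y} β => ?_⟩, faithful_snd hst hst' hloc, fun b => ?_⟩
  · let h : X.T ⟶ Y.T := eqToHom X.hb.symm ≫ 𝒴.p.map β ≫ eqToHom Y.hb
    have hβ : 𝒴.p.IsHomLift h β := IsHomLift.of_fac 𝒴.p _ _ X.hb Y.hb rfl
    obtain ⟨f, hf, hf'⟩ := exists_hom hst' hst hloc' (X := Lk.swap hst hst' hloc hM X)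
      (Y := Lk.swap hst hst' hloc hM Y) h β hβ
    have hα : 𝒳.p.IsHomLift h f.β := hf ▸ f.hβ
    refine ⟨⟨h, f.β, β, hα, hβ, fun {V} g κ => ?_⟩, rfl⟩
    have c := f.compat g (X.Φ g κ)
    change ((Equiv.ofBijective _ (Y.Φ_bijective hst hst' hloc _)).symm (B.push (X.Φ g κ) f.α f.hα)).1 =
      ((Equiv.ofBijective _ (X.Φ_bijective hst hst' hloc g)).symm (X.Φ g κ)).1 ≫ f.β at c
    rw [Equiv.ofBijective_symm_apply_apply] at c
    have e := congrArg Subtype.val (Equiv.ofBijective_apply_symm_apply (Y.Φ (g ≫ f.base))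
      (Y.Φ_bijective hst hst' hloc _) (B.push (X.Φ g κ) f.α f.hα))
    rw [Y.Φ_congr (congrArg (g ≫ ·) hf) _ (A.push κ f.β hα) c.symm] at e
    exact e.trans (congrArg ((X.Φ g κ).1 ≫ ·) hf')
  · obtain ⟨X, hX⟩ := exists_obj hst' hst hloc' (M := M') b rfl
    subst hX
    exact ⟨Lk.swap hst' hst hloc' hM' X, Iso.refl _, IsHomLift.id rfl⟩

theorem exists_isEquivOver : ∃ e : 𝒳 ⥤ᵇ 𝒴, _root_.FibCat.IsEquivOver e := by
  obtain ⟨G, hG, -, -⟩ := IsEquivOver.symm (isEquivOver_fst hst hst' hloc (M := M))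
  exact ⟨BasedFunctor.comp G snd, IsEquivOver.comp hG (isEquivOver_snd hst hst' hloc hM hloc')⟩

omit hst hst' hloc hM hloc'

/-- Stacks locally isomorphic to chosen objects with matching automorphism groups are equivalent. -/
theorem exists_isEquivOver_of_autMatch (hst : _root_.Stk.IsStack J 𝒳) (hst' : _root_.Stk.IsStack J 𝒴)
    (hloc : ∀ (a : 𝒳.obj) (T : C), 𝒳.p.obj a = T → trivSieve A a T ∈ J T)
    (hloc' : ∀ (b : 𝒴.obj) (T : C), 𝒴.p.obj b = T → trivSieve B b T ∈ J T) (M : AutMatch A B) :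
    ∃ e : 𝒳 ⥤ᵇ 𝒴, _root_.FibCat.IsEquivOver e :=
  exists_isEquivOver (M' := M.symm hst.1 hst'.1) hst hst' hloc (fun _ => rfl) hloc'

end GrothLib.Stk.Neutral
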