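import Groth.Agent.Lib.Stk.Gerbe

/-!
# Gerbes and automorphism groups
-/

set_option backward.isDefEq.respectTransparency false
set_option backward.isDefEq.respectTransparency.types false
set_option autoImplicit false

universe v₃ u₃ v₂ u₂ v u

open CategoryTheory CategoryTheory.Functor

namespace GrothLib.Stk.GerbeAut

open GrothLib.FibCat GrothLib.Stk GrothLib.Stk.Gerbe

variable {C : Type u} [Category.{v} C] {J : GrothendieckTopology C}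
variable {𝒳 : BasedCategory.{v₂, u₂} C} {𝒴 : BasedCategory.{v₃, u₃} C}

/-- A vertical isomorphism as an automorphism over the identity. -/
def autOfIso {x : 𝒳.obj} (e : x ≅ x) (he : 𝒳.p.IsHomLift (𝟙 (𝒳.p.obj x)) e.hom) : Gerb.AutO x where
  hom := ⟨e.hom, he⟩
  inv := ⟨e.inv, isHomLift_id_inv 𝒳.p (R := 𝒳.p.obj x) e⟩
  hom_inv_id := Subtype.ext e.hom_inv_id
  inv_hom_id := Subtype.ext e.inv_hom_id

/-- In a gerbe two objects over one object of the base are locally connected. -/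
theorem exists_local_connected (h : Gerb.LocSurjHom J (_root_.FibCat.toSelf 𝒳)) {x x' : 𝒳.obj} {U : C}
    (hx : 𝒳.p.obj x = U) (hx' : 𝒳.p.obj x' = U) :
    ∃ R ∈ J U, ∀ ⦃V : C⦄ (f : V ⟶ U), R f →
      ∃ (x₀ : 𝒳.obj) (φ : x₀ ⟶ x) (ψ : x₀ ⟶ x'), 𝒳.p.IsHomLift f φ ∧ 𝒳.p.IsHomLift f ψ := by
  obtain ⟨R, hR, hl⟩ := exists_local_hom (F := _root_.FibCat.toSelf 𝒳) h hx (eqToHom (hx.trans hx'.symm))
    (IsHomLift.of_fac (𝟭 C) _ _ hx hx' (by simp))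
  refine ⟨R, hR, fun V f hf => ?_⟩
  obtain ⟨x₀, φ, ψ, h₁, h₂, -⟩ := hl f hf
  exact ⟨x₀, φ, ψ, h₁, h₂⟩

theorem map_eq_map {a b : 𝒳.obj} {U V : C} (g : U ⟶ V) (φ ψ : a ⟶ b) [𝒳.p.IsHomLift g φ] [𝒳.p.IsHomLift g ψ] :
    𝒳.p.map φ = 𝒳.p.map ψ := by
  rw [IsHomLift.fac' 𝒳.p g φ, IsHomLift.fac' 𝒳.p g ψ]

section Faithful

variable (φ : 𝒳 ⥤ᵇ 𝒴)
  (H : ∀ x : 𝒳.obj, ∃ R ∈ J (𝒳.p.obj x), ∀ ⦃V : C⦄ (f : V ⟶ 𝒳.p.obj x), R f →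
    ∃ (x₁ : 𝒳.obj) (κ : x₁ ⟶ x), 𝒳.p.IsHomLift f κ ∧ Function.Bijective (_root_.Gerb.autMap φ x₁))

include H

theorem faithful_of_autMap (h𝒳 : _root_.Stk.IsStack J 𝒳) (h𝒴 : _root_.FibCat.IsFibGrpd 𝒴.p) :
    φ.toFunctor.Faithful := by
  refine ⟨fun {x x'} {ψ₁ ψ₂} e => ?_⟩
  change φ.map ψ₁ = φ.map ψ₂ at e
  obtain ⟨R, hR, hl⟩ := H x
  have : (_root_.Stk.resSieve R 𝒳).IsEquivalence := h𝒳.2 R hR
  refine Descent.hom_ext h𝒳.1 (R := R) inferInstance ψ₁ ψ₂ (Relative.map_eq_of_map_eq φ e) fun {a} κ hκ => ?_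
  obtain ⟨x₁, κ₁, hκ₁, hb⟩ := hl (𝒳.p.map κ) hκ
  obtain ⟨θ, hθ, eθ⟩ := IsFibGrpd.exists_iso_of_lifts h𝒳.1 (𝒳.p.map κ) κ₁ κ
  have hp : 𝒳.p.map ψ₁ = 𝒳.p.map ψ₂ := Relative.map_eq_of_map_eq φ e
  have : 𝒳.p.IsHomLift (𝒳.p.map ψ₁) ψ₂ := hp ▸ IsHomLift.map 𝒳.p ψ₂
  have : 𝒳.p.IsHomLift (𝒳.p.map κ ≫ 𝒳.p.map ψ₁) (κ₁ ≫ ψ₁) := inferInstance
  have : 𝒳.p.IsHomLift (𝒳.p.map κ ≫ 𝒳.p.map ψ₁) (κ₁ ≫ ψ₂) := inferInstance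
  obtain ⟨β, hβ, eβ⟩ := IsFibGrpd.exists_iso_of_lifts h𝒳.1 (𝒳.p.map κ ≫ 𝒳.p.map ψ₁) (κ₁ ≫ ψ₂) (κ₁ ≫ ψ₁)
  have hx₁ : 𝒳.p.obj x₁ = 𝒳.p.obj a := IsHomLift.domain_eq 𝒳.p (𝒳.p.map κ) κ₁
  let A : Gerb.AutO x₁ := autOfIso β (by rw [hx₁]; exact hβ)
  have e1 : φ.map β.hom ≫ φ.map (κ₁ ≫ ψ₂) = 𝟙 _ ≫ φ.map (κ₁ ≫ ψ₂) := by
    rw [← φ.map_comp, eβ, φ.map_comp, φ.map_comp, e, Category.id_comp]
  have : 𝒴.p.IsHomLift (𝟙 (𝒳.p.obj a)) (φ.map β.hom) := inferInstance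
  have : 𝒴.p.IsHomLift (𝟙 (𝒳.p.obj a)) (𝟙 (φ.obj x₁)) := IsHomLift.id ((φ.w_obj x₁).trans hx₁)
  have e2 : φ.map β.hom = 𝟙 _ :=
    IsFibGrpd.hom_ext h𝒴 (𝟙 (𝒳.p.obj a)) (𝒳.p.map κ ≫ 𝒳.p.map ψ₁) (φ.map (κ₁ ≫ ψ₂)) e1
  have hA : A = 1 := hb.1 (by
    rw [map_one]
    exact CategoryTheory.Iso.ext (Subtype.ext e2))
  have : β.hom = 𝟙 x₁ := congrArg (fun (t : Gerb.AutO x₁) => t.hom.1) hA
  rw [← eθ, Category.assoc, Category.assoc, ← eβ, this, Category.id_comp]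

theorem full_of_autMap (h𝒳 : _root_.Gerb.IsGerbe J 𝒳) (h𝒴 : _root_.Stk.IsStack J 𝒴) : φ.toFunctor.Full := by
  have hfa := faithful_of_autMap φ H h𝒳.1 h𝒴.1
  refine ⟨fun {x x'} b => ?_⟩
  change φ.obj x ⟶ φ.obj x' at b
  let g : 𝒳.p.obj x ⟶ 𝒳.p.obj x' := eqToHom (φ.w_obj x).symm ≫ 𝒴.p.map b ≫ eqToHom (φ.w_obj x')
  have hbl : 𝒴.p.IsHomLift g b := IsHomLift.of_fac 𝒴.p g b (φ.w_obj x) (φ.w_obj x') rfl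
  let P : ∀ {V : C}, (V ⟶ 𝒳.p.obj x) → Prop := fun {V} f =>
    ∃ (a : 𝒳.obj) (κ : a ⟶ x) (n : a ⟶ x'), 𝒳.p.IsHomLift f κ ∧ φ.map n = φ.map κ ≫ b
  let R : Sieve (𝒳.p.obj x) :=
    { arrows := fun V f => P f
      downward_closed := fun {V W f} hf h => by
        obtain ⟨a, κ, n, hκ, en⟩ := hf
        obtain ⟨a', l, hl⟩ := IsFibGrpd.exists_lift_of_eq h𝒳.1.1 (IsHomLift.domain_eq 𝒳.p f κ) h
        exact ⟨a', l ≫ κ, l ≫ n, inferInstance, by rw [φ.map_comp, φ.map_comp, en, Category.assoc]⟩ }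
  have hR : R ∈ J (𝒳.p.obj x) := by
    obtain ⟨x'₁, lg, hlg⟩ := h𝒳.1.1.exists_lift (x := x') g
    obtain ⟨R₁, hR₁, hl₁⟩ := exists_local_connected h𝒳.2.2 (rfl : 𝒳.p.obj x = _) (IsHomLift.domain_eq 𝒳.p g lg)
    choose x₀ α α' hα hα' using hl₁
    have h2 : ∀ {V : C} (f : V ⟶ 𝒳.p.obj x) (hf : R₁ f), ∃ S ∈ J V, ∀ ⦃W : C⦄ (h : W ⟶ V), S h →
        ∃ (x₁ : 𝒳.obj) (κ : x₁ ⟶ x₀ f hf), 𝒳.p.IsHomLift h κ ∧ Function.Bijective (_root_.Gerb.autMap φ x₁) :=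
      fun f hf => by
        have key : ∀ {a : 𝒳.obj} {U : C}, 𝒳.p.obj a = U → ∃ S ∈ J U, ∀ ⦃W : C⦄ (h : W ⟶ U), S h →
            ∃ (x₁ : 𝒳.obj) (κ : x₁ ⟶ a), 𝒳.p.IsHomLift h κ ∧ Function.Bijective (_root_.Gerb.autMap φ x₁) :=
          fun {a U} hU => by subst hU; exact H a
        exact key (have := hα f hf; IsHomLift.domain_eq 𝒳.p f (α f hf))
    choose S hS hS' using @h2
    refine J.superset_covering ?_ (J.bind_covering hR₁ fun V f hf => hS f hf)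
    intro W q hq
    obtain ⟨V, h, f, hf, hh, rfl⟩ := hq
    obtain ⟨x₁, κ, hκ, hb⟩ := hS' f hf h hh
    have := hα f hf
    have := hα' f hf
    have hn : 𝒳.p.IsHomLift (h ≫ f ≫ g) (κ ≫ α' f hf ≫ lg) := inferInstance
    have : 𝒳.p.IsHomLift (h ≫ f) (κ ≫ α f hf) := inferInstance
    have : 𝒴.p.IsHomLift ((h ≫ f) ≫ g) (φ.map (κ ≫ α f hf) ≫ b) := inferInstance
    have : 𝒴.p.IsHomLift ((h ≫ f) ≫ g) (φ.map (κ ≫ α' f hf ≫ lg)) := by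
      rw [Category.assoc]; infer_instance
    obtain ⟨θ, hθ, eθ⟩ := IsFibGrpd.exists_iso_of_lifts h𝒴.1 ((h ≫ f) ≫ g) (φ.map (κ ≫ α' f hf ≫ lg))
      (φ.map (κ ≫ α f hf) ≫ b)
    have hx₁ : 𝒳.p.obj x₁ = W := IsHomLift.domain_eq 𝒳.p h κ
    obtain ⟨B, hB⟩ := hb.2 (autOfIso θ (by rw [φ.w_obj, hx₁]; exact hθ))
    have e3 : φ.map B.hom.1 = θ.hom := congrArg (fun (t : Gerb.AutO (φ.obj x₁)) => t.hom.1) hB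
    refine ⟨x₁, κ ≫ α f hf, B.hom.1 ≫ κ ≫ α' f hf ≫ lg, inferInstance, ?_⟩
    rw [φ.map_comp, e3, eθ]
  have hn : ∀ {a : 𝒳.obj} (κ : a ⟶ x), R (𝒳.p.map κ) → ∃ n : a ⟶ x', φ.map n = φ.map κ ≫ b := fun {a} κ hκ => by
    obtain ⟨a₀, κ₀, n₀, hκ₀, e₀⟩ := hκ
    obtain ⟨θ, -, eθ⟩ := IsFibGrpd.exists_iso_of_lifts h𝒳.1.1 (𝒳.p.map κ) κ₀ κ
    exact ⟨θ.hom ≫ n₀, by rw [φ.map_comp, e₀, ← eθ, φ.map_comp, Category.assoc]⟩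
  choose n hn using @hn
  have hpm : ∀ {a : 𝒳.obj} (κ : a ⟶ x) (m : a ⟶ x'), φ.map m = φ.map κ ≫ b → 𝒳.p.map m = 𝒳.p.map κ ≫ g :=
    fun {a} κ m e => by
      have e' := congrArg 𝒴.p.map e
      rw [𝒴.p.map_comp, Relative.map_map, Relative.map_map, IsHomLift.fac' 𝒴.p g b] at e'
      rw [← cancel_epi (eqToHom (φ.w_obj a)), ← cancel_mono (eqToHom (φ.w_obj x').symm)]
      simpa using e'
  let L : Descent.Local 𝒳.p x x' R g :=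
    { n := fun κ hκ => n κ hκ
      map_n := fun κ hκ => hpm κ _ (hn κ hκ)
      comp := fun l κ hκ h' => hfa.map_injective (by
        change φ.map (l ≫ n κ hκ) = φ.map (n (l ≫ κ) h')
        rw [hn, φ.map_comp, hn, φ.map_comp, Category.assoc]) }
  have : (_root_.Stk.resSieve R 𝒳).IsEquivalence := h𝒳.1.2 R hR
  obtain ⟨α, hα, hα'⟩ := Descent.exists_hom h𝒳.1.1 (R := R) inferInstance L
  have hR' : R.pullback (eqToHom (φ.w_obj x)) ∈ J (𝒴.p.obj (φ.obj x)) := J.pullback_stable _ hR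
  have : (_root_.Stk.resSieve (R.pullback (eqToHom (φ.w_obj x))) 𝒴).IsEquivalence := h𝒴.2 _ hR'
  refine ⟨α, Descent.hom_ext h𝒴.1 (R := R.pullback (eqToHom (φ.w_obj x))) inferInstance _ b ?_ fun {v} f hf => ?_⟩
  · rw [Relative.map_map, hα]
    simp [g]
  · obtain ⟨a, κ, hκ⟩ := h𝒳.1.1.exists_lift (x := x) (𝒴.p.map f ≫ eqToHom (φ.w_obj x))
    have : 𝒴.p.IsHomLift (𝒴.p.map f ≫ eqToHom (φ.w_obj x)) f := IsHomLift.of_fac 𝒴.p _ _ rfl (φ.w_obj x) (by simp)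
    obtain ⟨θ, -, eθ⟩ := IsFibGrpd.exists_iso_of_lifts h𝒴.1 (𝒴.p.map f ≫ eqToHom (φ.w_obj x)) (φ.map κ) f
    have hmem : R (𝒳.p.map κ) :=
      Descent.mem_of_isHomLift 𝒳.p R (f := 𝒴.p.map f ≫ eqToHom (φ.w_obj x)) κ hf
    change f ≫ φ.map α = f ≫ b
    rw [← eθ, Category.assoc, Category.assoc, ← φ.map_comp, hα' κ hmem]
    exact congrArg (θ.hom ≫ ·) (hn κ hmem)

omit H in
/-- Objects of a gerbe are locally in the image of any functor from a gerbe. -/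
theorem locSurjObj_of_isGerbe (h𝒳 : _root_.Gerb.IsGerbe J 𝒳) (h𝒴 : _root_.Gerb.IsGerbe J 𝒴) :
    _root_.Gerb.LocSurjObj J φ := by
  intro y
  obtain ⟨R, hR, hl⟩ := h𝒳.2.1 (𝒴.p.obj y)
  choose x gx hgx using hl
  have hx : ∀ {V : C} (f : V ⟶ 𝒴.p.obj y) (hf : R f), 𝒳.p.obj (x f hf) = V := fun f hf =>
    have := hgx f hf; IsHomLift.domain_eq (_root_.FibCat.selfOver C).p f (gx f hf)
  have hy : ∀ {V : C} (f : V ⟶ 𝒴.p.obj y), ∃ (y₁ : 𝒴.obj) (κ : y₁ ⟶ y), 𝒴.p.IsHomLift f κ :=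
    fun f => h𝒴.1.1.exists_lift f
  choose y₁ κ hκ using @hy
  have h2 : ∀ {V : C} (f : V ⟶ 𝒴.p.obj y) (hf : R f), ∃ S ∈ J V, ∀ ⦃W : C⦄ (h : W ⟶ V), S h →
      ∃ (y₀ : 𝒴.obj) (a : y₀ ⟶ φ.obj (x f hf)) (b : y₀ ⟶ y₁ f), 𝒴.p.IsHomLift h a ∧ 𝒴.p.IsHomLift h b :=
    fun f hf => exists_local_connected h𝒴.2.2 ((φ.w_obj _).trans (hx f hf))
      (have := hκ f; IsHomLift.domain_eq 𝒴.p f (κ f))
  choose S hS hS' using @h2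
  refine ⟨Sieve.bind (X := 𝒴.p.obj y) R.arrows fun V f hf => S f hf,
    J.bind_covering hR fun V f hf => hS f hf, fun W q hq => ?_⟩
  obtain ⟨V, h, f, hf, hh, rfl⟩ := hq
  obtain ⟨y₀, a, b, ha, hb⟩ := hS' f hf h hh
  obtain ⟨x₀, l, hl⟩ := IsFibGrpd.exists_lift_of_eq h𝒳.1.1 (hx f hf) h
  obtain ⟨θ, hθ, -⟩ := IsFibGrpd.exists_iso_of_lifts h𝒴.1.1 h a (φ.map l)
  have := hκ f
  exact ⟨x₀, θ.hom ≫ b ≫ κ f, IsHomLift.comp_lift_id_left' 𝒴.p W θ.hom _ _⟩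

end Faithful

section FibrewiseIso

variable (φ : 𝒳 ⥤ᵇ 𝒳)

theorem existsUnique_conj (h : _root_.FibCat.IsFibGrpd 𝒳.p) {x x' : 𝒳.obj} (g : φ.obj x ⟶ x)
    (hg : 𝒳.p.IsHomLift (𝟙 (𝒳.p.obj x)) g) (c : x' ⟶ x) :
    ∃! g' : φ.obj x' ⟶ x', 𝒳.p.IsHomLift (𝟙 (𝒳.p.obj x')) g' ∧ g' ≫ c = φ.map c ≫ g := by
  have : 𝒳.p.IsHomLift (𝒳.p.map c) c := IsHomLift.map 𝒳.p c
  have : 𝒳.p.IsHomLift (𝒳.p.map c) (φ.map c ≫ g) :=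
    IsHomLift.comp_lift_id_right' 𝒳.p _ (φ.map c) (𝒳.p.obj x) g
  have : 𝒳.p.IsHomLift (𝟙 (𝒳.p.obj x') ≫ 𝒳.p.map c) (φ.map c ≫ g) := by rw [Category.id_comp]; infer_instance
  exact IsFibGrpd.existsUnique_lift h (𝒳.p.map c) (𝟙 _) c (φ.map c ≫ g)

/-- An endofunctor of a gerbe inducing the identity on automorphisms of a global object is naturally isomorphic
to the identity. -/
theorem exists_natural_iso (h𝒳 : _root_.Gerb.IsGerbe J 𝒳) (x : 𝒳.obj) (hx : Limits.IsTerminal (𝒳.p.obj x))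
    (g : φ.obj x ⟶ x) (hg : 𝒳.p.IsHomLift (𝟙 (𝒳.p.obj x)) g)
    (hconj : ∀ (x' : 𝒳.obj) (c : x' ⟶ x) (g' : φ.obj x' ⟶ x'), 𝒳.p.IsHomLift (𝟙 (𝒳.p.obj x')) g' →
      φ.map c ≫ g = g' ≫ c → ∀ α : Gerb.AutO x', φ.map α.hom.1 ≫ g' = g' ≫ α.hom.1) :
    ∃ ρ : ∀ y : 𝒳.obj, φ.obj y ⟶ y,
      (∀ y, IsIso (ρ y) ∧ 𝒳.p.IsHomLift (𝟙 (𝒳.p.obj y)) (ρ y)) ∧
      (∀ (y y' : 𝒳.obj) (f : y ⟶ y'), φ.map f ≫ ρ y' = ρ y ≫ f) := by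
  have h := h𝒳.1.1
  choose G hG hGu using fun {x' : 𝒳.obj} (c : x' ⟶ x) => existsUnique_conj φ h g hg c
  have hGr : ∀ {a b : 𝒳.obj} (m : a ⟶ b) (c : b ⟶ x), φ.map m ≫ G c = G (m ≫ c) ≫ m := fun {a b} m c => by
    have := (hG c).1
    have := (hG (m ≫ c)).1
    have : 𝒳.p.IsHomLift (𝒳.p.map m) (φ.map m ≫ G c) :=
      IsHomLift.comp_lift_id_right' 𝒳.p _ (φ.map m) (𝒳.p.obj b) _
    have : 𝒳.p.IsHomLift (𝒳.p.map m) (G (m ≫ c) ≫ m) :=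
      IsHomLift.comp_lift_id_left' 𝒳.p (𝒳.p.obj a) _ (𝒳.p.map m) m
    apply IsFibGrpd.hom_ext h (𝒳.p.map m) (𝒳.p.map c) c
    rw [Category.assoc, (hG c).2, Category.assoc, (hG (m ≫ c)).2, φ.map_comp, Category.assoc]
  have hGc : ∀ {a : 𝒳.obj} (c c' : a ⟶ x), 𝒳.p.map c = 𝒳.p.map c' → G c = G c' := fun {a} c c' hcc => by
    have := (hG c).1
    have : 𝒳.p.IsHomLift (𝒳.p.map c) c' := hcc ▸ IsHomLift.map 𝒳.p c'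
    have : 𝒳.p.IsHomLift (𝒳.p.map c) c := IsHomLift.map 𝒳.p c
    obtain ⟨α, hα, eα⟩ := IsFibGrpd.exists_iso_of_lifts h (𝒳.p.map c) c c'
    refine (hGu c' (G c) ⟨(hG c).1, ?_⟩)
    have h0 : φ.map α.hom ≫ G c = G c ≫ α.hom := hconj a c (G c) (hG c).1 (hG c).2.symm (autOfIso α hα)
    rw [← eα, φ.map_comp, Category.assoc, ← (hG c).2, reassoc_of% h0]
  have hcov : ∀ y : 𝒳.obj, ∃ R ∈ J (𝒳.p.obj y), ∀ ⦃V : C⦄ (f : V ⟶ 𝒳.p.obj y), R f →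
      ∃ (x' : 𝒳.obj) (_ : x' ⟶ x) (l : x' ⟶ y), 𝒳.p.IsHomLift f l := fun y => by
    let u : 𝒳.p.obj y ⟶ 𝒳.p.obj x := hx.from _
    obtain ⟨x₁, κ, hκ⟩ := h.exists_lift (x := x) u
    obtain ⟨R, hR, hl⟩ := exists_local_connected h𝒳.2.2 (IsHomLift.domain_eq 𝒳.p u κ) (rfl : 𝒳.p.obj y = _)
    refine ⟨R, hR, fun V f hf => ?_⟩
    obtain ⟨x₀, a, b, -, hb⟩ := hl f hf
    exact ⟨x₀, a ≫ κ, b, hb⟩
  have main : ∀ y : 𝒳.obj, ∃ ρ : φ.obj y ⟶ y, 𝒳.p.IsHomLift (𝟙 (𝒳.p.obj y)) ρ ∧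
      ∀ (x' : 𝒳.obj) (c : x' ⟶ x) (l : x' ⟶ y), φ.map l ≫ ρ = G c ≫ l := fun y => by
    obtain ⟨R, hR, hl⟩ := hcov y
    have hwd : ∀ {a : 𝒳.obj} (κ : a ⟶ φ.obj y), R.pullback (eqToHom (φ.w_obj y)) (𝒳.p.map κ) →
        ∃ n : a ⟶ y, ∀ (x' : 𝒳.obj) (c : x' ⟶ x) (l : x' ⟶ y) (t : a ⟶ φ.obj x'), t ≫ φ.map l = κ →
          t ≫ G c ≫ l = n := fun {a} κ hκ => by
      obtain ⟨x₀, c₀, l₀, hl₀⟩ := hl _ hκ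
      have : 𝒳.p.IsHomLift (𝒳.p.map κ ≫ eqToHom (φ.w_obj y)) κ :=
        IsHomLift.of_fac 𝒳.p _ _ rfl (φ.w_obj y) (by simp)
      obtain ⟨θ, hθ, eθ⟩ := IsFibGrpd.exists_iso_of_lifts h (𝒳.p.map κ ≫ eqToHom (φ.w_obj y)) (φ.map l₀) κ
      refine ⟨θ.hom ≫ G c₀ ≫ l₀, fun x' c l t e => ?_⟩
      obtain ⟨x₁, l₁, hl₁⟩ := h.exists_lift (x := x') (𝒳.p.map t ≫ eqToHom (φ.w_obj x'))
      have : 𝒳.p.IsHomLift (𝒳.p.map t ≫ eqToHom (φ.w_obj x')) t :=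
        IsHomLift.of_fac 𝒳.p _ _ rfl (φ.w_obj x') (by simp)
      obtain ⟨θ₁, hθ₁, eθ₁⟩ := IsFibGrpd.exists_iso_of_lifts h (𝒳.p.map t ≫ eqToHom (φ.w_obj x')) (φ.map l₁) t
      have hb : (𝒳.p.map t ≫ eqToHom (φ.w_obj x')) ≫ 𝒳.p.map l = 𝒳.p.map κ ≫ eqToHom (φ.w_obj y) := by
        rw [← e, 𝒳.p.map_comp, Relative.map_map φ l]
        simp
      have : 𝒳.p.IsHomLift (𝒳.p.map κ ≫ eqToHom (φ.w_obj y)) (l₁ ≫ l) := by rw [← hb]; infer_instance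
      obtain ⟨μ, hμ, eμ⟩ := IsFibGrpd.exists_iso_of_lifts h (𝒳.p.map κ ≫ eqToHom (φ.w_obj y)) l₀ (l₁ ≫ l)
      have hθ₂ : θ₁.hom ≫ φ.map μ.hom = θ.hom := by
        have : 𝒳.p.IsHomLift (𝟙 (𝒳.p.obj a)) (θ₁.hom ≫ φ.map μ.hom) :=
          IsHomLift.comp_lift_id_right' 𝒳.p _ θ₁.hom (𝒳.p.obj a) (φ.map μ.hom)
        refine IsFibGrpd.hom_ext h (𝟙 (𝒳.p.obj a)) (𝒳.p.map κ ≫ eqToHom (φ.w_obj y)) (φ.map l₀) ?_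
        rw [Category.assoc, ← φ.map_comp, eμ, φ.map_comp, reassoc_of% eθ₁, e, eθ]
      rw [← eθ₁, ← hθ₂, Category.assoc, Category.assoc, reassoc_of% (hGr l₁ c), reassoc_of% (hGr μ.hom c₀), eμ,
        hGc (l₁ ≫ c) (μ.hom ≫ c₀) (hx.hom_ext _ _)]
    choose n hn using @hwd
    let L : Descent.Local 𝒳.p (φ.obj y) y (R.pullback (eqToHom (φ.w_obj y))) (eqToHom (φ.w_obj y)) :=
      { n := fun κ hκ => n κ hκ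
        map_n := fun {a} κ hκ => by
          obtain ⟨x₀, c₀, l₀, hl₀⟩ := hl _ hκ
          have : 𝒳.p.IsHomLift (𝒳.p.map κ ≫ eqToHom (φ.w_obj y)) κ :=
            IsHomLift.of_fac 𝒳.p _ _ rfl (φ.w_obj y) (by simp)
          obtain ⟨θ, hθ, eθ⟩ := IsFibGrpd.exists_iso_of_lifts h (𝒳.p.map κ ≫ eqToHom (φ.w_obj y)) (φ.map l₀) κ
          rw [← hn κ hκ x₀ c₀ l₀ θ.hom eθ]
          have hx₀ : 𝒳.p.obj x₀ = 𝒳.p.obj a := IsHomLift.domain_eq 𝒳.p (𝒳.p.map κ ≫ eqToHom (φ.w_obj y)) l₀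
          have : 𝒳.p.IsHomLift (𝟙 (𝒳.p.obj a)) (G c₀) := hx₀ ▸ (hG c₀).1
          have : 𝒳.p.IsHomLift (𝒳.p.map κ ≫ eqToHom (φ.w_obj y)) (G c₀ ≫ l₀) :=
            IsHomLift.comp_lift_id_left' 𝒳.p (𝒳.p.obj a) _ _ l₀
          have : 𝒳.p.IsHomLift (𝒳.p.map κ ≫ eqToHom (φ.w_obj y)) (θ.hom ≫ G c₀ ≫ l₀) :=
            IsHomLift.comp_lift_id_left' 𝒳.p (𝒳.p.obj a) _ _ _
          exact (IsHomLift.eq_of_isHomLift 𝒳.p _ _).symm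
        comp := fun {a' a} l κ hκ h' => by
          obtain ⟨x₀, c₀, l₀, hl₀⟩ := hl _ hκ
          have : 𝒳.p.IsHomLift (𝒳.p.map κ ≫ eqToHom (φ.w_obj y)) κ :=
            IsHomLift.of_fac 𝒳.p _ _ rfl (φ.w_obj y) (by simp)
          obtain ⟨θ, hθ, eθ⟩ := IsFibGrpd.exists_iso_of_lifts h (𝒳.p.map κ ≫ eqToHom (φ.w_obj y)) (φ.map l₀) κ
          rw [← hn κ hκ x₀ c₀ l₀ θ.hom eθ, ← hn (l ≫ κ) h' x₀ c₀ l₀ (l ≫ θ.hom) (by rw [Category.assoc, eθ]),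
            Category.assoc] }
    have : (_root_.Stk.resSieve (R.pullback (eqToHom (φ.w_obj y))) 𝒳).IsEquivalence :=
      h𝒳.1.2 _ (J.pullback_stable _ hR)
    obtain ⟨ρ, hρ, hρ'⟩ := Descent.exists_hom h (R := R.pullback (eqToHom (φ.w_obj y))) inferInstance L
    have hρl : 𝒳.p.IsHomLift (𝟙 (𝒳.p.obj y)) ρ :=
      IsHomLift.of_fac' 𝒳.p _ _ (φ.w_obj y) rfl (by rw [hρ]; simp)
    refine ⟨ρ, hρl, fun x' c l => ?_⟩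
    have hS : (R.pullback (eqToHom (φ.w_obj y))).pullback (𝒳.p.map (φ.map l)) ∈ J (𝒳.p.obj (φ.obj x')) :=
      J.pullback_stable _ (J.pullback_stable _ hR)
    have : (_root_.Stk.resSieve ((R.pullback (eqToHom (φ.w_obj y))).pullback (𝒳.p.map (φ.map l))) 𝒳).IsEquivalence :=
      h𝒳.1.2 _ hS
    have := (hG c).1
    have : 𝒳.p.IsHomLift (𝒳.p.map l) (φ.map l ≫ ρ) :=
      IsHomLift.comp_lift_id_right' 𝒳.p _ (φ.map l) (𝒳.p.obj y) ρ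
    have : 𝒳.p.IsHomLift (𝒳.p.map l) (G c ≫ l) :=
      IsHomLift.comp_lift_id_left' 𝒳.p (𝒳.p.obj x') _ (𝒳.p.map l) l
    refine Descent.hom_ext h (R := (R.pullback (eqToHom (φ.w_obj y))).pullback (𝒳.p.map (φ.map l))) inferInstance
      _ _ (map_eq_map (𝒳.p.map l) _ _) fun {a} κ hκ => ?_
    have hκ' : R.pullback (eqToHom (φ.w_obj y)) (𝒳.p.map (κ ≫ φ.map l)) := by rw [𝒳.p.map_comp]; exact hκ
    rw [← Category.assoc, hρ' (κ ≫ φ.map l) hκ']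
    exact (hn (κ ≫ φ.map l) hκ' x' c l κ rfl).symm
  choose ρ hρ hρw using main
  refine ⟨ρ, fun y => ⟨have := hρ y; IsFibGrpd.isIso_of_isHomLift_id h (R := 𝒳.p.obj y) (ρ y), hρ y⟩,
    fun y y' f => ?_⟩
  obtain ⟨R, hR, hl⟩ := hcov y
  have : (_root_.Stk.resSieve (R.pullback (eqToHom (φ.w_obj y))) 𝒳).IsEquivalence :=
    h𝒳.1.2 _ (J.pullback_stable _ hR)
  have := hρ y
  have := hρ y'
  have : 𝒳.p.IsHomLift (𝒳.p.map f) (φ.map f ≫ ρ y') :=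
    IsHomLift.comp_lift_id_right' 𝒳.p _ (φ.map f) (𝒳.p.obj y') _
  have : 𝒳.p.IsHomLift (𝒳.p.map f) (ρ y ≫ f) :=
    IsHomLift.comp_lift_id_left' 𝒳.p (𝒳.p.obj y) _ (𝒳.p.map f) f
  refine Descent.hom_ext h (R := R.pullback (eqToHom (φ.w_obj y))) inferInstance _ _
    (map_eq_map (𝒳.p.map f) _ _) fun {a} κ hκ => ?_
  obtain ⟨x₀, c₀, l₀, hl₀⟩ := hl _ hκ
  have : 𝒳.p.IsHomLift (𝒳.p.map κ ≫ eqToHom (φ.w_obj y)) κ :=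
    IsHomLift.of_fac 𝒳.p _ _ rfl (φ.w_obj y) (by simp)
  obtain ⟨θ, -, eθ⟩ := IsFibGrpd.exists_iso_of_lifts h (𝒳.p.map κ ≫ eqToHom (φ.w_obj y)) (φ.map l₀) κ
  rw [← eθ, Category.assoc, Category.assoc, ← φ.map_comp_assoc, hρw y' x₀ c₀ (l₀ ≫ f), reassoc_of% (hρw y x₀ c₀ l₀)]

end FibrewiseIso

end GrothLib.Stk.GerbeAut
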