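import Groth.Prelude.Def_StGerb2
import Groth.Agent.Lib.FibCat.Basic

/-!
# The presheaf of isomorphism classes of a gerbe over a presheaf
-/

set_option backward.isDefEq.respectTransparency false
set_option backward.isDefEq.respectTransparency.types false
set_option autoImplicit false

universe w v₂ u₂ v u

open CategoryTheory Opposite CategoryTheory.Functor

namespace GrothLib.Stk.IsoCl

variable {C : Type u} [Category.{v} C] {P : Cᵒᵖ ⥤ Type u₂}
variable {𝒳 : BasedCategory.{v₂, u₂} C} (π : 𝒳 ⥤ᵇ _root_.Stk.ofPsh P)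

omit π in
theorem map_map {A B D : C} (f : A ⟶ B) (g : B ⟶ D) (t : P.obj (op D)) :
    P.map f.op (P.map g.op t) = P.map (f ≫ g).op t := by
  rw [op_comp, Functor.map_comp_apply]

omit π in
theorem map_congr {A B : C} {f g : A ⟶ B} (h : f = g) (t : P.obj (op B)) : P.map f.op t = P.map g.op t := by rw [h]

/-- The section attached to an object over `U`. -/
def sx {U : C} (a : 𝒳.p.Fiber U) : P.obj (op U) :=
  P.map (eqToHom ((π.w_obj a.1).trans a.2).symm).op (π.obj a.1).sec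

theorem sec_eq {U : C} (a : 𝒳.p.Fiber U) :
    (π.obj a.1).sec = P.map (eqToHom ((π.w_obj a.1).trans a.2)).op (sx π a) := by
  simp only [sx, ← Functor.map_comp_apply, ← op_comp, eqToHom_trans, eqToHom_refl, op_id, Functor.map_id_apply]

theorem sx_map {U V : C} (g : V ⟶ U) {b : 𝒳.p.Fiber U} {a : 𝒳.p.Fiber V} (φ : a.1 ⟶ b.1)
    (h : 𝒳.p.map φ = eqToHom a.2 ≫ g ≫ eqToHom b.2.symm) : P.map g.op (sx π b) = sx π a := by
  have e : (π.map φ).hom = eqToHom (π.w_obj a.1) ≫ 𝒳.p.map φ ≫ eqToHom (π.w_obj b.1).symm := Functor.congr_hom π.w φ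
  rw [h] at e
  conv_rhs => rw [sx, ← (π.map φ).map_sec, e]
  rw [sx]
  refine (map_map _ _ _).trans ((map_congr ?_ _).trans (map_map _ _ _).symm)
  simp

variable [_root_.FibCat.IsFibGrpd 𝒳.p]

/-- The map on classes of objects. -/
noncomputable def toPsh : Gerb.isoClPsh 𝒳 ⟶ P where
  app U := ↾Quot.lift (fun a : 𝒳.p.Fiber U.unop => sx π a) fun a b ⟨φ⟩ => by
    have hφ : 𝒳.p.IsHomLift (𝟙 U.unop) φ.1 := φ.2
    have := sx_map π (𝟙 U.unop) φ.1 (IsHomLift.fac' 𝒳.p (𝟙 U.unop) φ.1)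
    exact this.symm.trans (by simp)
  naturality {U V} f := by
    ext a
    obtain ⟨a⟩ := a
    exact (sx_map π f.unop (Gerb.pullHom 𝒳 a.1 (f.unop ≫ eqToHom a.2.symm))
      (a := Gerb.pullFib 𝒳 f.unop a) (Gerb.pullHom_map 𝒳 _ _)).symm

theorem toPsh_app {U : C} (a : 𝒳.p.Fiber U) : (toPsh π).app (op U) (Quot.mk _ a) = sx π a := rfl

variable {J : GrothendieckTopology C} (hπ : Gerb.IsGerbeOver J π)
include hπ

theorem isLocallySurjective : Presheaf.IsLocallySurjective J (toPsh π) where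
  imageSieve_mem {U} s := by
    obtain ⟨R, hR, hx⟩ := hπ.1 ⟨U, s⟩
    refine J.superset_covering ?_ hR
    intro V f hf
    obtain ⟨x, g, hg⟩ := hx f hf
    let g' : π.obj x ⟶ (⟨U, s⟩ : _root_.Stk.EltObj P) := g
    have hl : (_root_.Stk.EltObj.forget P).IsHomLift f g' := hg
    have hxV : 𝒳.p.obj x = V := (π.w_obj x).symm.trans (IsHomLift.domain_eq (_root_.Stk.EltObj.forget P) f g')
    refine ⟨Quot.mk _ (⟨x, hxV⟩ : 𝒳.p.Fiber V), ?_⟩
    have hh : g'.hom = eqToHom ((π.w_obj x).trans hxV) ≫ f := by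
      have := IsHomLift.fac' (_root_.Stk.EltObj.forget P) f g'
      simpa using this
    rw [toPsh_app, sx]
    change P.map _ (π.obj x).sec = P.map f.op s
    rw [← g'.map_sec, hh, ← Functor.map_comp_apply, ← op_comp]
    simp

theorem isLocallyInjective : Presheaf.IsLocallyInjective J (toPsh π) where
  equalizerSieve_mem {U} x y h := by
    obtain ⟨U⟩ := U
    obtain ⟨a⟩ := x
    obtain ⟨b⟩ := y
    have hab : sx π a = sx π b := h
    let B : π.obj a.1 ⟶ π.obj b.1 :=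
      ⟨eqToHom ((π.w_obj a.1).trans (a.2.trans ((π.w_obj b.1).trans b.2).symm)), by
        rw [sec_eq π a, sec_eq π b, hab]
        exact (map_map _ _ _).trans (map_congr (eqToHom_trans _ _) _)⟩
    have hB : (_root_.Stk.ofPsh P).p.IsHomLift (𝟙 (𝒳.p.obj a.1)) B :=
      IsHomLift.of_fac' _ _ _ (π.w_obj a.1) ((π.w_obj b.1).trans (b.2.trans a.2.symm))
        (by simp [B])
    obtain ⟨R, hR, hloc⟩ := hπ.2 a.1 b.1 B hB
    refine J.superset_covering (fun V f hf => ?_) (J.pullback_stable (eqToHom a.2.symm) hR)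
    obtain ⟨x₀, φ, ψ, hφ, hψ, -⟩ := hloc (f ≫ eqToHom a.2.symm) hf
    have hψ' : 𝒳.p.IsHomLift (f ≫ eqToHom b.2.symm) ψ :=
      IsHomLift.of_fac' 𝒳.p _ _ (IsHomLift.domain_eq 𝒳.p (f ≫ eqToHom a.2.symm) ψ) rfl (by
        rw [IsHomLift.fac' 𝒳.p (f ≫ eqToHom a.2.symm) ψ]; simp)
    obtain ⟨χa, hχa, -⟩ := Gerb.exists_hom_pull 𝒳 a.1 (f ≫ eqToHom a.2.symm) φ hφ
    obtain ⟨χb, hχb, -⟩ := Gerb.exists_hom_pull 𝒳 b.1 (f ≫ eqToHom b.2.symm) ψ hψ'
    let x₀' : 𝒳.p.Fiber V := ⟨x₀, IsHomLift.domain_eq 𝒳.p (f ≫ eqToHom a.2.symm) φ⟩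
    have ea : Quot.mk (Gerb.IsoRel 𝒳 V) x₀' = Quot.mk _ (Gerb.pullFib 𝒳 f a) := Quot.sound ⟨⟨χa, hχa⟩⟩
    have eb : Quot.mk (Gerb.IsoRel 𝒳 V) x₀' = Quot.mk _ (Gerb.pullFib 𝒳 f b) := Quot.sound ⟨⟨χb, hχb⟩⟩
    exact ea.symm.trans eb

end GrothLib.Stk.IsoCl
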