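import Groth.Agent.Lib.Stk.Psh
import Mathlib.CategoryTheory.Yoneda

/-!
# The slice as the category of a representable presheaf
-/

set_option backward.isDefEq.respectTransparency false
set_option backward.isDefEq.respectTransparency.types false

universe v u

open CategoryTheory CategoryTheory.Functor Opposite

namespace GrothLib.Stk

open GrothLib.FibCat

variable {C : Type u} [Category.{v} C]

/-- The category of `h_U` to the slice over `U`. -/
def yonToOverCat (U : C) : _root_.Stk.ofPsh (yoneda.obj U) ⥤ᵇ _root_.FibCat.overCat U where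
  toFunctor :=
    { obj := fun a => Over.mk a.sec
      map := fun {a b} f => Over.homMk f.hom f.map_sec }
  w := rfl

/-- The slice over `U` to the category of `h_U`. -/
def overCatToYon (U : C) : _root_.FibCat.overCat U ⥤ᵇ _root_.Stk.ofPsh (yoneda.obj U) where
  toFunctor :=
    { obj := fun g => ⟨g.left, g.hom⟩
      map := fun {g h} φ => ⟨φ.left, Over.w φ⟩ }
  w := rfl

theorem isEquivOver_yonToOverCat (U : C) : _root_.FibCat.IsEquivOver (yonToOverCat U) := by
  refine ⟨overCatToYon U, ⟨natIsoOfComponents (fun a => Iso.refl a) (fun a => IsHomLift.id rfl) ?_⟩,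
    ⟨natIsoOfComponents (fun a => Iso.refl a) (fun a => IsHomLift.id rfl) ?_⟩⟩ <;>
  · intro a b f
    exact (Category.comp_id _).trans (Category.id_comp _).symm

theorem isStack_overCat_iff (J : GrothendieckTopology C) (U : C) :
    _root_.Stk.IsStack J (_root_.FibCat.overCat U) ↔ Presieve.IsSheaf J (yoneda.obj U) :=
  (isStack_iff_of_isEquivOver J _ (isEquivOver_yonToOverCat U)).symm.trans (isStack_ofPsh_iff J)

end GrothLib.Stk
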