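import Groth.Agent.Lib.Stk.Descent
import Mathlib.CategoryTheory.Limits.Shapes.Pullback.Categorical.Basic
import Mathlib.CategoryTheory.Limits.Shapes.Pullback.IsPullback.Basic
import Mathlib.CategoryTheory.Limits.Preserves.Shapes.Pullbacks
import Mathlib.CategoryTheory.Sites.CoverPreserving

/-!
# Pullback of stacks along a functor of sites
-/

set_option backward.isDefEq.respectTransparency false
set_option backward.isDefEq.respectTransparency.types false
set_option linter.unusedSectionVars false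
set_option autoImplicit false

universe v₃ u₃ v₂ u₂ v u

open CategoryTheory CategoryTheory.Functor CategoryTheory.Limits

namespace GrothLib.Stk.Pullback

open GrothLib.FibCat GrothLib.Stk GrothLib.Stk.Descent

variable {C : Type u} [Category.{v} C] {D : Type u₂} [Category.{v₂} D] (u : C ⥤ D)
  {𝒮 : BasedCategory.{v₃, u₃} D} (h𝒮 : _root_.FibCat.IsFibGrpd 𝒮.p)

/-- The pullback of `𝒮` along `u`, as a category over `C`. -/
abbrev pb (𝒮 : BasedCategory.{v₃, u₃} D) : BasedCategory C :=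
  BasedCategory.ofFunctor (CategoricalPullback.π₁ u 𝒮.p)

variable {u}

/-- The image downstairs of an arrow into the second component. -/
abbrev down (z : CategoricalPullback u 𝒮.p) {t : 𝒮.obj} (κ : t ⟶ z.snd) : 𝒮.p.obj t ⟶ u.obj z.fst :=
  𝒮.p.map κ ≫ z.iso.inv

theorem down_comp {z w : CategoricalPullback u 𝒮.p} (φ : z ⟶ w) {t : 𝒮.obj} (κ : t ⟶ z.snd) :
    down w (κ ≫ φ.snd) = down z κ ≫ u.map φ.fst := by
  simp [down]

include h𝒮

/-- Arrows into the target factor through a morphism of the pullback, given a factorisation downstairs. -/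
theorem exists_factor {z w : CategoricalPullback u 𝒮.p} (φ : z ⟶ w) {t : 𝒮.obj} (κ' : t ⟶ w.snd)
    (h : 𝒮.p.obj t ⟶ u.obj z.fst) (e : h ≫ u.map φ.fst = down w κ') :
    ∃ κ : t ⟶ z.snd, down z κ = h ∧ κ ≫ φ.snd = κ' := by
  obtain ⟨κ, ⟨h1, h2⟩, -⟩ := IsFibGrpd.existsUnique_fac h𝒮 φ.snd κ' (h ≫ z.iso.hom) (by
    rw [Category.assoc, ← φ.w, ← Category.assoc, e]; simp [down])
  exact ⟨κ, by simp [down, h1], h2⟩

theorem factor_ext {z w : CategoricalPullback u 𝒮.p} (φ : z ⟶ w) {t : 𝒮.obj} {κ κ' : t ⟶ z.snd}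
    (h₀ : down z κ = down z κ') (h : κ ≫ φ.snd = κ' ≫ φ.snd) : κ = κ' :=
  IsFibGrpd.hom_ext' h𝒮 φ.snd ((cancel_mono z.iso.inv).1 h₀) h

/-- Lifts in the pullback, with first component on the nose. -/
theorem exists_over (a : CategoricalPullback u 𝒮.p) {V : C} (g : V ⟶ a.fst) :
    ∃ (t : 𝒮.obj) (β : u.obj V ≅ 𝒮.p.obj t) (κ : t ⟶ a.snd), u.map g ≫ a.iso.hom = β.hom ≫ 𝒮.p.map κ := by
  obtain ⟨t, κ, hκ⟩ := h𝒮.exists_lift (x := a.snd) (u.map g ≫ a.iso.hom)
  refine ⟨t, eqToIso (IsHomLift.domain_eq 𝒮.p (u.map g ≫ a.iso.hom) κ).symm, κ, ?_⟩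
  rw [IsHomLift.fac' 𝒮.p (u.map g ≫ a.iso.hom) κ]
  simp

theorem isFibGrpd_pb : _root_.FibCat.IsFibGrpd (pb u 𝒮).p where
  exists_lift := fun {a V} f => by
    obtain ⟨t, β, κ, e⟩ := exists_over h𝒮 a f
    let K : (⟨V, t, β⟩ : CategoricalPullback u 𝒮.p) ⟶ a := { fst := f, snd := κ, w := e }
    exact ⟨_, K, IsHomLift.map (pb u 𝒮).p K⟩
  isStronglyCartesian := fun {b a} φ => by
    have : (pb u 𝒮).p.IsHomLift ((pb u 𝒮).p.map φ) φ := IsHomLift.map _ _
    refine { universal_property' := fun {z} g ψ hψ => ?_ }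
    have hψ' : ψ.fst = g ≫ φ.fst := by
      have : (pb u 𝒮).p.IsHomLift (g ≫ (pb u 𝒮).p.map φ) ψ := hψ
      exact (IsHomLift.eq_of_isHomLift (pb u 𝒮).p (g ≫ (pb u 𝒮).p.map φ) ψ).symm
    obtain ⟨χ, ⟨h1, h2⟩, hu⟩ := IsFibGrpd.existsUnique_fac h𝒮 φ.snd ψ.snd (z.iso.inv ≫ u.map g ≫ b.iso.hom) (by
      rw [Category.assoc, Category.assoc, ← φ.w, ← u.map_comp_assoc, ← hψ', ψ.w, Iso.inv_hom_id_assoc])
    let X : z ⟶ b := { fst := g, snd := χ, w := by rw [h1]; simp }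
    refine ⟨X, ⟨IsHomLift.map (pb u 𝒮).p X, CategoricalPullback.hom_ext hψ'.symm h2⟩, fun χ' ⟨k1, k2⟩ => ?_⟩
    have e1 : χ'.fst = g := (IsHomLift.eq_of_isHomLift (pb u 𝒮).p g χ').symm
    refine CategoricalPullback.hom_ext e1 (hu _ ⟨?_, congrArg CategoricalPullback.Hom.snd k2⟩)
    rw [← e1, ← Category.assoc, ← CategoricalPullback.Hom.w', Category.assoc, Iso.inv_hom_id, Category.comp_id]

omit h𝒮

section Stack

variable [HasPullbacks C] [PreservesLimitsOfShape WalkingCospan u] {J : GrothendieckTopology C}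
  {K : GrothendieckTopology D} (hu : CoverPreserving J K u)

section Relation

variable {U : C} {R : Sieve U} (c : _root_.Stk.sieveCat R ⥤ᵇ pb u 𝒮)

/-- The image downstairs, in terms of the sieve. -/
def dn (f : (_root_.Stk.sieveCat R).obj) {t : 𝒮.obj} (κ : t ⟶ (c.obj f).snd) : 𝒮.p.obj t ⟶ u.obj f.obj.left :=
  down (c.obj f) κ ≫ u.map (eqToHom (c.w_obj f))

theorem map_fst {f f' : (_root_.Stk.sieveCat R).obj} (φ : f ⟶ f') :
    (c.map φ).fst = eqToHom (c.w_obj f) ≫ φ.hom.left ≫ eqToHom (c.w_obj f').symm :=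
  Functor.congr_hom c.w φ

theorem dn_comp {f f' : (_root_.Stk.sieveCat R).obj} (φ : f ⟶ f') {t : 𝒮.obj} (κ : t ⟶ (c.obj f).snd) :
    dn c f' (κ ≫ (c.map φ).snd) = dn c f κ ≫ u.map φ.hom.left := by
  rw [dn, dn, down_comp, map_fst c φ]
  simp [eqToHom_map]

theorem dn_pre {f : (_root_.Stk.sieveCat R).obj} {t t' : 𝒮.obj} (l : t' ⟶ t) (κ : t ⟶ (c.obj f).snd) :
    dn c f (l ≫ κ) = 𝒮.p.map l ≫ dn c f κ := by
  simp [dn, down]

include h𝒮

theorem exists_dn_factor {f f' : (_root_.Stk.sieveCat R).obj} (φ : f ⟶ f') {t : 𝒮.obj}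
    (κ' : t ⟶ (c.obj f').snd) (h : 𝒮.p.obj t ⟶ u.obj f.obj.left) (e : h ≫ u.map φ.hom.left = dn c f' κ') :
    ∃ κ : t ⟶ (c.obj f).snd, dn c f κ = h ∧ κ ≫ (c.map φ).snd = κ' := by
  obtain ⟨κ, h1, h2⟩ := exists_factor h𝒮 (c.map φ) κ' (h ≫ u.map (eqToHom (c.w_obj f).symm)) (by
    rw [map_fst c φ]
    simp only [Functor.map_comp, Category.assoc, eqToHom_map, eqToHom_trans_assoc, eqToHom_refl, Category.id_comp]
    rw [reassoc_of% e, dn, Category.assoc, eqToHom_map, eqToHom_trans, eqToHom_refl, Category.comp_id])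
  exact ⟨κ, by rw [dn, h1, Category.assoc, ← u.map_comp, eqToHom_trans, eqToHom_refl, u.map_id, Category.comp_id], h2⟩

theorem dn_ext {f f' : (_root_.Stk.sieveCat R).obj} (φ : f ⟶ f') {t : 𝒮.obj} {κ κ' : t ⟶ (c.obj f).snd}
    (h₀ : dn c f κ = dn c f κ') (h : κ ≫ (c.map φ).snd = κ' ≫ (c.map φ).snd) : κ = κ' := by
  refine factor_ext h𝒮 (c.map φ) ?_ h
  rwa [dn, dn, cancel_mono] at h₀

omit h𝒮

/-- Two arrows are related when they come from one arrow through the sieve. -/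
def Rel {t : 𝒮.obj} {f f' : (_root_.Stk.sieveCat R).obj} (κ : t ⟶ (c.obj f).snd) (κ' : t ⟶ (c.obj f').snd) : Prop :=
  ∃ (z : (_root_.Stk.sieveCat R).obj) (a : z ⟶ f) (b : z ⟶ f') (m : t ⟶ (c.obj z).snd),
    m ≫ (c.map a).snd = κ ∧ m ≫ (c.map b).snd = κ'

theorem Rel.of_map {t : 𝒮.obj} {f f' : (_root_.Stk.sieveCat R).obj} (φ : f ⟶ f') (κ : t ⟶ (c.obj f).snd) :
    Rel c κ (κ ≫ (c.map φ).snd) :=
  ⟨f, 𝟙 f, φ, κ, by rw [c.map_id]; exact Category.comp_id κ, rfl⟩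

theorem Rel.refl {t : 𝒮.obj} {f : (_root_.Stk.sieveCat R).obj} (κ : t ⟶ (c.obj f).snd) : Rel c κ κ :=
  ⟨f, 𝟙 f, 𝟙 f, κ, by rw [c.map_id]; exact Category.comp_id κ, by rw [c.map_id]; exact Category.comp_id κ⟩

theorem Rel.symm {t : 𝒮.obj} {f f' : (_root_.Stk.sieveCat R).obj} {κ : t ⟶ (c.obj f).snd} {κ' : t ⟶ (c.obj f').snd} :
    Rel c κ κ' → Rel c κ' κ := fun ⟨z, a, b, m, h, h'⟩ => ⟨z, b, a, m, h', h⟩

theorem Rel.pre {t t' : 𝒮.obj} {f f' : (_root_.Stk.sieveCat R).obj} {κ : t ⟶ (c.obj f).snd}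
    {κ' : t ⟶ (c.obj f').snd} (l : t' ⟶ t) : Rel c κ κ' → Rel c (l ≫ κ) (l ≫ κ') :=
  fun ⟨z, a, b, m, h, h'⟩ => ⟨z, a, b, l ≫ m, by rw [Category.assoc, h], by rw [Category.assoc, h']⟩

include h𝒮

theorem Rel.trans {t : 𝒮.obj} {f f' f'' : (_root_.Stk.sieveCat R).obj} {κ : t ⟶ (c.obj f).snd}
    {κ' : t ⟶ (c.obj f').snd} {κ'' : t ⟶ (c.obj f'').snd} (H : Rel c κ κ') (H' : Rel c κ' κ'') : Rel c κ κ'' := by
  obtain ⟨z, a, b, m, ha, hb⟩ := H
  obtain ⟨z', a', b', m', ha', hb'⟩ := H'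
  let W := pullback b.hom.left a'.hom.left
  let w : (_root_.Stk.sieveCat R).obj := arrowObj (pullback.fst b.hom.left a'.hom.left ≫ z.obj.hom)
    (R.downward_closed z.property _)
  let p₁ : w ⟶ z := ObjectProperty.homMk (Over.homMk (pullback.fst b.hom.left a'.hom.left) rfl)
  let p₂ : w ⟶ z' := ObjectProperty.homMk (Over.homMk (pullback.snd b.hom.left a'.hom.left) (by
    change _ = pullback.fst b.hom.left a'.hom.left ≫ z.obj.hom
    rw [← Over.w b.hom, ← Over.w a'.hom, pullback.condition_assoc]))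
  have hP := (IsPullback.of_hasPullback b.hom.left a'.hom.left).map u
  have e : dn c z m ≫ u.map b.hom.left = dn c z' m' ≫ u.map a'.hom.left := by
    rw [← dn_comp, ← dn_comp, hb, ha']
  obtain ⟨M, hM, hM₁⟩ := exists_dn_factor h𝒮 c p₁ m (hP.lift (dn c z m) (dn c z' m') e) (hP.lift_fst _ _ _)
  refine ⟨w, p₁ ≫ a, p₂ ≫ b', M, ?_, ?_⟩
  · rw [c.map_comp, CategoricalPullback.comp_snd, reassoc_of% hM₁, ha]
  · have h2 : M ≫ (c.map p₂).snd = m' := by
      refine dn_ext h𝒮 c a' (by rw [dn_comp, hM]; exact hP.lift_snd _ _ _) ?_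
      have hpp : p₂ ≫ a' = p₁ ≫ b :=
        ObjectProperty.hom_ext _ (Over.OverMorphism.ext pullback.condition.symm)
      rw [Category.assoc, ← CategoricalPullback.comp_snd, ← c.map_comp, hpp, c.map_comp,
        CategoricalPullback.comp_snd, reassoc_of% hM₁, hb, ha']
    rw [c.map_comp, CategoricalPullback.comp_snd, reassoc_of% h2, hb']

theorem Rel.unique {t : 𝒮.obj} {f f' : (_root_.Stk.sieveCat R).obj} {κ : t ⟶ (c.obj f).snd}
    {κ₁ κ₂ : t ⟶ (c.obj f').snd} (H₁ : Rel c κ κ₁) (H₂ : Rel c κ κ₂) (e : dn c f' κ₁ = dn c f' κ₂) : κ₁ = κ₂ := by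
  obtain ⟨z, a, b, m, ha, hb⟩ := Rel.trans h𝒮 c (Rel.symm c H₁) H₂
  let d : f'.obj.left ⟶ pullback f'.obj.hom f'.obj.hom := pullback.lift (𝟙 _) (𝟙 _) rfl
  let ab : z.obj.left ⟶ pullback f'.obj.hom f'.obj.hom :=
    pullback.lift a.hom.left b.hom.left ((Over.w a.hom).trans (Over.w b.hom).symm)
  let ε := pullback.fst ab d
  have hε₁ : ε ≫ a.hom.left = pullback.snd ab d := by
    have := congrArg (· ≫ pullback.fst f'.obj.hom f'.obj.hom) (pullback.condition (f := ab) (g := d))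
    simpa [ab, d] using this
  have hε₂ : ε ≫ b.hom.left = pullback.snd ab d := by
    have := congrArg (· ≫ pullback.snd f'.obj.hom f'.obj.hom) (pullback.condition (f := ab) (g := d))
    simpa [ab, d] using this
  let w : (_root_.Stk.sieveCat R).obj := arrowObj (ε ≫ z.obj.hom) (R.downward_closed z.property _)
  let p₁ : w ⟶ z := ObjectProperty.homMk (Over.homMk ε rfl)
  have hP := (IsPullback.of_hasPullback ab d).map u
  have he : dn c z m ≫ u.map ab = dn c f' κ₁ ≫ u.map d := by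
    apply ((IsPullback.of_hasPullback f'.obj.hom f'.obj.hom).map u).hom_ext
    · simp only [Category.assoc, ← u.map_comp, ab, d, pullback.lift_fst, u.map_id, Category.comp_id]
      rw [← dn_comp, ha]
    · simp only [Category.assoc, ← u.map_comp, ab, d, pullback.lift_snd, u.map_id, Category.comp_id]
      rw [← dn_comp, hb, e]
  obtain ⟨M, -, hM₁⟩ := exists_dn_factor h𝒮 c p₁ m (hP.lift _ _ he) (hP.lift_fst _ _ _)
  have hpp : p₁ ≫ a = p₁ ≫ b := ObjectProperty.hom_ext _ (Over.OverMorphism.ext (hε₁.trans hε₂.symm))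
  rw [← ha, ← hb, ← hM₁, Category.assoc, Category.assoc, ← CategoricalPullback.comp_snd,
    ← CategoricalPullback.comp_snd, ← c.map_comp, ← c.map_comp, hpp]

theorem exists_rel {t : 𝒮.obj} {f f' : (_root_.Stk.sieveCat R).obj} (κ : t ⟶ (c.obj f).snd)
    (h' : 𝒮.p.obj t ⟶ u.obj f'.obj.left) (e : dn c f κ ≫ u.map f.obj.hom = h' ≫ u.map f'.obj.hom) :
    ∃ κ' : t ⟶ (c.obj f').snd, dn c f' κ' = h' ∧ Rel c κ κ' := by
  let w : (_root_.Stk.sieveCat R).obj := arrowObj (pullback.fst f.obj.hom f'.obj.hom ≫ f.obj.hom)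
    (R.downward_closed f.property _)
  let p₁ : w ⟶ f := ObjectProperty.homMk (Over.homMk (pullback.fst f.obj.hom f'.obj.hom) rfl)
  let p₂ : w ⟶ f' := ObjectProperty.homMk (Over.homMk (pullback.snd f.obj.hom f'.obj.hom) pullback.condition.symm)
  have hP := (IsPullback.of_hasPullback f.obj.hom f'.obj.hom).map u
  obtain ⟨M, hM, hM₁⟩ := exists_dn_factor h𝒮 c p₁ κ (hP.lift _ _ e) (hP.lift_fst _ _ _)
  exact ⟨M ≫ (c.map p₂).snd, by rw [dn_comp, hM]; exact hP.lift_snd _ _ _, w, p₁, p₂, M, hM₁, rfl⟩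

end Relation

include h𝒮 hu

theorem isStack_pb (hS : _root_.Stk.IsStack K 𝒮) : _root_.Stk.IsStack J (pb u 𝒮) := by
  refine ⟨isFibGrpd_pb h𝒮, fun U R hR => ?_⟩
  have hcov : ∀ {a : CategoricalPullback u 𝒮.p} (ha : a.fst = U),
      ((R.pullback (eqToHom ha)).functorPushforward u).pullback a.iso.inv ∈ K (𝒮.p.obj a.snd) :=
    fun ha => K.pullback_stable _ (hu.cover_preserve (J.pullback_stable _ hR))
  refine isStackFor_of_glue (isFibGrpd_pb h𝒮) (fun {a b} ha _ φ ψ e H => ?_) (fun {a b} ha hb L => ?_) (fun c => ?_)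
  · change φ.fst = ψ.fst at e
    have : (_root_.Stk.resSieve (((R.pullback (eqToHom (ha : a.fst = U))).functorPushforward u).pullback a.iso.inv)
      𝒮).IsEquivalence := hS.2 _ (hcov ha)
    refine CategoricalPullback.hom_ext e (Descent.hom_ext h𝒮
      (R := ((R.pullback (eqToHom (ha : a.fst = U))).functorPushforward u).pullback a.iso.inv) inferInstance
      φ.snd ψ.snd ?_ fun {t} κ hκ => ?_)
    · rw [← cancel_epi a.iso.hom, ← φ.w, ← ψ.w, e]
    obtain ⟨V, g, h, hg, hgh⟩ := hκ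
    obtain ⟨t₀, β, κ₀, e₀⟩ := exists_over h𝒮 a g
    let z : CategoricalPullback u 𝒮.p := ⟨V, t₀, β⟩
    let M : z ⟶ a := { fst := g, snd := κ₀, w := e₀ }
    obtain ⟨l, -, hl⟩ := exists_factor h𝒮 M κ h hgh.symm
    have := congrArg CategoricalPullback.Hom.snd (H M hg)
    rw [← hl, Category.assoc, Category.assoc]
    exact congrArg (l ≫ ·) this
  · have hab : a.fst = b.fst := (ha : a.fst = U).trans (hb : b.fst = U).symm
    let R₀ := R.pullback (eqToHom (ha : a.fst = U))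
    let S := (R₀.functorPushforward u).pullback a.iso.inv
    let χ : 𝒮.p.obj a.snd ⟶ 𝒮.p.obj b.snd := a.iso.inv ≫ u.map (eqToHom hab) ≫ b.iso.hom
    have hn : ∀ {t : 𝒮.obj} (κ : t ⟶ a.snd), S (𝒮.p.map κ) → ∃ n : t ⟶ b.snd,
        ∀ (z : CategoricalPullback u 𝒮.p) (M : z ⟶ a) (hM : R₀ M.fst) (l : t ⟶ z.snd), l ≫ M.snd = κ →
          l ≫ (L.n M hM).snd = n := fun {t} κ hκ => by
      obtain ⟨V, g, h, hg, hgh⟩ := hκ
      obtain ⟨t₀, β, κ₀, e₀⟩ := exists_over h𝒮 a g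
      let z₀ : CategoricalPullback u 𝒮.p := ⟨V, t₀, β⟩
      let M₀ : z₀ ⟶ a := { fst := g, snd := κ₀, w := e₀ }
      obtain ⟨l₀, -, hl₀⟩ := exists_factor h𝒮 M₀ κ h hgh.symm
      refine ⟨l₀ ≫ (L.n M₀ hg).snd, fun z M hM l hl => ?_⟩
      obtain ⟨t', β', κ', e'⟩ := exists_over h𝒮 a (pullback.fst M.fst M₀.fst ≫ M.fst)
      let w : CategoricalPullback u 𝒮.p := ⟨pullback M.fst M₀.fst, t', β'⟩
      let Mw : w ⟶ a := { fst := pullback.fst M.fst M₀.fst ≫ M.fst, snd := κ', w := e' }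
      obtain ⟨k₁, hk₁, hk₁'⟩ := exists_factor h𝒮 M κ' (β'.inv ≫ u.map (pullback.fst M.fst M₀.fst)) (by
        rw [Category.assoc, ← u.map_comp, down, ← cancel_mono a.iso.hom, Category.assoc, e']; simp)
      obtain ⟨k₂, hk₂, hk₂'⟩ := exists_factor h𝒮 M₀ κ' (β'.inv ≫ u.map (pullback.snd M.fst M₀.fst)) (by
        rw [Category.assoc, ← u.map_comp, ← pullback.condition, down, ← cancel_mono a.iso.hom, Category.assoc, e']
        simp)
      let P₁ : w ⟶ z :=
        { fst := pullback.fst M.fst M₀.fst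
          snd := k₁
          w := by
            rw [← cancel_mono z.iso.inv, Category.assoc, Category.assoc]
            change _ = β'.hom ≫ down z k₁
            rw [hk₁]
            simp [w] }
      let P₂ : w ⟶ z₀ :=
        { fst := pullback.snd M.fst M₀.fst
          snd := k₂
          w := by
            rw [← cancel_mono z₀.iso.inv, Category.assoc, Category.assoc]
            change _ = β'.hom ≫ down z₀ k₂
            rw [hk₂]
            simp [w, M₀, z₀] }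
      have hP := (IsPullback.of_hasPullback M.fst M₀.fst).map u
      have e1 : down z l ≫ u.map M.fst = down a κ := by rw [← down_comp M l, hl]
      have e2 : down z₀ l₀ ≫ u.map M₀.fst = down a κ := by rw [← down_comp M₀ l₀, hl₀]
      obtain ⟨m, hm, hm'⟩ := exists_factor h𝒮 Mw κ (hP.lift _ _ (e1.trans e2.symm)) (by
        change hP.lift _ _ _ ≫ u.map (pullback.fst M.fst M₀.fst ≫ M.fst) = _
        rw [u.map_comp, hP.lift_fst_assoc, e1])
      have h₁ : m ≫ k₁ = l := factor_ext h𝒮 M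
        (by rw [show k₁ = P₁.snd from rfl, down_comp P₁ m, hm]; exact hP.lift_fst _ _ _)
        (by rw [Category.assoc, hk₁', hl]; exact hm')
      have h₂ : m ≫ k₂ = l₀ := factor_ext h𝒮 M₀
        (by rw [show k₂ = P₂.snd from rfl, down_comp P₂ m, hm]; exact hP.lift_snd _ _ _)
        (by rw [Category.assoc, hk₂', hl₀]; exact hm')
      have hw : R₀ Mw.fst := R₀.downward_closed hM _
      have c₁ : P₁ ≫ M = Mw := CategoricalPullback.hom_ext rfl hk₁'
      have c₂ : P₂ ≫ M₀ = Mw := CategoricalPullback.hom_ext pullback.condition.symm hk₂'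
      have d₁ : P₁ ≫ L.n M hM = L.n Mw hw :=
        (L.comp P₁ M hM (by rw [c₁]; exact hw)).trans (L.congr _ c₁ _ _)
      have d₂ : P₂ ≫ L.n M₀ hg = L.n Mw hw :=
        (L.comp P₂ M₀ hg (by rw [c₂]; exact hw)).trans (L.congr _ c₂ _ _)
      rw [← h₁, ← h₂, Category.assoc, Category.assoc]
      exact congrArg (m ≫ ·) (congrArg CategoricalPullback.Hom.snd (d₁.trans d₂.symm))
    choose n hn using @hn
    let L' : Local 𝒮.p a.snd b.snd S χ :=
      { n := fun κ hκ => n κ hκ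
        map_n := fun {t} κ hκ => by
          obtain ⟨V, g, h, hg, hgh⟩ := id hκ
          obtain ⟨t₀, β, κ₀, e₀⟩ := exists_over h𝒮 a g
          let z₀ : CategoricalPullback u 𝒮.p := ⟨V, t₀, β⟩
          let M₀ : z₀ ⟶ a := { fst := g, snd := κ₀, w := e₀ }
          obtain ⟨l₀, -, hl₀⟩ := exists_factor h𝒮 M₀ κ h hgh.symm
          rw [← hn κ hκ z₀ M₀ hg l₀ hl₀, ← hl₀]
          have hN : (L.n M₀ hg).fst = g ≫ eqToHom hab := L.map_n M₀ hg
          rw [← cancel_mono b.iso.inv]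
          change down b (l₀ ≫ (L.n M₀ hg).snd) = _
          rw [down_comp, hN]
          simp only [χ, Category.assoc, Iso.hom_inv_id, Category.comp_id, Functor.map_comp]
          have e₀' : β.inv ≫ u.map g = 𝒮.p.map κ₀ ≫ a.iso.inv := by
            rw [Iso.inv_comp_eq, ← Category.assoc, Iso.eq_comp_inv]
            exact e₀
          simp [down, M₀, z₀, reassoc_of% e₀']
        comp := fun {t' t} l κ hκ h' => by
          obtain ⟨V, g, h, hg, hgh⟩ := id hκ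
          obtain ⟨t₀, β, κ₀, e₀⟩ := exists_over h𝒮 a g
          let z₀ : CategoricalPullback u 𝒮.p := ⟨V, t₀, β⟩
          let M₀ : z₀ ⟶ a := { fst := g, snd := κ₀, w := e₀ }
          obtain ⟨l₀, -, hl₀⟩ := exists_factor h𝒮 M₀ κ h hgh.symm
          rw [← hn κ hκ z₀ M₀ hg l₀ hl₀, ← hn (l ≫ κ) h' z₀ M₀ hg (l ≫ l₀) (by rw [Category.assoc, hl₀]),
            Category.assoc] }
    have : (_root_.Stk.resSieve S 𝒮).IsEquivalence := hS.2 _ (hcov ha)
    obtain ⟨α, hα, hα'⟩ := exists_hom h𝒮 (R := S) inferInstance L'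
    let A : a ⟶ b := { fst := eqToHom hab, snd := α, w := by rw [hα]; simp [χ] }
    refine ⟨A, rfl, fun {z} M hM => CategoricalPullback.hom_ext (L.map_n M hM).symm ?_⟩
    have hS' : S (𝒮.p.map M.snd) := ⟨z.fst, M.fst, z.iso.inv, hM, M.w'⟩
    exact (hα' M.snd hS').trans ((hn M.snd hS' z M hM (𝟙 _) (Category.id_comp _)).symm.trans (Category.id_comp _))
  · let S : Sieve (u.obj U) := R.functorPushforward u
    have hSK : S ∈ K (u.obj U) := hu.cover_preserve hR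
    have hch : ∀ g : (_root_.Stk.sieveCat S).obj, ∃ (f : (_root_.Stk.sieveCat R).obj) (t : 𝒮.obj)
        (e : t ⟶ (c.obj f).snd) (ht : 𝒮.p.obj t = g.obj.left),
          dn c f e ≫ u.map f.obj.hom = eqToHom ht ≫ g.obj.hom := fun g => by
      obtain ⟨V, f₀, h₀, hf₀, hgh⟩ := g.property
      let f : (_root_.Stk.sieveCat R).obj := arrowObj f₀ hf₀
      let ρ : g.obj.left ⟶ 𝒮.p.obj (c.obj f).snd :=
        h₀ ≫ u.map (eqToHom (c.w_obj f).symm) ≫ (c.obj f).iso.hom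
      obtain ⟨t, e, he⟩ := h𝒮.exists_lift (x := (c.obj f).snd) ρ
      refine ⟨f, t, e, IsHomLift.domain_eq 𝒮.p ρ e, ?_⟩
      rw [hgh, dn, down, IsHomLift.fac' 𝒮.p ρ e]
      simp [ρ, f, eqToHom_map]
    choose F₁ t e ht he using hch
    have hd : ∀ {g g' : (_root_.Stk.sieveCat S).obj} (ψ : g ⟶ g'), ∃! d : t g ⟶ t g',
        𝒮.p.map d = eqToHom (ht g) ≫ ψ.hom.left ≫ eqToHom (ht g').symm ∧ Rel c (e g) (d ≫ e g') :=
      fun {g g'} ψ => by
        obtain ⟨κ', hκ', hrel⟩ := exists_rel h𝒮 c (e g)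
          ((eqToHom (ht g) ≫ ψ.hom.left ≫ eqToHom (ht g').symm) ≫ dn c (F₁ g') (e g'))
          (by rw [he g, Category.assoc, he g']; simp [Over.w ψ.hom])
        obtain ⟨d, ⟨h1, h2⟩, -⟩ := IsFibGrpd.existsUnique_fac h𝒮 (e g') κ'
          (eqToHom (ht g) ≫ ψ.hom.left ≫ eqToHom (ht g').symm) (by
            simp only [dn, down] at hκ'
            simp only [← Category.assoc] at hκ'
            rw [cancel_mono, cancel_mono] at hκ'
            simp only [hκ', Category.assoc])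
        refine ⟨d, ⟨h1, by rw [h2]; exact hrel⟩, fun d' ⟨k1, k2⟩ => IsFibGrpd.hom_ext' h𝒮 (e g') (k1.trans h1.symm) ?_⟩
        exact (Rel.unique h𝒮 c k2 (h2 ▸ hrel) (by rw [dn_pre, dn_pre, k1, h1]))
    let d : ∀ {g g' : (_root_.Stk.sieveCat S).obj}, (g ⟶ g') → (t g ⟶ t g') := fun ψ => (hd ψ).exists.choose
    have hd' : ∀ {g g' : (_root_.Stk.sieveCat S).obj} (ψ : g ⟶ g'),
        𝒮.p.map (d ψ) = eqToHom (ht g) ≫ ψ.hom.left ≫ eqToHom (ht g').symm ∧ Rel c (e g) (d ψ ≫ e g') :=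
      fun ψ => (hd ψ).exists.choose_spec
    let dF : (_root_.Stk.sieveCat S).obj ⥤ 𝒮.obj :=
      { obj := t
        map := d
        map_id := fun g => (hd (𝟙 g)).unique (hd' _)
          ⟨by rw [𝒮.p.map_id]; change 𝟙 _ = eqToHom (ht g) ≫ 𝟙 g.obj.left ≫ eqToHom (ht g).symm; simp, by rw [Category.id_comp]; exact Rel.refl c _⟩
        map_comp := fun {g g' g''} ψ ψ' => (hd (ψ ≫ ψ')).unique (hd' _)
          ⟨by
            rw [𝒮.p.map_comp, (hd' ψ).1, (hd' ψ').1]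
            change _ = eqToHom (ht g) ≫ (ψ.hom.left ≫ ψ'.hom.left) ≫ eqToHom (ht g'').symm
            simp,
           Rel.trans h𝒮 c (hd' ψ).2 (by rw [Category.assoc]; exact Rel.pre c (d ψ) (hd' ψ').2)⟩ }
    let dS : _root_.Stk.sieveCat S ⥤ᵇ 𝒮 :=
      { toFunctor := dF, w := CategoryTheory.Functor.ext ht fun g g' ψ => (hd' ψ).1 }
    have : (_root_.Stk.resSieve S 𝒮).IsEquivalence := hS.2 _ hSK
    obtain ⟨a, haU, m, hm, hmn⟩ := exists_cocone h𝒮 (R := S) inferInstance dS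
    let A : CategoricalPullback u 𝒮.p := ⟨U, a, eqToIso haU.symm⟩
    let γ : (_root_.Stk.sieveCat R).obj → (_root_.Stk.sieveCat S).obj := fun f =>
      arrowObj (R := S) (u.map f.obj.hom) (Sieve.image_mem_functorPushforward u R f.property)
    let ε : ∀ f : (_root_.Stk.sieveCat R).obj, u.obj (c.obj f).fst ≅ u.obj f.obj.left := fun f =>
      u.mapIso (eqToIso (c.w_obj f))
    have hlam : ∀ f : (_root_.Stk.sieveCat R).obj, ∃ lam : (c.obj f).snd ⟶ t (γ f),
        𝒮.p.map lam = dn c f (𝟙 _) ≫ eqToHom (ht (γ f)).symm ∧ Rel c (𝟙 (c.obj f).snd) (lam ≫ e (γ f)) := fun f => by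
      obtain ⟨κ', hκ', hrel⟩ := exists_rel h𝒮 c (𝟙 (c.obj f).snd)
        ((dn c f (𝟙 _) ≫ eqToHom (ht (γ f)).symm) ≫ dn c (F₁ (γ f)) (e (γ f)))
        (by rw [Category.assoc, he (γ f)]; simp [γ])
      obtain ⟨lam, ⟨h1, h2⟩, -⟩ := IsFibGrpd.existsUnique_fac h𝒮 (e (γ f)) κ'
        (dn c f (𝟙 _) ≫ eqToHom (ht (γ f)).symm) (by
          simp only [dn, down] at hκ' ⊢
          simp only [← Category.assoc] at hκ'
          rw [cancel_mono, cancel_mono] at hκ'
          simp only [hκ', Category.assoc])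
      exact ⟨lam, h1, by rw [h2]; exact hrel⟩
    choose lam hlam₁ hlam₂ using hlam
    have hmγ : ∀ f, 𝒮.p.map (m (γ f)) = eqToHom (ht (γ f)) ≫ u.map f.obj.hom ≫ eqToHom haU.symm := fun f => by
      have : 𝒮.p.IsHomLift (u.map f.obj.hom) (m (γ f)) := hm (γ f)
      exact IsHomLift.fac' 𝒮.p (u.map f.obj.hom) (m (γ f))
    refine ⟨A, rfl, fun f => { fst := eqToHom (c.w_obj f) ≫ f.obj.hom, snd := lam f ≫ m (γ f), w := ?_ },
      fun f => ?_, fun {f f'} φ => CategoricalPullback.hom_ext ?_ ?_⟩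
    · rw [𝒮.p.map_comp, hlam₁, hmγ]
      simp [A, dn, down, eqToHom_map]
    · exact IsHomLift.of_fac (pb u 𝒮).p _ _ (c.w_obj f) rfl (by
        change f.obj.hom = eqToHom (c.w_obj f).symm ≫ (eqToHom (c.w_obj f) ≫ f.obj.hom) ≫ 𝟙 U
        simp)
    · change (c.map φ).fst ≫ eqToHom (c.w_obj f') ≫ f'.obj.hom = eqToHom (c.w_obj f) ≫ f.obj.hom
      rw [map_fst c φ]
      simp
    · let ψ : γ f ⟶ γ f' := ObjectProperty.homMk (Over.homMk (u.map φ.hom.left) (by
        change u.map φ.hom.left ≫ u.map f'.obj.hom = u.map f.obj.hom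
        rw [← u.map_comp, Over.w]))
      change (c.map φ).snd ≫ lam f' ≫ m (γ f') = lam f ≫ m (γ f)
      have hψ : d ψ ≫ m (γ f') = m (γ f) := hmn ψ
      rw [← hψ, ← Category.assoc, ← Category.assoc]
      congr 1
      have hdn : ∀ f, 𝒮.p.map (lam f) = dn c f (𝟙 _) ≫ eqToHom (ht (γ f)).symm := hlam₁
      have hbase : 𝒮.p.map ((c.map φ).snd ≫ lam f') = 𝒮.p.map (lam f ≫ d ψ) := by
        rw [𝒮.p.map_comp, 𝒮.p.map_comp, hdn, hdn, (hd' ψ).1, ← Category.assoc (𝒮.p.map (c.map φ).snd), ← dn_pre,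
          Category.comp_id, ← Category.id_comp (c.map φ).snd, dn_comp]
        simp [ψ]
      refine IsFibGrpd.hom_ext' h𝒮 (e (γ f')) hbase ?_
      have r1 : Rel c (𝟙 (c.obj f).snd) (((c.map φ).snd ≫ lam f') ≫ e (γ f')) := by
        rw [Category.assoc]
        refine Rel.trans h𝒮 c (Rel.of_map c φ (𝟙 _)) ?_
        rw [Category.id_comp, ← Category.comp_id (c.map φ).snd]
        simpa only [Category.assoc, Category.id_comp] using Rel.pre c ((c.map φ).snd) (hlam₂ f')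
      have r2 : Rel c (𝟙 (c.obj f).snd) ((lam f ≫ d ψ) ≫ e (γ f')) := by
        rw [Category.assoc]
        exact Rel.trans h𝒮 c (hlam₂ f) (Rel.pre c (lam f) (hd' ψ).2)
      exact Rel.unique h𝒮 c r1 r2 (by rw [dn_pre, dn_pre, hbase])

end Stack

end GrothLib.Stk.Pullback
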