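import Groth.Prelude.Def_W4stkalgstUpp
import Groth.Agent.Lib.FibCat.FibGrpd
import Mathlib.CategoryTheory.Localization.CalculusOfFractions
import Mathlib.CategoryTheory.Limits.Preserves.Shapes.Pullbacks
import Mathlib.CategoryTheory.Limits.Preserves.Shapes.Equalizers
import Mathlib.CategoryTheory.Limits.Shapes.FiniteLimits
import Mathlib.CategoryTheory.Limits.Shapes.Pullback.IsPullback.Basic

/-!
# The category `u_p 𝒮`
-/

set_option backward.isDefEq.respectTransparency false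
set_option backward.isDefEq.respectTransparency.types false
set_option linter.unusedSectionVars false
set_option autoImplicit false

universe v₃ u₃ v₂ u₂ v u

open CategoryTheory CategoryTheory.Functor CategoryTheory.Limits

namespace GrothLib.Stk.Upp

variable {C : Type u} [Category.{v} C] {D : Type u₂} [Category.{v₂} D] (u : C ⥤ D)
  (𝒮 : BasedCategory.{v₃, u₃} C) [h𝒮 : 𝒮.p.IsFibered]

/-- Morphisms lying over their image: strongly cartesian lifts. -/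
theorem exists_lift (x : 𝒮.obj) {R : C} (f : R ⟶ 𝒮.p.obj x) :
    ∃ (y : 𝒮.obj) (κ : y ⟶ x) (h : 𝒮.p.obj y = R),
      𝒮.p.map κ = eqToHom h ≫ f ∧ 𝒮.p.IsStronglyCartesian (𝒮.p.map κ) κ := by
  obtain ⟨y, κ, hκ⟩ : ∃ (y : 𝒮.obj) (κ : y ⟶ x), 𝒮.p.IsStronglyCartesian f κ :=
    ⟨_, IsPreFibered.pullbackMap (p := 𝒮.p) rfl f, inferInstance⟩
  obtain rfl := IsHomLift.domain_eq 𝒮.p f κ
  obtain rfl := IsHomLift.eq_of_isHomLift 𝒮.p f κ
  exact ⟨y, κ, rfl, (Category.id_comp _).symm, hκ⟩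

omit h𝒮 in
theorem cart_ext {a b c : 𝒮.obj} (s : b ⟶ c) (hs : 𝒮.p.IsStronglyCartesian (𝒮.p.map s) s) {f g : a ⟶ b}
    (h₀ : 𝒮.p.map f = 𝒮.p.map g) (h : f ≫ s = g ≫ s) : f = g :=
  have : 𝒮.p.IsHomLift (𝒮.p.map f) g := h₀ ▸ IsHomLift.map 𝒮.p g
  IsStronglyCartesian.ext 𝒮.p (𝒮.p.map s) s (𝒮.p.map f) h

omit h𝒮 in
theorem cart_factor {a b c : 𝒮.obj} (s : b ⟶ c) (hs : 𝒮.p.IsStronglyCartesian (𝒮.p.map s) s) (ψ : a ⟶ c)
    (g : 𝒮.p.obj a ⟶ 𝒮.p.obj b) (e : g ≫ 𝒮.p.map s = 𝒮.p.map ψ) : ∃ χ : a ⟶ b, 𝒮.p.map χ = g ∧ χ ≫ s = ψ := by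
  have : 𝒮.p.IsHomLift (g ≫ 𝒮.p.map s) ψ := e ▸ IsHomLift.map 𝒮.p ψ
  obtain ⟨χ, ⟨h1, h2⟩, -⟩ := IsStronglyCartesian.universal_property 𝒮.p (𝒮.p.map s) s g _ rfl ψ
  exact ⟨χ, (IsHomLift.eq_of_isHomLift 𝒮.p g χ).symm, h2⟩

omit h𝒮 in
theorem id_mem (a : _root_.Stk.UppObj u 𝒮) : _root_.Stk.uppR u 𝒮 (𝟙 a) :=
  ⟨IsStronglyCartesian.of_isIso 𝒮.p (𝒮.p.map (𝟙 a.x)) (𝟙 a.x), inferInstanceAs (IsIso (𝟙 a.V))⟩

omit h𝒮 in
theorem comp_mem {a b c : _root_.Stk.UppObj u 𝒮} (f : a ⟶ b) (g : b ⟶ c) (hf : _root_.Stk.uppR u 𝒮 f)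
    (hg : _root_.Stk.uppR u 𝒮 g) : _root_.Stk.uppR u 𝒮 (f ≫ g) := by
  have := hf.1; have := hg.1; have := hf.2; have := hg.2
  refine ⟨?_, inferInstanceAs (IsIso (f.bot ≫ g.bot))⟩
  change 𝒮.p.IsStronglyCartesian (𝒮.p.map (f.top ≫ g.top)) (f.top ≫ g.top)
  rw [Functor.map_comp]
  infer_instance

theorem hasRightCalculusOfFractions [HasPullbacks C] [HasEqualizers C]
    [PreservesLimitsOfShape WalkingCospan u] [PreservesLimitsOfShape WalkingParallelPair u] :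
    (_root_.Stk.uppR u 𝒮).HasRightCalculusOfFractions where
  id_mem a := id_mem u 𝒮 a
  comp_mem f g hf hg := comp_mem u 𝒮 f g hf hg
  exists_rightFraction X Y φ := by
    have := φ.hs.2
    let pf := 𝒮.p.map φ.f.top
    let ps := 𝒮.p.map φ.s.top
    obtain ⟨x', κ, hx, hκ, hκc⟩ := exists_lift 𝒮 X.x (pullback.fst pf ps)
    obtain ⟨χ, hχ, hχ'⟩ := cart_factor 𝒮 φ.s.top φ.hs.1 (κ ≫ φ.f.top) (eqToHom hx ≫ pullback.snd pf ps) (by
      rw [Functor.map_comp, hκ, Category.assoc, Category.assoc, pullback.condition])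
    have hP := (IsPullback.of_hasPullback pf ps).map u
    have e : X.φ ≫ u.map pf = (φ.f.bot ≫ inv φ.s.bot ≫ Y.φ) ≫ u.map ps := by
      simp only [pf, ps]
      rw [φ.f.w, Category.assoc, Category.assoc, φ.s.w, IsIso.inv_hom_id_assoc]
    let X' : _root_.Stk.UppObj u 𝒮 := ⟨x', X.V, hP.lift X.φ _ e ≫ u.map (eqToHom hx.symm)⟩
    let s' : X' ⟶ X :=
      { top := κ
        bot := 𝟙 X.V
        w := by simp [X', hκ, eqToHom_map] }
    let f' : X' ⟶ Y :=
      { top := χ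
        bot := φ.f.bot ≫ inv φ.s.bot
        w := by simp [X', hχ, eqToHom_map] }
    exact ⟨⟨s', ⟨hκc, inferInstanceAs (IsIso (𝟙 X.V))⟩, f'⟩,
      _root_.Stk.UppObj.hom_ext hχ'.symm (by
        change 𝟙 X.V ≫ φ.f.bot = (φ.f.bot ≫ inv φ.s.bot) ≫ φ.s.bot
        simp)⟩
  ext X Y Y' f₁ f₂ s hs e := by
    have := hs.2
    have hb : f₁.bot = f₂.bot :=
      (cancel_mono s.bot).1 (congrArg _root_.Stk.UppObj.Hom.bot e)
    let p₁ := 𝒮.p.map f₁.top
    let p₂ := 𝒮.p.map f₂.top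
    obtain ⟨x', κ, hx, hκ, hκc⟩ := exists_lift 𝒮 X.x (equalizer.ι p₁ p₂)
    have hE := isLimitForkMapOfIsLimit u (equalizer.condition p₁ p₂) (equalizerIsEqualizer p₁ p₂)
    have eφ : X.φ ≫ u.map p₁ = X.φ ≫ u.map p₂ := by
      simp only [p₁, p₂]; rw [f₁.w, f₂.w, hb]
    obtain ⟨l, hl⟩ := Fork.IsLimit.lift' hE X.φ eφ
    simp only [Fork.ι_ofι] at hl
    let X' : _root_.Stk.UppObj u 𝒮 := ⟨x', X.V, l ≫ u.map (eqToHom hx.symm)⟩
    let t : X' ⟶ X :=
      { top := κ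
        bot := 𝟙 X.V
        w := by simp [X', hκ, eqToHom_map, hl] }
    refine ⟨X', t, ⟨hκc, inferInstanceAs (IsIso (𝟙 X.V))⟩, _root_.Stk.UppObj.hom_ext ?_ ?_⟩
    · change κ ≫ f₁.top = κ ≫ f₂.top
      refine cart_ext 𝒮 s.top hs.1 ?_ ?_
      · rw [Functor.map_comp, Functor.map_comp, hκ, Category.assoc, Category.assoc]
        exact congrArg (eqToHom hx ≫ ·) (equalizer.condition p₁ p₂)
      · rw [Category.assoc, Category.assoc]
        exact congrArg (κ ≫ ·) (congrArg _root_.Stk.UppObj.Hom.top e)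
    · change 𝟙 X.V ≫ f₁.bot = 𝟙 X.V ≫ f₂.bot
      rw [hb]

section Localized

variable [hW : (_root_.Stk.uppR u 𝒮).HasRightCalculusOfFractions]

local notation "W" => _root_.Stk.uppR u 𝒮

omit h𝒮 in
/-- The structure functor on morphisms of the localisation. -/
theorem proj_map {a b : _root_.Stk.UppObj u 𝒮} (f : a ⟶ b) :
    (_root_.Stk.up u 𝒮).p.map ((W).Q.map f) = f.bot :=
  (Functor.congr_hom (Localization.Construction.fac (_root_.Stk.UppObj.forget u 𝒮)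
    (_root_.Stk.uppR_isInvertedBy u 𝒮)) f).trans ((Category.id_comp _).trans (Category.comp_id _))

omit h𝒮 in
theorem exists_fraction {a b : _root_.Stk.UppObj u 𝒮} (ψ : (W).Q.obj a ⟶ (W).Q.obj b) :
    ∃ (a' : _root_.Stk.UppObj u 𝒮) (s : a' ⟶ a) (f : a' ⟶ b), W s ∧ (W).Q.map s ≫ ψ = (W).Q.map f := by
  obtain ⟨φ, hφ⟩ := Localization.exists_rightFraction (W).Q W ψ
  refine ⟨φ.X', φ.s, φ.f, φ.hs, ?_⟩
  rw [hφ]
  exact MorphismProperty.RightFraction.map_s_comp_map φ (W).Q _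

omit h𝒮 in
/-- Changing the structure map along a morphism of `D` gives a strongly cartesian arrow. -/
theorem isStronglyCartesian_restrict (a : _root_.Stk.UppObj u 𝒮) {V : D} (g : V ⟶ a.V) :
    (_root_.Stk.up u 𝒮).p.IsStronglyCartesian g
      ((W).Q.map ({ top := 𝟙 a.x, bot := g, w := (congrArg ((g ≫ a.φ) ≫ ·) ((congrArg u.map (𝒮.p.map_id a.x)).trans (u.map_id _))).trans (Category.comp_id _) } :
        ({ x := a.x, V := V, φ := g ≫ a.φ } : _root_.Stk.UppObj u 𝒮) ⟶ a)) := by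
  set a' : _root_.Stk.UppObj u 𝒮 := { x := a.x, V := V, φ := g ≫ a.φ } with ha'
  set m : a' ⟶ a := { top := 𝟙 a.x, bot := g, w := (congrArg ((g ≫ a.φ) ≫ ·) ((congrArg u.map (𝒮.p.map_id a.x)).trans (u.map_id _))).trans (Category.comp_id _) } with hm
  have hlift : (_root_.Stk.up u 𝒮).p.IsHomLift g ((W).Q.map m) :=
    IsHomLift.of_fac' (_root_.Stk.up u 𝒮).p g _ rfl rfl (by rw [proj_map]; simp [hm])
  refine { universal_property' := fun {z} g' ψ hψ => ?_ }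
  obtain ⟨b, rfl⟩ := (Localization.Construction.objEquiv W).surjective z
  obtain ⟨b', s, f, hs, hsf⟩ := exists_fraction u 𝒮 (a := b) (b := a) ψ
  have hψ' : @Eq (_ ⟶ a.V) (g' ≫ g) ((_root_.Stk.up u 𝒮).p.map ψ) :=
    IsHomLift.eq_of_isHomLift (_root_.Stk.up u 𝒮).p (b := (W).Q.obj a) (g' ≫ g :) ψ
  have hbot : s.bot ≫ g' ≫ g = f.bot := by
    rw [hψ', ← proj_map u 𝒮 s]
    exact (((_root_.Stk.up u 𝒮).p.map_comp _ _).symm.trans (congrArg _ hsf)).trans (proj_map u 𝒮 f)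
  let χ₀ : b' ⟶ a' :=
    { top := f.top
      bot := s.bot ≫ g'
      w := by
        change b'.φ ≫ u.map (𝒮.p.map f.top) = (s.bot ≫ g') ≫ g ≫ a.φ
        rw [f.w, ← hbot]
        simp only [Category.assoc] }
  have : IsIso ((W).Q.map s) := Localization.inverts (W).Q W s hs
  have hm0 : χ₀ ≫ m = f := _root_.Stk.UppObj.hom_ext (Category.comp_id _) ((Category.assoc _ _ _).trans hbot)
  refine ⟨inv ((W).Q.map s) ≫ (W).Q.map χ₀, ⟨?_, ?_⟩, fun χ ⟨k1, k2⟩ => ?_⟩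
  · refine IsHomLift.of_fac' (_root_.Stk.up u 𝒮).p g' _ rfl rfl ?_
    have h1 : (_root_.Stk.up u 𝒮).p.map ((W).Q.map s) ≫
        (_root_.Stk.up u 𝒮).p.map (inv ((W).Q.map s) ≫ (W).Q.map χ₀) = s.bot ≫ g' := by
      refine ((_root_.Stk.up u 𝒮).p.map_comp _ _).symm.trans ?_
      refine (congrArg _ (IsIso.hom_inv_id_assoc ((W).Q.map s) _)).trans ?_
      exact proj_map u 𝒮 χ₀
    rw [proj_map] at h1
    have := hs.2
    simpa using (cancel_epi s.bot).1 h1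
  · rw [Category.assoc, ← Functor.map_comp, hm0, ← hsf, IsIso.inv_hom_id_assoc]
  · obtain ⟨b'', t, h, ht, hth⟩ := exists_fraction u 𝒮 (a := b') (b := a') ((W).Q.map s ≫ χ)
    have : IsIso ((W).Q.map t) := Localization.inverts (W).Q W t ht
    have k1' : (_root_.Stk.up u 𝒮).p.map χ = g' := (IsHomLift.eq_of_isHomLift (_root_.Stk.up u 𝒮).p g' χ).symm
    have hb : h.bot = (t ≫ χ₀).bot := by
      rw [← proj_map u 𝒮 h, ← hth]
      refine ((_root_.Stk.up u 𝒮).p.map_comp _ _).trans ?_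
      change _ = t.bot ≫ s.bot ≫ g'
      rw [← k1', ← proj_map u 𝒮 t, ← proj_map u 𝒮 s]
      exact congrArg _ ((_root_.Stk.up u 𝒮).p.map_comp _ _)
    have he : (W).Q.map (h ≫ m) = (W).Q.map ((t ≫ χ₀) ≫ m) := by
      rw [Functor.map_comp, ← hth, Category.assoc (t) χ₀ m, hm0, Functor.map_comp, ← hsf]
      simp only [Category.assoc]
      rw [show χ ≫ (W).Q.map m = ψ from k2]
    obtain ⟨c, r, hr, er⟩ := (MorphismProperty.map_eq_iff_precomp (W).Q W _ _).1 he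
    have : IsIso ((W).Q.map r) := Localization.inverts (W).Q W r hr
    have er' : r ≫ h = r ≫ t ≫ χ₀ := _root_.Stk.UppObj.hom_ext
      (by
        have h' : r.top ≫ h.top ≫ 𝟙 a.x = r.top ≫ (t.top ≫ χ₀.top) ≫ 𝟙 a.x :=
          congrArg _root_.Stk.UppObj.Hom.top er
        exact (congrArg (r.top ≫ ·) (Category.comp_id h.top).symm).trans
          (h'.trans (congrArg (r.top ≫ ·) (Category.comp_id (t.top ≫ χ₀.top)))))
      (congrArg (r.bot ≫ ·) hb)
    have e2 : (W).Q.map h = (W).Q.map (t ≫ χ₀) := by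
      rw [← cancel_epi ((W).Q.map r), ← Functor.map_comp, ← Functor.map_comp, er']
    rw [← hth, Functor.map_comp, cancel_epi] at e2
    rw [← e2, IsIso.inv_hom_id_assoc]

omit h𝒮 in
theorem isFibered_up : (_root_.Stk.up u 𝒮).p.IsFibered :=
  Functor.IsFibered.of_exists_isStronglyCartesian fun z R g => by
    obtain ⟨a, rfl⟩ := (Localization.Construction.objEquiv W).surjective z
    exact ⟨_, _, isStronglyCartesian_restrict u 𝒮 a (V := R) g⟩

omit h𝒮 in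
theorem isFibGrpd_up (h : _root_.FibCat.IsFibGrpd 𝒮.p) : _root_.FibCat.IsFibGrpd (_root_.Stk.up u 𝒮).p where
  exists_lift := fun {z R} g => by
    obtain ⟨a, rfl⟩ := (Localization.Construction.objEquiv W).surjective z
    have := isStronglyCartesian_restrict u 𝒮 a (V := R) g
    exact ⟨_, _, this.toIsHomLift⟩
  isStronglyCartesian := fun {z' z} ψ => by
    obtain ⟨a, rfl⟩ := (Localization.Construction.objEquiv W).surjective z
    obtain ⟨b, rfl⟩ := (Localization.Construction.objEquiv W).surjective z'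
    obtain ⟨b', s, f, hs, hsf⟩ := exists_fraction u 𝒮 (a := b) (b := a) ψ
    have : IsIso ((W).Q.map s) := Localization.inverts (W).Q W s hs
    let a' : _root_.Stk.UppObj u 𝒮 := { x := a.x, V := b'.V, φ := f.bot ≫ a.φ }
    let m : a' ⟶ a := { top := 𝟙 a.x, bot := f.bot, w := by simp [a'] }
    let f₀ : b' ⟶ a' := { top := f.top, bot := 𝟙 b'.V, w := by simp [a', f.w] }
    have hf₀ : IsIso ((W).Q.map f₀) := Localization.inverts (W).Q W f₀
      ⟨h.isStronglyCartesian f.top, inferInstanceAs (IsIso (𝟙 b'.V))⟩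
    have hm := isStronglyCartesian_restrict u 𝒮 a (V := b'.V) f.bot
    have e : ψ = (inv ((W).Q.map s) ≫ (W).Q.map f₀) ≫ (W).Q.map m := by
      have hfm : f₀ ≫ m = f := _root_.Stk.UppObj.hom_ext (Category.comp_id _) (Category.id_comp _)
      rw [Category.assoc, ← Functor.map_comp, hfm, ← hsf, IsIso.inv_hom_id_assoc]
    let i := inv ((W).Q.map s) ≫ (W).Q.map f₀
    have : IsIso i := inferInstance
    have : (_root_.Stk.up u 𝒮).p.IsStronglyCartesian ((_root_.Stk.up u 𝒮).p.map i) i :=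
      IsStronglyCartesian.of_isIso _ _ i
    have hm' : (_root_.Stk.up u 𝒮).p.IsStronglyCartesian f.bot ((W).Q.map m) := hm
    have := IsStronglyCartesian.comp (p := (_root_.Stk.up u 𝒮).p) (f := (_root_.Stk.up u 𝒮).p.map i) (φ := i)
      (g := f.bot) (ψ := (W).Q.map m)
    rw [e]
    have hfb : (_root_.Stk.up u 𝒮).p.map (i ≫ (W).Q.map m) = (_root_.Stk.up u 𝒮).p.map i ≫ f.bot :=
      ((_root_.Stk.up u 𝒮).p.map_comp _ _).trans (congrArg _ (proj_map u 𝒮 m))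
    exact hfb ▸ this

end Localized

theorem finite_limits_hyps
    (hC : ∀ (I : Type) [SmallCategory I] [FinCategory I], Nonempty I → HasLimitsOfShape I C)
    (hu : ∀ (I : Type) [SmallCategory I] [FinCategory I], Nonempty I → PreservesLimitsOfShape I u) :
    (_root_.Stk.uppR u 𝒮).HasRightCalculusOfFractions :=
  have : HasPullbacks C := hC WalkingCospan ⟨none⟩
  have : HasEqualizers C := hC WalkingParallelPair ⟨.zero⟩
  have := hu WalkingCospan ⟨none⟩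
  have := hu WalkingParallelPair ⟨.zero⟩
  hasRightCalculusOfFractions u 𝒮

end GrothLib.Stk.Upp
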